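import Cfsg.Agent.TAB.B.D.WC
import Cfsg.Agent.Lib.ListFast
import Cfsg.Agent.Lib.NodupNat
import Cfsg.Agent.TAB.B.C2.R1_m3
import Cfsg.Agent.TAB.B.C2.Tab_m3
import Cfsg.Agent.Prune
set_option linter.all false

-- part: TAB/B/D/WD
section
set_option linter.all false
open scoped Cfsg.Agent.FastGrp

/-- decoders of the packed data (elaboration time only) -/
private noncomputable def pk61d (b S i : Nat) : Nat := Nat.mod (Nat.shiftRight S (Nat.mul b i)) (Nat.shiftLeft (nat_lit 1) b)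
private noncomputable def pk61c {α : Type} (t : Nat) (a : α) (f : Nat → α) : α := Nat.rec a (fun k _ => f k) t
private noncomputable def pk61f {α : Type} (t : Nat) (f : Nat → α) : α := Nat.rec (f Nat.zero) (fun k _ => f (Nat.succ k)) t
private noncomputable def pk61l {α : Type} (f : Nat → α) (s e : Nat) (tl : List α) : List α :=
  pk61f e fun e => Nat.rec tl (fun k ih => List.cons (pk61f (Nat.sub e (Nat.succ k)) f) ih) (Nat.sub e s)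

/-!
# Orbits in the section of the class 5B (helper14, TAB)
-/

set_option autoImplicit false
set_option maxRecDepth 100000
set_option Elab.async false

namespace Cfsg.Agent.TAB.B.D

open Cfsg.Agent.BabyM.Conc Cfsg.Agent.H819.U33 Cfsg.Agent.BMx.Fast Cfsg.Agent.TAB.B.Tr

/-! ### the checks in pieces -/

theorem comA_app {h : List Ltr} {S T : List (List Ltr)} (h1 : comA h S = true) (h2 : comA h T = true) :
    comA h (S ++ T) = true := by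
  induction S with
  | nil => exact h2
  | cons t S ih =>
    have h3 : and (eqF (t ++ h) (h ++ t)) (comA h S) = true := h1
    rw [Bool.and_eq_true] at h3
    show and (eqF (t ++ h) (h ++ t)) (comA h (S ++ T)) = true
    rw [h3.1, ih h3.2]
    rfl

theorem comA_step {h : List Ltr} {T : List (List Ltr)} (a n : ℕ) (h1 : comA h ((T.drop a).take n) = true)
    (h2 : comA h (T.drop (a + n)) = true) : comA h (T.drop a) = true := by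
  have h3 := comA_app h1 h2
  rwa [← List.drop_drop, List.take_append_drop] at h3

theorem comA_end {h : List Ltr} {T : List (List Ltr)} {n : ℕ} (hn : T.length ≤ n) : comA h (T.drop n) = true := by
  rw [List.drop_of_length_le hn]
  rfl

/-- a run fails or passes one number to the continuation -/
def DetK (f : (ℕ → Bool) → Bool) : Prop := (∀ k, f k = false) ∨ ∃ y, ∀ k, f k = k y

private theorem detK_rec {f : (ℕ → Bool) → Bool} (h : DetK f) : ∀ b : Bool, DetK fun k => Bool.rec false (f k) b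
  | false => Or.inl fun _ => rfl
  | true => h

private theorem detK_gen (F1 : Lib.PermNet.Net → ℕ → ℕ → ℕ) (F2 F3 : ℕ → ℕ → ℕ → ℕ) (F4 : ℕ → ℕ) (F5 : ℕ → Bool)
    (F6 : ℕ → ℕ → ℕ → ℕ → ℕ) (P : Monster.VecEngine.Prog) : ∀ c x, DetK
      (Monster.VecEngine.Prog.rec (motive := fun _ => ℕ → ℕ → (ℕ → Bool) → Bool) (fun _ x k => Lib.PermNet.seqB x k)
        (fun N _ ih c x k => ih (Nat.pred c) (F1 N c x) k) (fun M _ ih c x k => ih (Nat.succ c) (F2 M c x) k)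
        (fun M _ ih c x k => ih (Nat.succ c) (F3 M c x) k) (fun _ ih c x k => Bool.rec false (ih c (F4 x) k) (F5 x))
        (fun M d _ ih c x k => ih (Nat.succ c) (F6 M d c x) k) P c x) := by
  induction P with
  | nil => exact fun _ x => Or.inr ⟨x, fun k => Lib.PermNet.seqB_eq x k⟩
  | perm N P ih => exact fun _ _ => ih _ _
  | neg M P ih => exact fun _ _ => ih _ _
  | dbl M P ih => exact fun _ _ => ih _ _
  | half P ih =>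
    exact fun c x => detK_rec (ih c (F4 x)) (F5 x)
  | bfly M d P ih => exact fun _ _ => ih _ _

theorem detK_runP (l : ℕ) (P : Monster.VecEngine.Prog) : ∀ c x, DetK (runP l P c x) :=
  detK_gen (fun N c x => netF l N c x) (fun M c x => negF (spr l c M) x) (fun M c x => dblF (spr l c M) x) halfF
    (fun x => Nat.beq (Nat.land x one) 0) (fun M d c x => bflyF (spr l c M) (Nat.mul 18 d) x) P

theorem detK_runW (w : List Ltr) : ∀ x, DetK (runW w x) := by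
  induction w with
  | nil => exact fun x => Or.inr ⟨x, fun _ => rfl⟩
  | cons l w ih =>
    intro x
    show DetK fun k => step l x fun y => runW w y k
    obtain ⟨n, hn⟩ := step_eq l
    rw [hn]
    rcases detK_runP n l.prog 0 x with h | ⟨y, h⟩
    · exact Or.inl fun k => h _
    · rcases ih y with h1 | ⟨z, h1⟩
      · exact Or.inl fun k => (h _).trans (h1 k)
      · exact Or.inr ⟨z, fun k => (h _).trans (h1 k)⟩

/-- the residue of the register -/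
noncomputable def hsV (y t : List Ltr) (h : ℕ) : Bool := runW (cj t y) x0 fun r => Nat.beq (Nat.mod r 1000000007) h

/-- the residues of the registers -/
noncomputable def hsA (y : List Ltr) (T : List (List Ltr)) : List ℕ → Bool :=
  List.rec (motive := fun _ => List ℕ → Bool) (fun H => List.rec true (fun _ _ _ => false) H)
    (fun t _ ih H => List.rec false (fun h H _ => and (hsV y t h) (ih H)) H) T

/-- the same as a proposition -/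
def HsP (y : List Ltr) (T : List (List Ltr)) (H : List ℕ) : Prop := List.Forall₂ (fun t h => hsV y t h = true) T H

theorem hsP_of {y : List Ltr} {T : List (List Ltr)} : ∀ {H : List ℕ}, hsA y T H = true → HsP y T H := by
  induction T with
  | nil =>
    rintro (_ | ⟨h, H⟩) h1
    · exact List.Forall₂.nil
    · exact absurd h1 Bool.false_ne_true
  | cons t T ih =>
    rintro (_ | ⟨h, H⟩) h1
    · exact absurd h1 Bool.false_ne_true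
    · have h2 : and (hsV y t h) (hsA y T H) = true := h1
      rw [Bool.and_eq_true] at h2
      exact List.Forall₂.cons h2.1 (ih h2.2)

theorem hsP_step {y : List Ltr} {T : List (List Ltr)} {H : List ℕ} (a n : ℕ)
    (h1 : hsA y ((T.drop a).take n) ((H.drop a).take n) = true) (h2 : HsP y (T.drop (a + n)) (H.drop (a + n))) :
    HsP y (T.drop a) (H.drop a) := by
  have h3 : HsP y (_ ++ _) (_ ++ _) := List.rel_append (hsP_of h1) h2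
  rwa [← List.drop_drop, ← List.drop_drop, List.take_append_drop, List.take_append_drop] at h3

theorem hsP_end {y : List Ltr} {T : List (List Ltr)} {H : List ℕ} {n : ℕ} (h1 : T.length ≤ n) (h2 : H.length ≤ n) :
    HsP y (T.drop n) (H.drop n) := by
  rw [List.drop_of_length_le h1, List.drop_of_length_le h2]
  exact List.Forall₂.nil

theorem newR_of {r : ℕ} {L : List ℕ} (h : ∀ a ∈ L, r ≠ a) : newR r L = true := by
  induction L with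
  | nil => rfl
  | cons b L ih =>
    show and (not (Nat.beq r b)) (newR r L) = true
    rw [ih fun a ha => h a (List.mem_cons_of_mem _ ha), Bool.and_true, Bool.not_eq_true', ← Bool.not_eq_true]
    exact fun h1 => h b List.mem_cons_self (Nat.eq_of_beq_eq_true h1)

theorem orbA_of_hsP {y : List Ltr} {T : List (List Ltr)} {H : List ℕ} (h : HsP y T H) :
    ∀ {L : List ℕ}, H.Nodup → (∀ a ∈ L, a % 1000000007 ∉ H) → orbA y T L = true := by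
  induction h with
  | nil => exact fun _ _ => rfl
  | @cons t h T H h1 _ ih =>
    intro L hn hL
    show runW (cj t y) x0 (fun r => and (newR r L) (orbA y T (r :: L))) = true
    rcases detK_runW (cj t y) x0 with h2 | ⟨r, h2⟩
    · exact absurd ((h2 _).symm.trans h1) Bool.false_ne_true
    · have h3 : r % 1000000007 = h := Nat.eq_of_beq_eq_true ((h2 _).symm.trans h1)
      rw [List.nodup_cons] at hn
      rw [h2, Bool.and_eq_true]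
      refine ⟨newR_of fun a ha e => hL a ha (by rw [← e, h3]; exact List.mem_cons_self), ih hn.2 fun a ha => ?_⟩
      rcases List.mem_cons.1 ha with rfl | ha
      · rw [h3]
        exact hn.1
      · exact fun h4 => hL a ha (List.mem_cons_of_mem _ h4)

/-- words which commute with `w10F` -/
def B10F : List (List Ltr) :=
[[], [.z], [.Z10, .Z9, .Z7, .Z3, .Z2, .X10, .X9, .X8, .X7, .X4], [.Z8, .Z6, .Z4, .Z3, .Z1, .X9, .X4, .X3, .X2, .X1,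
  .X0], [.z, .Z10, .Z9, .Z7, .Z3, .Z2, .X10, .X9, .X8, .X7, .X4], [.z, .Z8, .Z6, .Z4, .Z3, .Z1, .X9, .X4, .X3, .X2,
  .X1, .X0], [.Z10, .Z9, .Z8, .Z7, .Z6, .Z4, .Z2, .Z1, .X10, .X8, .X7, .X3, .X2, .X1, .X0], [.z, .Z10, .Z9, .Z8, .Z7,
  .Z6, .Z4, .Z2, .Z1, .X10, .X8, .X7, .X3, .X2, .X1, .X0], [.Z10, .Z6, .Z4, .Z2, .Z0, .X9, .X7, .X3, .y5, .y4, .y2,
  .y1, .p3, .hi, .p6, .hi, .p6, .hi, .p6, .hi, .p4, .hi, .p9, .xii, .p10, .hi, .p6, .xii, .y2, .p10, .hi], [.Z7, .Z6,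
  .Z1, .X7, .X6, .X5, .y10, .y7, .y5, .y4, .p9, .hi, .p3, .hi, .p10, .hi, .p4, .hi, .p5, .hi, .xii, .p5, .hi, .p8,
  .hi, .X0, .y1, .p9, .xii, .p, .hi], [.Z9, .Z6, .Z5, .Z3, .X8, .X5, .X3, .X2, .y8, .y5, .y4, .y1, .p8, .hi, .p9, .hi,
  .p6, .hi, .p7, .hi, .p3, .xii, .p, .xii, .hi, .p10, .y8, .p9, .xii, .p, .xii], [.Z10, .Z7, .Z6, .Z4, .Z3, .Z2, .X10,
  .X9, .X4, .p6, .hi, .p, .hi, .p3, .hi, .p6, .hi, .p3, .xii, .hi, .p8, .xii, .y9, .y10, .p2, .X0, .p9, .xii, .y2,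
  .p3, .xii, .y3], [.Z10, .Z8, .Z7, .Z2, .Z1, .Z0, .X10, .X9, .X6, .X4, .X1, .X0, .p6, .hi, .p, .hi, .p3, .hi, .p6,
  .hi, .p3, .xii, .hi, .p8, .xii, .y9, .y10, .xii, .y2, .p3, .xii, .y3], [.Z10, .Z9, .Z5, .X10, .X9, .X6, .X1, .y6,
  .p10, .hi, .p10, .hi, .p10, .hi, .p8, .hi, .p3, .hi, .p2, .hi, .xii, .p2, .hi, .xii, .y4, .y5, .p, .xii, .y3, .p10,
  .xii, .y8], [.Z10, .Z9, .Z6, .Z1, .X10, .X7, .X4, .X3, .y7, .y2, .hi, .p7, .hi, .p4, .hi, .p, .hi, .p5, .hi, .xii,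
  .hi, .xii, .y8, .p6, .xii, .y4, .y7, .p5, .xii, .y8, .p6, .xii], [.Z9, .Z3, .X10, .X3, .X2, .y6, .p10, .hi, .p10,
  .hi, .p10, .hi, .p8, .hi, .p3, .hi, .p2, .hi, .xii, .p2, .hi, .xii, .y4, .y5, .p3, .X0, .p9, .xii, .y3, .p10, .xii,
  .y8], [.Z10, .Z9, .Z1, .X10, .X8, .X7, .X6, .X4, .y10, .y9, .p10, .hi, .p10, .hi, .p4, .hi, .p7, .hi, .p3, .hi, .p,
  .hi, .p7, .xii, .p2, .hi, .xii, .X0, .p5, .xii, .y5, .p10, .xii], [.Z10, .Z9, .Z7, .Z6, .Z0, .X7, .X4, .X1, .X0,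
  .y8, .y5, .y4, .y1, .p8, .hi, .p9, .hi, .p6, .hi, .p7, .hi, .p3, .xii, .p, .xii, .hi, .p10, .y8, .X0, .p9, .xii, .p,
  .xii], [.Z8, .Z2, .X8, .X6, .X4, .y10, .y8, .y5, .y3, .y2, .y1, .p2, .hi, .p3, .hi, .p6, .hi, .p, .hi, .p4, .hi,
  .p3, .xii, .p10, .xii, .y8, .p10, .xii, .y8, .p4, .xii, .y4, .hi], [.Z9, .Z2, .Z1, .X10, .X8, .X5, .X2, .X1, .y10,
  .y9, .y6, .y4, .y3, .y1, .p7, .hi, .p6, .hi, .p5, .hi, .p4, .hi, .p10, .xii, .p, .xii, .y6, .p3, .hi, .X0, .p9,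
  .xii, .y4], [.Z9, .Z8, .Z7, .Z3, .Z2, .Z1, .X10, .X8, .X6, .y3, .hi, .p7, .hi, .p6, .hi, .p, .hi, .p7, .hi, .p2,
  .hi, .xii, .p, .xii, .p2, .hi, .p5, .y1, .p10, .xii, .p5, .xii, .y2], [.Z10, .Z5, .Z4, .Z3, .Z1, .Z0, .X9, .X5, .X3,
  .X0, .y10, .y9, .p10, .hi, .p10, .hi, .p4, .hi, .p7, .hi, .p3, .hi, .p, .hi, .p7, .xii, .p2, .hi, .xii, .p5, .xii,
  .y5, .p10, .xii], [.Z6, .Z4, .Z1, .Z0, .X10, .X9, .X6, .X4, .X2, .X1, .X0, .y10, .y6, .y5, .y3, .y2, .p9, .hi, .p4,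
  .hi, .p3, .hi, .p7, .hi, .p8, .xii, .y2, .p, .xii, .p, .xii, .y1, .p8, .xii, .y1], [.Z7, .Z4, .Z1, .X8, .X7, .X4,
  .X2, .y9, .y3, .p10, .hi, .p4, .hi, .p5, .hi, .p, .hi, .p8, .xii, .y2, .p, .xii, .p9, .xii, .y8, .tau, .xii, .y6,
  .p, .xii, .y3, .tau, .y1, .p10, .xii, .p2, .xii, .y2, .taui, .xii, .p4, .xii, .p2, .hi, .y4, .tau, .xii, .p], [.Z8,
  .Z2, .X10, .X7, .X2, .y10, .y4, .y2, .p2, .hi, .p3, .hi, .p5, .hi, .p7, .hi, .p9, .xii, .p10, .xii, .p6, .xii, .y7,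
  .taui, .y1, .xii, .y2, .hi, .xii, .p10, .xii, .y4, .tau, .y1, .xii, .p10, .xii, .y4, .p10, .xii, .tau, .p2, .xii,
  .p9, .xii, .y9, .taui, .xii, .p6, .xii, .y3, .p2, .xii, .y9, .taui, .xii, .p10, .xii], [.Z8, .Z2, .Z0, .X10, .X9,
  .X7, .X5, .X3, .X0, .y5, .y4, .y2, .p7, .hi, .p7, .hi, .p5, .hi, .p3, .hi, .p8, .xii, .p3, .hi, .xii, .p10, .y7,
  .taui, .xii, .p, .xii, .y1, .hi, .xii, .y5, .y10, .taui, .xii, .y2, .hi, .p8, .xii, .y10, .p8, .xii, .y7, .p4, .xii,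
  .taui, .xii, .p7, .xii, .y2, .p5, .xii, .tau, .xii, .p], [.Z10, .Z7, .Z4, .X3, .X2, .X0, .y8, .y7, .y5, .y3, .y2,
  .hi, .p9, .hi, .p5, .hi, .p3, .hi, .p, .hi, .p8, .hi, .xii, .y2, .p, .hi, .xii, .y5, .p3, .tau, .xii, .y1, .p, .xii,
  .p, .xii, .y2, .y3, .tau, .y1, .xii, .y1, .p5, .xii, .p8, .xii, .y9, .tau, .xii, .p7, .xii, .y1, .p7, .xii, .taui,
  .xii, .y2, .hi, .p9], [.Z10, .Z8, .Z7, .Z5, .Z1, .X4, .X3, .y10, .y9, .y7, .y1, .hi, .p4, .hi, .p7, .hi, .p4, .hi,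
  .p8, .hi, .p10, .xii, .p10, .xii, .y6, .p8, .xii, .tau, .xii, .p, .xii, .y1, .hi, .xii, .y5, .taui, .xii, .p, .xii,
  .hi, .y8, .xii, .y1, .y9, .taui, .p5, .xii, .p10, .xii, .tau, .xii, .p2, .xii, .p2, .xii, .y2, .y7, .taui, .xii,
  .p4], [.Z10, .Z9, .Z7, .Z4, .X10, .X6, .X4, .X3, .X1, .y10, .y5, .y3, .hi, .p4, .hi, .p3, .hi, .p4, .hi, .p3, .hi,
  .p, .xii, .p2, .hi, .xii, .taui, .y1, .xii, .y2, .hi, .xii, .p10, .xii, .y4, .y8, .taui, .xii, .y1, .p, .xii, .y10,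
  .p, .xii, .y6, .p9, .xii, .y6, .p2, .xii, .tau, .xii, .p6, .xii, .p6, .xii, .y5, .tau, .xii, .p7], [.Z5, .Z4, .Z3,
  .X10, .X9, .X7, .X4, .X3, .X0, .y9, .y6, .y4, .p3, .hi, .p7, .hi, .p7, .hi, .p8, .hi, .p, .hi, .p3, .xii, .p, .xii,
  .y6, .p3, .hi, .taui, .xii, .y6, .p, .xii, .p, .xii, .y7, .taui, .xii, .p10, .hi, .p2, .hi, .p4, .xii, .y3, .p,
  .xii, .taui, .xii, .p2, .xii, .hi, .xii, .y5, .taui, .xii, .p8, .xii, .y9], [.Z9, .Z5, .Z4, .Z2, .Z1, .Z0, .X8, .X5,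
  .X2, .X1, .y8, .y7, .y6, .y3, .p6, .hi, .p6, .hi, .p4, .hi, .p3, .hi, .p8, .xii, .p, .xii, .y3, .tau, .X0, .xii,
  .p3, .xii, .hi, .xii, .p8, .tau, .y1, .xii, .p10, .xii, .y5, .p10, .xii, .p9, .xii, .hi, .xii, .y9, .taui, .xii,
  .p7, .xii, .y1, .p10, .xii, .y6, .tau, .xii, .p5, .xii], [.Z9, .Z8, .Z6, .Z5, .Z1, .X9, .X3, .y10, .y6, .y1, .hi,
  .p4, .hi, .p, .hi, .p, .hi, .p8, .hi, .p6, .hi, .xii, .p10, .xii, .taui, .y1, .xii, .p10, .xii, .y5, .p10, .xii,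
  .y2, .y10, .tau, .xii, .y6, .hi, .p8, .xii, .y2, .p5, .xii, .p5, .xii, .y6, .tau, .xii, .p5, .xii, .y8, .y9, .p5,
  .xii, .y1, .tau, .xii, .y2, .hi, .p4], [.Z10, .Z4, .Z2, .X7, .X6, .y5, .y3, .y1, .p10, .hi, .p8, .hi, .p9, .hi,
  .p10, .hi, .p2, .hi, .p5, .xii, .hi, .xii, .p2, .xii, .y3, .taui, .xii, .p, .xii, .y2, .hi, .xii, .y7, .taui, .xii,
  .p, .xii, .hi, .y8, .xii, .y7, .y8, .X0, .p3, .xii, .p6, .xii, .y8, .tau, .xii, .y2, .p2, .xii, .p10, .y1, .xii,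
  .tau, .xii, .y2, .p5, .hi]]

theorem com10F_c0 : comA w10F ((B10F.drop 0).take 16) = true := by decide +kernel

theorem com10F_c1 : comA w10F ((B10F.drop 16).take 10) = true := by decide +kernel

theorem com10F_c2 : comA w10F ((B10F.drop 26).take 7) = true := by decide +kernel

theorem com10F : comA w10F B10F = true :=
(comA_step 0 16 com10F_c0 (comA_step 16 10 com10F_c1 (comA_step 26 7 com10F_c2 (comA_end (T := B10F) (n := 33)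
  (by decide +kernel)))))

/-- products of two words of a list -/
noncomputable def prW (B : List (List Ltr)) (P : List (ℕ × ℕ)) : List (List Ltr) :=
  P.map fun p => B.getD p.1 [] ++ B.getD p.2 []

open Subgroup in
theorem prW_mem {h : List Ltr} {B : List (List Ltr)} (hc : comA h B = true) (P : List (ℕ × ℕ)) :
    ∀ t ∈ prW B P, g t ∈ centralizer ({g h} : Set BG) := by
  have h1 : ∀ i, g (B.getD i []) ∈ centralizer ({g h} : Set BG) := fun i => by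
    rcases Nat.lt_or_ge i B.length with hi | hi
    · rw [List.getD_eq_getElem _ _ hi]
      exact comA_sound hc _ (List.getElem_mem hi)
    · rw [List.getD_eq_default _ _ hi, g_nil]
      exact one_mem _
  intro t ht
  obtain ⟨p, _, rfl⟩ := List.mem_map.1 ht
  rw [g_append]
  exact mul_mem (h1 _) (h1 _)

open Subgroup in
/-- an orbit under a centralizer -/
theorem c2_le' {h y : List Ltr} {T : List (List Ltr)} (hc : ∀ t ∈ T, g t ∈ centralizer ({g h} : Set BG))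
    (ho : orbA y T [] = true) {N c : ℕ} (hN : c1 (g h) ≤ N) (hm : N < T.length * (c + 1)) : c2 (g h) (g y) ≤ c := by
  classical
  have := finB
  have h1 := BMx.Baer.chain_step (centralizer ({g h} : Set BG)) (g y) (T.map fun t => g (cj t y)).toFinset
    fun o ho => by
      obtain ⟨t, ht, rfl⟩ := List.mem_map.1 (List.mem_toFinset.1 ho)
      exact ⟨g t, hc t ht, (g_cj t y).symm⟩
  rw [List.toFinset_card_of_nodup (orbA_sound ho).1, List.length_map] at h1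
  exact Nat.lt_succ_iff.1 (Nat.lt_of_mul_lt_mul_left ((h1.trans hN).trans_lt hm))

/-- the factors -/
def P20G : List (ℕ × ℕ) :=
[(0, 0), (1, 0), (2, 0), (3, 0), (4, 0), (5, 0), (6, 0), (7, 0), (0, 25), (1, 25), (3, 25), (5, 25), (6, 25), (7, 25),
  (0, 26), (1, 26), (3, 26), (5, 26), (0, 29), (1, 29)]

/-- words -/
noncomputable def T20G : List (List Ltr) := prW B10F P20G

theorem com20G : ∀ t ∈ T20G, g t ∈ Subgroup.centralizer ({g w10F} : Set BG) := prW_mem com10F _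

/-- the residues of the registers -/
def H20G : List ℕ :=
[30695142, 410367490, 27593274, 89361618, 725030252, 172685667, 290266359, 616466413, 517414472, 199494506, 45682705,
  794045168, 533758285, 806892546, 990536125, 504062213, 585299714, 615548690, 295260722, 502256410]

theorem orb20G_c0 : hsA w4E ((T20G.drop 0).take 8) ((H20G.drop 0).take 8) = true := by
  decide +kernel

theorem orb20G_c1 : hsA w4E ((T20G.drop 8).take 6) ((H20G.drop 8).take 6) = true := by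
  decide +kernel

theorem orb20G_c2 : hsA w4E ((T20G.drop 14).take 4) ((H20G.drop 14).take 4) = true := by
  decide +kernel

theorem orb20G_c3 : hsA w4E ((T20G.drop 18).take 2) ((H20G.drop 18).take 2) = true := by
  decide +kernel

theorem orb20G : orbA w4E T20G [] = true :=
orbA_of_hsP (hsP_step 0 8 orb20G_c0 (hsP_step 8 6 orb20G_c1 (hsP_step 14 4 orb20G_c2 (hsP_step 18 2 orb20G_c3 (hsP_end
  (T := T20G) (H := H20G) (n := 20) (by decide +kernel) (by decide +kernel))))))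
  (by (refine of_decide_eq_true ?_; (try (rewrite [Cfsg.Agent.NodupNat.dec_eq, Cfsg.Agent.LsF.drop_eq, Cfsg.Agent.LsF.decide_eq])); decide +kernel))
  fun _ h => absurd h List.not_mem_nil

/-- the factors -/
def P30F : List (ℕ × ℕ) :=
[(0, 0), (2, 0), (3, 0), (6, 0), (8, 0), (9, 0), (10, 0), (11, 0), (13, 0), (15, 0), (16, 0), (18, 0), (19, 0), (20,
  0), (21, 0), (22, 0), (0, 24), (2, 24), (3, 24), (6, 24), (8, 24), (9, 24), (10, 24), (11, 24), (13, 24), (15, 24),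
  (16, 24), (18, 24), (19, 24), (20, 24), (21, 24), (22, 24), (0, 25), (2, 25), (3, 25), (6, 25), (8, 25), (9, 25),
  (10, 25), (11, 25), (13, 25), (15, 25), (16, 25), (18, 25), (19, 25), (20, 25), (21, 25), (22, 25), (0, 26), (2,
  26), (3, 26), (6, 26), (8, 26), (9, 26), (10, 26), (11, 26), (13, 26), (15, 26), (16, 26), (18, 26), (19, 26), (20,
  26), (21, 26), (22, 26), (0, 31), (2, 31), (3, 31), (6, 31), (8, 31), (9, 31), (10, 31), (11, 31), (13, 31), (15,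
  31), (16, 31), (18, 31), (19, 31), (20, 31), (21, 31), (22, 31)]

/-- words -/
noncomputable def T30F : List (List Ltr) := prW B10F P30F

theorem com30F : ∀ t ∈ T30F, g t ∈ Subgroup.centralizer ({g w10F} : Set BG) := prW_mem com10F _

/-- the residues of the registers -/
def H30F : List ℕ :=
[10220452, 37315622, 280745181, 536925522, 295375431, 304109700, 336374064, 13881723, 995561690, 788765906, 922982200,
  168548601, 797110314, 109308080, 692339968, 983817766, 342943100, 547651816, 910399632, 640743268, 491495492,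
  998615234, 447990508, 92586394, 637971683, 457588781, 391875247, 583107982, 566215198, 887123180, 642938866,
  25411135, 758068382, 8910282, 718203997, 120158252, 301763809, 409823969, 912255553, 85041770, 96721754, 927248923,
  778983606, 503566416, 258241528, 299257570, 699814747, 977122846, 478082440, 584544056, 37845440, 94972578,
  457275551, 115326836, 718842307, 436385008, 449030906, 212907721, 189457115, 157499097, 424101589, 768575210,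
  571093417, 635536898, 184173793, 909790030, 216113361, 991181379, 841025753, 579567749, 444202898, 524597372,
  496422340, 488839144, 305696760, 569360671, 701997767, 873015569, 711550337, 973466353]

theorem orb30F_c0 : hsA w3B ((T30F.drop 0).take 9) ((H30F.drop 0).take 9) = true := by
  decide +kernel

theorem orb30F_c1 : hsA w3B ((T30F.drop 9).take 7) ((H30F.drop 9).take 7) = true := by
  decide +kernel

theorem orb30F_c2 : hsA w3B ((T30F.drop 16).take 9) ((H30F.drop 16).take 9) = true := by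
  decide +kernel

theorem orb30F_c3 : hsA w3B ((T30F.drop 25).take 7) ((H30F.drop 25).take 7) = true := by
  decide +kernel

theorem orb30F_c4 : hsA w3B ((T30F.drop 32).take 9) ((H30F.drop 32).take 9) = true := by
  decide +kernel

theorem orb30F_c5 : hsA w3B ((T30F.drop 41).take 7) ((H30F.drop 41).take 7) = true := by
  decide +kernel

theorem orb30F_c6 : hsA w3B ((T30F.drop 48).take 9) ((H30F.drop 48).take 9) = true := by
  decide +kernel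

theorem orb30F_c7 : hsA w3B ((T30F.drop 57).take 7) ((H30F.drop 57).take 7) = true := by
  decide +kernel

theorem orb30F_c8 : hsA w3B ((T30F.drop 64).take 9) ((H30F.drop 64).take 9) = true := by
  decide +kernel

theorem orb30F_c9 : hsA w3B ((T30F.drop 73).take 7) ((H30F.drop 73).take 7) = true := by
  decide +kernel

theorem orb30F : orbA w3B T30F [] = true :=
orbA_of_hsP (hsP_step 0 9 orb30F_c0 (hsP_step 9 7 orb30F_c1 (hsP_step 16 9 orb30F_c2 (hsP_step 25 7 orb30F_c3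
  (hsP_step 32 9 orb30F_c4 (hsP_step 41 7 orb30F_c5 (hsP_step 48 9 orb30F_c6 (hsP_step 57 7 orb30F_c7 (hsP_step 64 9
  orb30F_c8 (hsP_step 73 7 orb30F_c9 (hsP_end (T := T30F) (H := H30F) (n := 80) (by decide +kernel)
  (by decide +kernel))))))))))))
  (by (refine of_decide_eq_true ?_; (try (rewrite [Cfsg.Agent.NodupNat.dec_eq, Cfsg.Agent.LsF.drop_eq, Cfsg.Agent.LsF.decide_eq])); decide +kernel))
  fun _ h => absurd h List.not_mem_nil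

/-- the factors -/
def P20J : List (ℕ × ℕ) :=
[(0, 0), (2, 0), (8, 0), (9, 0), (10, 0), (12, 0), (13, 0), (14, 0), (16, 0), (17, 0), (19, 0), (21, 0), (0, 23), (2,
  23), (8, 23), (9, 23), (10, 23), (12, 23), (13, 23), (14, 23), (16, 23), (17, 23), (19, 23), (21, 23), (0, 24), (2,
  24), (8, 24), (9, 24), (10, 24), (12, 24), (13, 24), (14, 24), (16, 24), (17, 24), (19, 24), (21, 24), (0, 25), (2,
  25), (8, 25), (9, 25), (10, 25), (12, 25), (13, 25), (14, 25), (16, 25), (17, 25), (19, 25), (21, 25), (0, 26), (2,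
  26), (8, 26), (9, 26), (10, 26), (12, 26), (13, 26), (14, 26), (16, 26), (17, 26), (19, 26), (21, 26), (0, 27), (2,
  27), (8, 27), (9, 27), (10, 27), (12, 27), (13, 27), (14, 27), (16, 27), (17, 27), (19, 27), (21, 27), (0, 28), (2,
  28), (8, 28), (9, 28), (10, 28), (12, 28), (13, 28), (14, 28), (16, 28), (17, 28), (19, 28), (21, 28), (0, 30), (2,
  30), (8, 30), (9, 30), (10, 30), (12, 30), (13, 30), (14, 30), (16, 30), (17, 30), (19, 30), (21, 30), (0, 31), (2,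
  31), (8, 31), (9, 31), (10, 31), (12, 31), (13, 31), (14, 31), (16, 31), (17, 31), (19, 31), (21, 31), (0, 32), (2,
  32), (8, 32), (9, 32), (10, 32), (12, 32), (13, 32), (14, 32), (16, 32), (17, 32), (19, 32)]

/-- words -/
noncomputable def T20J : List (List Ltr) := prW B10F P20J

theorem com20J : ∀ t ∈ T20J, g t ∈ Subgroup.centralizer ({g w10F} : Set BG) := prW_mem com10F _

/-- the residues of the registers -/
def H20J : List ℕ :=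
[890751046, 845412073, 760280013, 676264053, 778341487, 389236452, 954679365, 663327247, 765797156, 997183248,
  671090165, 169552752, 135520604, 644331039, 974819600, 409143958, 159560665, 34383565, 390407111, 86493381,
  921927314, 293839501, 293869004, 72102976, 778346182, 437500695, 362098582, 510490351, 691898445, 222723810,
  403847226, 213340744, 719045368, 784289233, 440805943, 251292674, 852581999, 885450516, 686052117, 575458071,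
  73456880, 595915119, 847632634, 564847260, 608884004, 561611405, 481916115, 94909553, 881712938, 955628313,
  21563434, 103737157, 232942201, 744917869, 161487915, 315251877, 264735710, 952759963, 933548330, 377926334,
  948302501, 515193755, 486981510, 212658809, 27139784, 671328094, 578440448, 659187547, 115678079, 87577764,
  76329550, 238725868, 538444764, 566379124, 47255974, 847903056, 657467313, 163484970, 503326793, 921104977,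
  348099583, 744242617, 944412933, 286716671, 612725410, 433689179, 349047190, 900429053, 346768648, 267751132,
  612073496, 370102052, 517254842, 120843529, 544358409, 841326688, 910496655, 878270376, 694395138, 841882913,
  345337813, 698737916, 353636989, 128050089, 199506719, 950681729, 644754287, 394240553, 804731107, 62126258,
  237604473, 398034890, 635433978, 251445952, 975739144, 834392101, 118057239, 83551256, 552277390]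

theorem orb20J_c0 : hsA w4J ((T20J.drop 0).take 12) ((H20J.drop 0).take 12) = true := by
  decide +kernel

theorem orb20J_c1 : hsA w4J ((T20J.drop 12).take 6) ((H20J.drop 12).take 6) = true := by
  decide +kernel

theorem orb20J_c2 : hsA w4J ((T20J.drop 18).take 6) ((H20J.drop 18).take 6) = true := by
  decide +kernel

theorem orb20J_c3 : hsA w4J ((T20J.drop 24).take 6) ((H20J.drop 24).take 6) = true := by
  decide +kernel

theorem orb20J_c4 : hsA w4J ((T20J.drop 30).take 6) ((H20J.drop 30).take 6) = true := by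
  decide +kernel

theorem orb20J_c5 : hsA w4J ((T20J.drop 36).take 6) ((H20J.drop 36).take 6) = true := by
  decide +kernel

theorem orb20J_c6 : hsA w4J ((T20J.drop 42).take 6) ((H20J.drop 42).take 6) = true := by
  decide +kernel

theorem orb20J_c7 : hsA w4J ((T20J.drop 48).take 6) ((H20J.drop 48).take 6) = true := by
  decide +kernel

theorem orb20J_c8 : hsA w4J ((T20J.drop 54).take 6) ((H20J.drop 54).take 6) = true := by
  decide +kernel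

theorem orb20J_c9 : hsA w4J ((T20J.drop 60).take 6) ((H20J.drop 60).take 6) = true := by
  decide +kernel

theorem orb20J_c10 : hsA w4J ((T20J.drop 66).take 6) ((H20J.drop 66).take 6) = true := by
  decide +kernel

theorem orb20J_c11 : hsA w4J ((T20J.drop 72).take 6) ((H20J.drop 72).take 6) = true := by
  decide +kernel

theorem orb20J_c12 : hsA w4J ((T20J.drop 78).take 6) ((H20J.drop 78).take 6) = true := by
  decide +kernel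

theorem orb20J_c13 : hsA w4J ((T20J.drop 84).take 6) ((H20J.drop 84).take 6) = true := by
  decide +kernel

theorem orb20J_c14 : hsA w4J ((T20J.drop 90).take 6) ((H20J.drop 90).take 6) = true := by
  decide +kernel

theorem orb20J_c15 : hsA w4J ((T20J.drop 96).take 6) ((H20J.drop 96).take 6) = true := by
  decide +kernel

theorem orb20J_c16 : hsA w4J ((T20J.drop 102).take 6) ((H20J.drop 102).take 6) = true := by
  decide +kernel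

theorem orb20J_c17 : hsA w4J ((T20J.drop 108).take 6) ((H20J.drop 108).take 6) = true := by
  decide +kernel

theorem orb20J_c18 : hsA w4J ((T20J.drop 114).take 5) ((H20J.drop 114).take 5) = true := by
  decide +kernel

theorem orb20J : orbA w4J T20J [] = true :=
orbA_of_hsP (hsP_step 0 12 orb20J_c0 (hsP_step 12 6 orb20J_c1 (hsP_step 18 6 orb20J_c2 (hsP_step 24 6 orb20J_c3
  (hsP_step 30 6 orb20J_c4 (hsP_step 36 6 orb20J_c5 (hsP_step 42 6 orb20J_c6 (hsP_step 48 6 orb20J_c7 (hsP_step 54 6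
  orb20J_c8 (hsP_step 60 6 orb20J_c9 (hsP_step 66 6 orb20J_c10 (hsP_step 72 6 orb20J_c11 (hsP_step 78 6 orb20J_c12
  (hsP_step 84 6 orb20J_c13 (hsP_step 90 6 orb20J_c14 (hsP_step 96 6 orb20J_c15 (hsP_step 102 6 orb20J_c16 (hsP_step
  108 6 orb20J_c17 (hsP_step 114 5 orb20J_c18 (hsP_end (T := T20J) (H := H20J) (n := 119) (by decide +kernel)
  (by decide +kernel)))))))))))))))))))))
  (by (refine of_decide_eq_true ?_; (try (rewrite [Cfsg.Agent.NodupNat.dec_eq, Cfsg.Agent.LsF.drop_eq, Cfsg.Agent.LsF.decide_eq])); decide +kernel))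
  fun _ h => absurd h List.not_mem_nil

/-- words -/
noncomputable def T40E : List (List Ltr) :=
  (by
  refine (?fq9021 : ((pk61l (fun i1 => ((fun g1 : Nat → Nat => pk61l (fun i2 => (pk61f (pk61d (nat_lit 6) 
    (nat_lit 0x17b28057b21b2162ca2b9eb8eb92ba5865b7200420c41472092cc390453b21b2506aad8b2b86b8eb96baaba2b95761e7e018724a2cd3d355601db27b255c196b96caecae1ae9ae8ae8ae4ad96dc76008420a4936aca41ae372c86caab92b96b9ab9d765a71f80110621049351662c96ca9796b8ac86cae2ae7ae1ae6ae7ad91c92cd38f4d45405e3b2576ca5cb2bb2b8ab92b92b86b86b69c75e08720a413540b2b76ca41a9daec86cae4ae3ae7ae4aea5db08314a3d04d4556662b25aecaec8ec86ba6b8eb8eb99865a6df0461c8390452516b2a6ec941b2b8ac9eb86b8eb9eb92baaba9f8051c824b355580b21b297aaaec86c8eb9eb9aba6ba1769b78310624f45254066c8d8b207eca2bb23ae6ae3ae1ae60c414720928c412540) i2) fun t2_2 => (pk61c (Nat.div t2_2 (nat_lit 22)) (pk61c (Nat.div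 t2_2 (nat_lit 11)) (pk61c (Nat.div t2_2 (nat_lit 5)) (pk61c (Nat.div t2_2 (nat_lit 2)) (pk61c (Nat.div t2_2 (nat_lit 1)) _root_.Cfsg.Agent.BabyM.Conc.Ltr.z fun _ => _root_.Cfsg.Agent.BabyM.Conc.Ltr.X0) fun _ => (pk61c (Nat.div t2_2 (nat_lit 3)) _root_.Cfsg.Agent.BabyM.Conc.Ltr.X1 fun _ => (pk61c (Nat.div t2_2 (nat_lit 4)) _root_.Cfsg.Agent.BabyM.Conc.Ltr.X2 fun _ => _root_.Cfsg.Agent.BabyM.Conc.Ltr.X3))) fun _ => (pk61c (Nat.div t2_2 (nat_lit 8)) (pk61c (Nat.div t2_2 (nat_lit 6)) _root_.Cfsg.Agent.BabyM.Conc.Ltr.X4 fun _ => (pk61c (Nat.div t2_2 (nat_lit 7)) _root_.Cfsg.Agent.BabyM.Conc.Ltr.X5 fun _ => _root_.Cfsg.Agent.BabyM.Conc.Ltr.X6)) fun _ => (pk61c (Nat.div t2_2 (nat_lit 9)) _root_.Cfsg.Agent.BabyM.Conc.Ltr.X7 fun _ => (pk61c (Nat.div t2_2 (nat_lit 10)) _root_.Cfsg.Agent.BabyM.Conc.Ltr.X8 fun _ => _root_.Cfsg.Agent.BabyM.Conc.Ltr.X9)))) fun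 _ => (pk61c (Nat.div t2_2 (nat_lit 16)) (pk61c (Nat.div t2_2 (nat_lit 13)) (pk61c (Nat.div t2_2 (nat_lit 12)) _root_.Cfsg.Agent.BabyM.Conc.Ltr.X10 fun _ => _root_.Cfsg.Agent.BabyM.Conc.Ltr.Z0) fun _ => (pk61c (Nat.div t2_2 (nat_lit 14)) _root_.Cfsg.Agent.BabyM.Conc.Ltr.Z1 fun _ => (pk61c (Nat.div t2_2 (nat_lit 15)) _root_.Cfsg.Agent.BabyM.Conc.Ltr.Z2 fun _ => _root_.Cfsg.Agent.BabyM.Conc.Ltr.Z3))) fun _ => (pk61c (Nat.div t2_2 (nat_lit 19)) (pk61c (Nat.div t2_2 (nat_lit 17)) _root_.Cfsg.Agent.BabyM.Conc.Ltr.Z4 fun _ => (pk61c (Nat.div t2_2 (nat_lit 18)) _root_.Cfsg.Agent.BabyM.Conc.Ltr.Z5 fun _ => _root_.Cfsg.Agent.BabyM.Conc.Ltr.Z6)) fun _ => (pk61c (Nat.div t2_2 (nat_lit 20)) _root_.Cfsg.Agent.BabyM.Conc.Ltr.Z7 fun _ => (pk61c (Nat.div t2_2 (nat_lit 21)) _root_.Cfsg.Agent.BabyM.Conc.Ltr.Z8 fun _ => _root_.Cfsg.Agent.BabyM.Conc.Ltr.Z9))))) fun _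 => (pk61c (Nat.div t2_2 (nat_lit 33)) (pk61c (Nat.div t2_2 (nat_lit 27)) (pk61c (Nat.div t2_2 (nat_lit 24)) (pk61c (Nat.div t2_2 (nat_lit 23)) _root_.Cfsg.Agent.BabyM.Conc.Ltr.Z10 fun _ => _root_.Cfsg.Agent.BabyM.Conc.Ltr.y1) fun _ => (pk61c (Nat.div t2_2 (nat_lit 25)) _root_.Cfsg.Agent.BabyM.Conc.Ltr.y2 fun _ => (pk61c (Nat.div t2_2 (nat_lit 26)) _root_.Cfsg.Agent.BabyM.Conc.Ltr.y3 fun _ => _root_.Cfsg.Agent.BabyM.Conc.Ltr.y4))) fun _ => (pk61c (Nat.div t2_2 (nat_lit 30)) (pk61c (Nat.div t2_2 (nat_lit 28)) _root_.Cfsg.Agent.BabyM.Conc.Ltr.y5 fun _ => (pk61c (Nat.div t2_2 (nat_lit 29)) _root_.Cfsg.Agent.BabyM.Conc.Ltr.y6 fun _ => _root_.Cfsg.Agent.BabyM.Conc.Ltr.y7)) fun _ => (pk61c (Nat.div t2_2 (nat_lit 31)) _root_.Cfsg.Agent.BabyM.Conc.Ltr.y8 fun _ => (pk61c (Nat.div t2_2 (nat_lit 32)) _root_.Cfsg.Agent.BabyM.Conc.Ltr.y9 fun _ => _root_.Cfsg.Agent.BabyM.Conc.Ltr.y10))))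 fun _ => (pk61c (Nat.div t2_2 (nat_lit 39)) (pk61c (Nat.div t2_2 (nat_lit 36)) (pk61c (Nat.div t2_2 (nat_lit 34)) _root_.Cfsg.Agent.BabyM.Conc.Ltr.p fun _ => (pk61c (Nat.div t2_2 (nat_lit 35)) _root_.Cfsg.Agent.BabyM.Conc.Ltr.p2 fun _ => _root_.Cfsg.Agent.BabyM.Conc.Ltr.p3)) fun _ => (pk61c (Nat.div t2_2 (nat_lit 37)) _root_.Cfsg.Agent.BabyM.Conc.Ltr.p4 fun _ => (pk61c (Nat.div t2_2 (nat_lit 38)) _root_.Cfsg.Agent.BabyM.Conc.Ltr.p5 fun _ => _root_.Cfsg.Agent.BabyM.Conc.Ltr.p6))) fun _ => (pk61c (Nat.div t2_2 (nat_lit 42)) (pk61c (Nat.div t2_2 (nat_lit 40)) _root_.Cfsg.Agent.BabyM.Conc.Ltr.p7 fun _ => (pk61c (Nat.div t2_2 (nat_lit 41)) _root_.Cfsg.Agent.BabyM.Conc.Ltr.p8 fun _ => _root_.Cfsg.Agent.BabyM.Conc.Ltr.p9)) fun _ => (pk61c (Nat.div t2_2 (nat_lit 43)) _root_.Cfsg.Agent.BabyM.Conc.Ltr.p10 fun _ => (pk61c (Nat.div t2_2 (nat_lit 44)) _root_.Cfsg.Agent.BabyM.Conc.Ltr.hi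 fun _ => _root_.Cfsg.Agent.BabyM.Conc.Ltr.xii)))))))) (g1 i1) (g1 (Nat.succ i1)) List.nil) fun j => (pk61d (nat_lit 9) 
    (nat_lit 0x17baa4be18ea642990862200800000) j))) (nat_lit 0) (nat_lit 12) List.nil) : List (List Ltr))
    = ?xq9021 → (List (List Ltr))) ?hq9021; (case hq9021 => (set_option maxRecDepth 1000000 in conv => lhs; reduce)); intro _; exact ?xq9021 : List (List Ltr))

theorem com40E_c0 : comA w20G ((T40E.drop 0).take 3) = true := by decide +kernel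

theorem com40E_c1 : comA w20G ((T40E.drop 3).take 3) = true := by decide +kernel

theorem com40E_c2 : comA w20G ((T40E.drop 6).take 3) = true := by decide +kernel

theorem com40E_c3 : comA w20G ((T40E.drop 9).take 3) = true := by decide +kernel

theorem com40E : comA w20G T40E = true :=
  comA_step 0 3 com40E_c0 (comA_step 3 3 com40E_c1 (comA_step 6 3 com40E_c2 (comA_step 9 3 com40E_c3 (comA_end
  (T := T40E) (n := 12) (by decide +kernel)))))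

/-- the residues of the registers -/
def H40E : List ℕ :=
  [975320615, 533545665, 222847702, 987928552, 148184064, 816297182, 310353066, 413122222, 510326422, 816238140,
  580527836, 418304975]

theorem orb40E_c0 : hsA w8G ((T40E.drop 0).take 5) ((H40E.drop 0).take 5) = true := by
  decide +kernel

theorem orb40E_c1 : hsA w8G ((T40E.drop 5).take 5) ((H40E.drop 5).take 5) = true := by
  decide +kernel

theorem orb40E_c2 : hsA w8G ((T40E.drop 10).take 2) ((H40E.drop 10).take 2) = true := by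
  decide +kernel

theorem orb40E : orbA w8G T40E [] = true :=
  orbA_of_hsP (hsP_step 0 5 orb40E_c0 (hsP_step 5 5 orb40E_c1 (hsP_step 10 2 orb40E_c2 (hsP_end (T := T40E)
  (H := H40E) (n := 12) (by decide +kernel) (by decide +kernel))))) (by decide +kernel) fun _ h => absurd h
  List.not_mem_nil

/-- words -/
def T60C : List (List Ltr) :=
  [[], [.z]]

theorem com60C : comA w30F T60C = true := by decide +kernel

theorem orb60C : orbA w4E T60C [] = true := by decide +kernel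

end Cfsg.Agent.TAB.B.D
end

-- part: TAB/B/C2/R3
section
prune_inst 0x7f00000000000000000000000000000000000000000000000000000000000000000000000000000000000000000000000000000000000000000000000000000000000000000000000000000000000000003fffffffffffffffffffffffffffbeffbdffffffff
set_option linter.all false
private noncomputable def lq2665b73bd8 {T : Sort _} (f :
    type_of% (@_root_.List.cons.{0}) →
    type_of% (@_root_.List.nil.{0}) →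
    type_of% (@_root_.Cfsg.Agent.TAB.B.C2.Ci.mk) →
    type_of% (@_root_.Cfsg.Agent.TAB.B.C2.Cs.mk) →
    type_of% (@_root_.Cfsg.Agent.H633.Ore.Co2.C0.w4) →
    type_of% (@_root_.Cfsg.Agent.H633.Ore.Co2.C0.w5) →
    type_of% (@_root_.Cfsg.Agent.H633.Ore.Co2.C1.w6) →
    type_of% (@_root_.Cfsg.Agent.H633.Ore.Co2.C1.w7) →
    type_of% (@_root_.Cfsg.Agent.H633.Ore.Co2.C1.w8) →
    type_of% (@_root_.Cfsg.Agent.H633.Ore.Co2.C1.w9) →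
    type_of% (@_root_.Cfsg.Agent.H633.Ore.Co2.C1.w10) →
    type_of% (@_root_.Cfsg.Agent.H633.Ore.Co2.C2.w11) →
    type_of% (@_root_.Cfsg.Agent.H633.Ore.Co2.C2.w12) →
    type_of% (@_root_.Cfsg.Agent.H633.Ore.Co2.C2.w13) →
    type_of% (@_root_.Cfsg.Agent.H633.Ore.Co2.C2.w14) →
    type_of% (@_root_.Cfsg.Agent.H633.Ore.Co2.C2.w15) →
    type_of% (@_root_.Cfsg.Agent.H633.Ore.Co2.C3.w16) →
    type_of% (@_root_.Cfsg.Agent.H633.Ore.Co2.C3.w17) →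
    type_of% (@_root_.Cfsg.Agent.H633.Ore.Co2.C3.w18) →
    type_of% (@_root_.Cfsg.Agent.H633.Ore.Co2.C3.w19) →
    type_of% (@_root_.Cfsg.Agent.H633.Ore.Co2.C3.w20) → T) : T :=
  f (@_root_.List.cons.{0}) (@_root_.List.nil.{0}) (@_root_.Cfsg.Agent.TAB.B.C2.Ci.mk) (@_root_.Cfsg.Agent.TAB.B.C2.Cs.mk) (@_root_.Cfsg.Agent.H633.Ore.Co2.C0.w4) (@_root_.Cfsg.Agent.H633.Ore.Co2.C0.w5) (@_root_.Cfsg.Agent.H633.Ore.Co2.C1.w6) (@_root_.Cfsg.Agent.H633.Ore.Co2.C1.w7) (@_root_.Cfsg.Agent.H633.Ore.Co2.C1.w8) (@_root_.Cfsg.Agent.H633.Ore.Co2.C1.w9) (@_root_.Cfsg.Agent.H633.Ore.Co2.C1.w10) (@_root_.Cfsg.Agent.H633.Ore.Co2.C2.w11) (@_root_.Cfsg.Agent.H633.Ore.Co2.C2.w12) (@_root_.Cfsg.Agent.H633.Ore.Co2.C2.w13) (@_root_.Cfsg.Agent.H633.Ore.Co2.C2.w14) (@_root_.Cfsg.Agent.H633.Ore.Co2.C2.w15) (@_root_.Cfsg.Agent.H633.Ore.Co2.C3.w16) (@_root_.Cfsg.Agent.H633.Ore.Co2.C3.w17)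 (@_root_.Cfsg.Agent.H633.Ore.Co2.C3.w18) (@_root_.Cfsg.Agent.H633.Ore.Co2.C3.w19) (@_root_.Cfsg.Agent.H633.Ore.Co2.C3.w20)

/-!
# Runs, part 3 (helper48)
-/

set_option autoImplicit false

namespace Cfsg.Agent.TAB.B.C2

open Cfsg.Agent.H633.Ore.Co2

/-- the class 4 -/
def c4 : Cs := (beta% delta% lq2665b73bd8 fun a b c d e _ _ _ _ _ _ _ _ _ _ _ _ _ _ _ _ =>
 (d e 3 1 76 (a 373495<|a 2317846<|a 541142<|a 1255615<|b) (a 0<|a 0<|a 0<|a 0<|a 0<|a 0<|a 0<|a 0<|a 0<|a 0<|a 0<|a 0<|a 0<|a 0<|a 0<|a 0<|a 0<|a 0<|a 1<|a 4<|a 8<|a 2<|b) (a 0<|a 0<|a 247077<|a 0<|a 0<|a 112241<|a 167559<|a 201861<|a 61241<|a 103807<|a 251003<|a 11670<|a 252236<|a 74099<|a 123402<|a 3250<|a 167985<|a 36627<|a 27474<|a 254529<|a 44255<|a 141748<|b)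
 (a (c 1 (a 373495<|a 2317846<|a 541142<|a 1255615<|b) (a 0<|a 0<|a 0<|a 0<|a 0<|a 0<|a 0<|a 0<|a 0<|a 0<|a 0<|a 0<|a 0<|a 0<|a 0<|a 0<|a 0<|a 0<|a 1<|a 4<|a 8<|a 2<|b) (a 0<|a 0<|a 247077<|a 0<|a 0<|a 112241<|a 167559<|a 201861<|a 61241<|a 103807<|a 251003<|a 11670<|a 252236<|a 74099<|a 123402<|a 3250<|a 167985<|a 36627<|a 27474<|a 254529<|a 44255<|a 141748<|b) 2 0 0 0 (-4))<|
 a (c 2 (a 373495<|a 2317846<|a 541142<|a 1255615<|b) (a 0<|a 0<|a 0<|a 0<|a 0<|a 0<|a 0<|a 0<|a 0<|a 0<|a 0<|a 0<|a 0<|a 0<|a 0<|a 0<|a 0<|a 0<|a 1<|a 4<|a 8<|a 2<|b) (a 0<|a 0<|a 247074<|a 0<|a 0<|a 112192<|a 167622<|a 201749<|a 60963<|a 104300<|a 249961<|a 9621<|a 248135<|a 65912<|a 107033<|a 36025<|a 233522<|a 167705<|a 121276<|a 238477<|a 230498<|a 96176<|b) 2 1 0 2 (-4))<|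
 a (c 3 (a 2048<|a 1<|a 4096<|a 2<|a 8192<|a 4<|a 16384<|a 8<|a 32768<|a 16<|a 65536<|a 32<|a 131072<|a 64<|a 262144<|a 128<|a 524288<|a 256<|a 1048576<|a 512<|a 2097152<|a 1024<|b) (a 2<|a 8<|a 32<|a 128<|a 512<|a 2048<|a 8192<|a 32768<|a 131072<|a 524288<|a 2097152<|a 1<|a 4<|a 16<|a 64<|a 256<|a 1024<|a 4096<|a 16384<|a 65536<|a 262144<|a 1048576<|b) (a 0<|a 0<|a 0<|a 0<|a 0<|a 0<|a 0<|a 0<|a 0<|a 0<|a 0<|a 0<|a 0<|a 0<|a 0<|a 0<|a 0<|a 0<|a 0<|a 0<|a 0<|a 0<|b) 11 2 1 3 23)<|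
 a (c 4 (a 373495<|a 2317846<|a 541142<|a 1255615<|b) (a 0<|a 0<|a 0<|a 0<|a 0<|a 0<|a 0<|a 0<|a 0<|a 0<|a 0<|a 0<|a 0<|a 0<|a 0<|a 0<|a 0<|a 0<|a 1<|a 4<|a 8<|a 2<|b) (a 0<|a 0<|a 247077<|a 0<|a 0<|a 112241<|a 167559<|a 201861<|a 61241<|a 103807<|a 251003<|a 11670<|a 252236<|a 74099<|a 123402<|a 3250<|a 167985<|a 36627<|a 27474<|a 254529<|a 44255<|a 141748<|b) 2 1 1 2 (-4))<|b)
 (a 1422452342504907683865870341<|a 2674899491625100421467979781<|a 2986802353086800923332689925<|a 3295078437088531362882764805<|b)))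

theorem ok4 : ClsOK (wd C0.w4) T4 := clsB_spec (c := c4) (by decide +kernel)

/-- the class 5 -/
def c5 : Cs := (beta% delta% lq2665b73bd8 fun a b c d _ f _ _ _ _ _ _ _ _ _ _ _ _ _ _ _ =>
 (d f 3 1 76 (a 737<|a 11568<|a 29239<|a 45163<|a 73721<|a 139255<|a 294847<|a 1309776<|a 868552<|a 3445026<|b) (a 0<|a 0<|a 0<|a 0<|a 0<|a 0<|a 0<|a 0<|a 0<|a 1<|a 0<|a 0<|a 0<|a 2<|a 7<|a 10<|a 17<|a 33<|a 68<|a 338<|a 191<|a 753<|b) (a 0<|a 0<|a 0<|a 0<|a 0<|a 0<|a 0<|a 0<|a 1516<|a 0<|a 1247<|a 0<|a 1090<|a 5253<|a 143<|a 3152<|a 3206<|a 6239<|a 2338<|a 1168<|a 3501<|a 3193<|b)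
 (a (c 1 (a 737<|a 11568<|a 29239<|a 45163<|a 73721<|a 139255<|a 294847<|a 1309776<|a 868552<|a 3445026<|b) (a 0<|a 0<|a 0<|a 0<|a 0<|a 0<|a 0<|a 0<|a 0<|a 1<|a 0<|a 0<|a 0<|a 2<|a 7<|a 10<|a 17<|a 33<|a 68<|a 338<|a 191<|a 753<|b) (a 0<|a 0<|a 0<|a 0<|a 0<|a 0<|a 0<|a 0<|a 1516<|a 0<|a 1247<|a 0<|a 1090<|a 5253<|a 143<|a 3152<|a 3206<|a 6239<|a 2338<|a 1168<|a 3501<|a 3193<|b) 5 0 0 0 5)<|
 a (c 2 (a 737<|a 11568<|a 29239<|a 45163<|a 73721<|a 139255<|a 294847<|a 1309776<|a 868552<|a 3445026<|b) (a 0<|a 0<|a 0<|a 0<|a 0<|a 0<|a 0<|a 0<|a 0<|a 1<|a 0<|a 0<|a 0<|a 2<|a 7<|a 10<|a 17<|a 33<|a 68<|a 338<|a 191<|a 753<|b) (a 0<|a 0<|a 0<|a 0<|a 0<|a 0<|a 0<|a 0<|a 1041<|a 0<|a 68<|a 0<|a 5277<|a 6400<|a 7460<|a 4451<|a 6405<|a 3393<|a 3279<|a 2510<|a 5263<|a 7258<|b) 5 1 0 2 5)<|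
 a (c 3 (a 2048<|a 1<|a 4096<|a 2<|a 8192<|a 4<|a 16384<|a 8<|a 32768<|a 16<|a 65536<|a 32<|a 131072<|a 64<|a 262144<|a 128<|a 524288<|a 256<|a 1048576<|a 512<|a 2097152<|a 1024<|b) (a 2<|a 8<|a 32<|a 128<|a 512<|a 2048<|a 8192<|a 32768<|a 131072<|a 524288<|a 2097152<|a 1<|a 4<|a 16<|a 64<|a 256<|a 1024<|a 4096<|a 16384<|a 65536<|a 262144<|a 1048576<|b) (a 0<|a 0<|a 0<|a 0<|a 0<|a 0<|a 0<|a 0<|a 0<|a 0<|a 0<|a 0<|a 0<|a 0<|a 0<|a 0<|a 0<|a 0<|a 0<|a 0<|a 0<|a 0<|b) 11 2 1 3 23)<|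
 a (c 4 (a 737<|a 11568<|a 29239<|a 45163<|a 73721<|a 139255<|a 294847<|a 1309776<|a 868552<|a 3445026<|b) (a 0<|a 0<|a 0<|a 0<|a 0<|a 0<|a 0<|a 0<|a 0<|a 1<|a 0<|a 0<|a 0<|a 2<|a 7<|a 10<|a 17<|a 33<|a 68<|a 338<|a 191<|a 753<|b) (a 0<|a 0<|a 0<|a 0<|a 0<|a 0<|a 0<|a 0<|a 1516<|a 0<|a 1247<|a 0<|a 1090<|a 5253<|a 143<|a 3152<|a 3206<|a 6239<|a 2338<|a 1168<|a 3501<|a 3193<|b) 5 1 1 2 5)<|b)
 (a 2601986225769278764128714793<|a 1339867672397167371252908073<|a 2601986228074840229645959209<|a 1339867679316104117375451177<|a 1339867679313851767805427753<|a 2601986246519331953786273833<|a 1339867690846163794530910249<|a 1339867753096323363503587369<|a 1650561688748544809256337449<|a 1961255624389504507155824681<|b)))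

theorem ok5 : ClsOK (wd C0.w5) T5 := clsB_spec (c := c5) (by decide +kernel)

/-- the class 6 -/
def c6 : Cs := (beta% delta% lq2665b73bd8 fun a b c d _ _ g _ _ _ _ _ _ _ _ _ _ _ _ _ _ =>
 (d g 4 0 64 (a 562<|a 2302169<|a 1183<|a 2137<|a 19606<|a 1255552<|a 468<|a 47226<|a 288834<|a 534551<|b) (a 0<|a 0<|a 0<|a 0<|a 0<|a 0<|a 0<|a 0<|a 64<|a 1<|a 4<|a 8<|a 0<|a 0<|a 28<|a 136<|a 0<|a 0<|a 276<|a 520<|a 40<|a 2<|b) (a 0<|a 0<|a 0<|a 0<|a 139457<|a 0<|a 209053<|a 0<|a 69844<|a 0<|a 139350<|a 0<|a 0<|a 0<|a 196618<|a 69812<|a 69789<|a 162<|a 8286<|a 139340<|a 69829<|a 69765<|b)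
 (a (c 1 (a 562<|a 2302169<|a 1183<|a 2137<|a 19606<|a 1255552<|a 468<|a 47226<|a 288834<|a 534551<|b) (a 0<|a 0<|a 0<|a 0<|a 0<|a 0<|a 0<|a 0<|a 64<|a 1<|a 4<|a 8<|a 0<|a 0<|a 28<|a 136<|a 0<|a 0<|a 276<|a 520<|a 40<|a 2<|b) (a 0<|a 0<|a 0<|a 0<|a 139457<|a 0<|a 209053<|a 0<|a 69844<|a 0<|a 139350<|a 0<|a 0<|a 0<|a 196618<|a 69812<|a 69789<|a 162<|a 8286<|a 139340<|a 69829<|a 69765<|b) 3 0 0 0 (-5))<|
 a (c 2 (a 5<|a 2105<|a 136<|a 16437<|a 562<|a 4132<|a 96<|a 436<|a 1568<|a 47130<|a 288802<|a 534551<|a 1255432<|a 2308140<|b) (a 0<|a 0<|a 1<|a 0<|a 0<|a 0<|a 64<|a 4<|a 133<|a 16<|a 272<|a 2<|a 33<|a 0<|a 9<|a 547<|a 0<|a 0<|a 1035<|a 2051<|a 4098<|a 8226<|b) (a 0<|a 0<|a 0<|a 0<|a 0<|a 0<|a 204850<|a 0<|a 204832<|a 0<|a 139275<|a 0<|a 0<|a 0<|a 0<|a 17<|a 0<|a 0<|a 139280<|a 139315<|a 65546<|a 196610<|b) 3 1 0 2 7)<|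
 a (c 4 (a 2048<|a 1<|a 4096<|a 2<|a 8192<|a 4<|a 16384<|a 8<|a 32768<|a 16<|a 65536<|a 32<|a 131072<|a 64<|a 262144<|a 128<|a 524288<|a 256<|a 1048576<|a 512<|a 2097152<|a 1024<|b) (a 2<|a 8<|a 32<|a 128<|a 512<|a 2048<|a 8192<|a 32768<|a 131072<|a 524288<|a 2097152<|a 1<|a 4<|a 16<|a 64<|a 256<|a 1024<|a 4096<|a 16384<|a 65536<|a 262144<|a 1048576<|b) (a 0<|a 0<|a 0<|a 0<|a 0<|a 0<|a 0<|a 0<|a 0<|a 0<|a 0<|a 0<|a 0<|a 0<|a 0<|a 0<|a 0<|a 0<|a 0<|a 0<|a 0<|a 0<|b) 11 1 0 2 23)<|b)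
 (a 73805836355597878524<|a 73805836630408676604<|a 73804710593096369404<|a 73809214742345336060<|a 73809213643102143740<|a 39642073000225087736060<|a 20457459164116775651580<|a 39642068496900271163644<|a 20457463667991213820156<|a 20457463666891970627836<|a 39642091013524354025724<|a 25179843662484173539580<|a 29902210145353818753276<|b)))

theorem ok6 : ClsOK (wd C1.w6) T6 := clsB_spec (c := c6) (by decide +kernel)

/-- the class 7 -/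
def c7 : Cs := (beta% delta% lq2665b73bd8 fun a b c d _ _ _ h _ _ _ _ _ _ _ _ _ _ _ _ _ =>
 (d h 4 0 64 (a 24443<|a 45401<|a 74267<|a 145532<|a 266920<|a 531521<|a 1060505<|a 2099183<|b) (a 0<|a 0<|a 0<|a 0<|a 0<|a 0<|a 0<|a 0<|a 0<|a 0<|a 0<|a 0<|a 0<|a 0<|a 1<|a 2<|a 4<|a 8<|a 16<|a 32<|a 64<|a 128<|b) (a 0<|a 0<|a 0<|a 0<|a 0<|a 0<|a 0<|a 267<|a 509<|a 1940<|a 0<|a 1927<|a 785<|a 5409<|a 4245<|a 2023<|a 14797<|a 8616<|a 9238<|a 15454<|a 1060<|a 11138<|b)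
 (a (c 1 (a 24443<|a 45401<|a 74267<|a 145532<|a 266920<|a 531521<|a 1060505<|a 2099183<|b) (a 0<|a 0<|a 0<|a 0<|a 0<|a 0<|a 0<|a 0<|a 0<|a 0<|a 0<|a 0<|a 0<|a 0<|a 1<|a 2<|a 4<|a 8<|a 16<|a 32<|a 64<|a 128<|b) (a 0<|a 0<|a 0<|a 0<|a 0<|a 0<|a 0<|a 267<|a 509<|a 1940<|a 0<|a 1927<|a 785<|a 5409<|a 4245<|a 2023<|a 14797<|a 8616<|a 9238<|a 15454<|a 1060<|a 11138<|b) 0 0 0 0 (-1))<|
 a (c 2 (a 55<|a 2199<|a 64<|a 131252<|a 410<|a 6282<|a 512<|a 1048980<|a 1432<|a 22676<|a 11128<|a 51810<|a 67939<|a 279275<|a 541498<|a 2119828<|b) (a 0<|a 0<|a 0<|a 0<|a 0<|a 1<|a 4<|a 0<|a 16<|a 64<|a 272<|a 2<|a 34<|a 1111<|a 544<|a 2663<|a 4119<|a 9<|a 8805<|a 17009<|a 144<|a 33280<|b) (a 0<|a 0<|a 0<|a 0<|a 0<|a 0<|a 0<|a 0<|a 0<|a 0<|a 0<|a 0<|a 0<|a 26<|a 0<|a 151<|a 138<|a 0<|a 20<|a 17<|a 0<|a 154<|b) 5 1 0 2 (-9))<|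
 a (c 4 (a 2048<|a 1<|a 4096<|a 2<|a 8192<|a 4<|a 16384<|a 8<|a 32768<|a 16<|a 65536<|a 32<|a 131072<|a 64<|a 262144<|a 128<|a 524288<|a 256<|a 1048576<|a 512<|a 2097152<|a 1024<|b) (a 2<|a 8<|a 32<|a 128<|a 512<|a 2048<|a 8192<|a 32768<|a 131072<|a 524288<|a 2097152<|a 1<|a 4<|a 16<|a 64<|a 256<|a 1024<|a 4096<|a 16384<|a 65536<|a 262144<|a 1048576<|b) (a 0<|a 0<|a 0<|a 0<|a 0<|a 0<|a 0<|a 0<|a 0<|a 0<|a 0<|a 0<|a 0<|a 0<|a 0<|a 0<|a 0<|a 0<|a 0<|a 0<|a 0<|a 0<|b) 11 1 0 2 23)<|b)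
 (a 73788946757148263676<|a 2471865676476862548220<|a 1272827311410796677372<|a 2471867928001731217660<|a 1272829563485555378428<|a 20457443400143488534780<|a 5995196046355201116412<|a 10717562529224846330108<|b)))

theorem ok7 : ClsOK (wd C1.w7) T7 := clsB_spec (c := c7) (by decide +kernel)

/-- the class 8 -/
def c8 : Cs := (beta% delta% lq2665b73bd8 fun a b c d _ _ _ _ i _ _ _ _ _ _ _ _ _ _ _ _ =>
 (d i 4 0 64 (a 51366<|a 81799<|a 405483<|a 675462<|a 1062637<|a 2249051<|b) (a 0<|a 0<|a 0<|a 0<|a 0<|a 0<|a 0<|a 0<|a 0<|a 0<|a 0<|a 0<|a 0<|a 0<|a 0<|a 1<|a 2<|a 0<|a 4<|a 8<|a 16<|a 32<|b) (a 0<|a 0<|a 0<|a 0<|a 0<|a 636<|a 0<|a 1261<|a 153276<|a 152085<|a 162382<|a 146658<|a 158299<|a 138437<|a 157429<|a 29134<|a 144556<|a 159390<|a 151027<|a 12905<|a 9352<|a 144195<|b)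
 (a (c 1 (a 51366<|a 81799<|a 405483<|a 675462<|a 1062637<|a 2249051<|b) (a 0<|a 0<|a 0<|a 0<|a 0<|a 0<|a 0<|a 0<|a 0<|a 0<|a 0<|a 0<|a 0<|a 0<|a 0<|a 1<|a 2<|a 0<|a 4<|a 8<|a 16<|a 32<|b) (a 0<|a 0<|a 0<|a 0<|a 0<|a 636<|a 0<|a 1261<|a 153276<|a 152085<|a 162382<|a 146658<|a 158299<|a 138437<|a 157429<|a 29134<|a 144556<|a 159390<|a 151027<|a 12905<|a 9352<|a 144195<|b) 0 0 0 0 (-1))<|
 a (c 2 (a 209<|a 11592<|a 47<|a 789<|a 20884<|a 39197<|a 70106<|a 141635<|a 272602<|a 537924<|a 1062359<|a 2098372<|b) (a 0<|a 0<|a 0<|a 0<|a 0<|a 4<|a 0<|a 1<|a 0<|a 8<|a 0<|a 0<|a 0<|a 2<|a 17<|a 32<|a 65<|a 130<|a 259<|a 514<|a 1027<|a 2049<|b) (a 0<|a 0<|a 0<|a 0<|a 0<|a 1288<|a 0<|a 0<|a 0<|a 1032<|a 0<|a 0<|a 0<|a 0<|a 3093<|a 1305<|a 1035<|a 1047<|a 1115<|a 4184<|a 1374<|a 3158<|b) 1 1 0 2 (-1))<|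
 a (c 4 (a 2048<|a 1<|a 4096<|a 2<|a 8192<|a 4<|a 16384<|a 8<|a 32768<|a 16<|a 65536<|a 32<|a 131072<|a 64<|a 262144<|a 128<|a 524288<|a 256<|a 1048576<|a 512<|a 2097152<|a 1024<|b) (a 2<|a 8<|a 32<|a 128<|a 512<|a 2048<|a 8192<|a 32768<|a 131072<|a 524288<|a 2097152<|a 1<|a 4<|a 16<|a 64<|a 256<|a 1024<|a 4096<|a 16384<|a 65536<|a 262144<|a 1048576<|b) (a 0<|a 0<|a 0<|a 0<|a 0<|a 0<|a 0<|a 0<|a 0<|a 0<|a 0<|a 0<|a 0<|a 0<|a 0<|a 0<|a 0<|a 0<|a 0<|a 0<|a 0<|a 0<|b) 11 1 0 2 23)<|b)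
 (a 73788946619675296892<|a 73788383669721859196<|a 73787820719768421628<|a 73788383669721892092<|a 1272826748460842617084<|a 19258403909177515787516<|a 2471865113251963603196<|a 4796156555389227451644<|a 9518523038258872665340<|b)))

theorem ok8 : ClsOK (wd C1.w8) T8 := clsB_spec (c := c8) (by decide +kernel)

/-- the class 9 -/
def c9 : Cs := (beta% delta% lq2665b73bd8 fun a b c d _ _ _ _ _ j _ _ _ _ _ _ _ _ _ _ _ =>
 (d j 4 0 64 (a 13243<|a 66193<|a 3044<|a 45345<|a 290874<|a 534284<|a 1192097<|a 2240594<|b) (a 0<|a 0<|a 0<|a 0<|a 0<|a 0<|a 0<|a 0<|a 0<|a 0<|a 0<|a 4<|a 0<|a 1<|a 0<|a 9<|a 2<|a 0<|a 17<|a 33<|a 65<|a 129<|b) (a 0<|a 0<|a 0<|a 0<|a 0<|a 0<|a 0<|a 131155<|a 131689<|a 0<|a 20718<|a 1318<|a 21924<|a 5161<|a 132120<|a 148798<|a 16794<|a 752<|a 136299<|a 149180<|a 17125<|a 287<|b)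
 (a (c 1 (a 13243<|a 66193<|a 3044<|a 45345<|a 290874<|a 534284<|a 1192097<|a 2240594<|b) (a 0<|a 0<|a 0<|a 0<|a 0<|a 0<|a 0<|a 0<|a 0<|a 0<|a 0<|a 4<|a 0<|a 1<|a 0<|a 9<|a 2<|a 0<|a 17<|a 33<|a 65<|a 129<|b) (a 0<|a 0<|a 0<|a 0<|a 0<|a 0<|a 0<|a 131155<|a 131689<|a 0<|a 20718<|a 1318<|a 21924<|a 5161<|a 132120<|a 148798<|a 16794<|a 752<|a 136299<|a 149180<|a 17125<|a 287<|b) 1 0 0 0 (-1))<|
 a (c 2 (a 18<|a 4680<|a 468<|a 8245<|a 1736<|a 16994<|a 3044<|a 47081<|a 66957<|a 156572<|a 287654<|a 532932<|a 1066601<|a 2113618<|b) (a 0<|a 0<|a 0<|a 0<|a 1<|a 0<|a 0<|a 0<|a 5<|a 0<|a 16<|a 69<|a 2<|a 9<|a 32<|a 158<|a 277<|a 557<|a 1068<|a 2060<|a 4144<|a 8225<|b) (a 0<|a 0<|a 0<|a 0<|a 0<|a 0<|a 0<|a 0<|a 0<|a 0<|a 0<|a 192<|a 0<|a 0<|a 0<|a 616<|a 644<|a 47<|a 197<|a 736<|a 166<|a 66<|b) 3 1 0 2 7)<|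
 a (c 4 (a 2048<|a 1<|a 4096<|a 2<|a 8192<|a 4<|a 16384<|a 8<|a 32768<|a 16<|a 65536<|a 32<|a 131072<|a 64<|a 262144<|a 128<|a 524288<|a 256<|a 1048576<|a 512<|a 2097152<|a 1024<|b) (a 2<|a 8<|a 32<|a 128<|a 512<|a 2048<|a 8192<|a 32768<|a 131072<|a 524288<|a 2097152<|a 1<|a 4<|a 16<|a 64<|a 256<|a 1024<|a 4096<|a 16384<|a 65536<|a 262144<|a 1048576<|b) (a 0<|a 0<|a 0<|a 0<|a 0<|a 0<|a 0<|a 0<|a 0<|a 0<|a 0<|a 0<|a 0<|a 0<|a 0<|a 0<|a 0<|a 0<|a 0<|a 0<|a 0<|a 0<|b) 11 1 0 2 23)<|b)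
 (a 73792324731813512316<|a 73792324594408146172<|a 73792324869218944252<|a 73791198831906637052<|a 73792324869286085756<|a 73792324594341069948<|a 73793450631720453372<|a 73793450906531251452<|a 73793450356909655292<|a 1272829563485555050748<|a 1272831815560313751804<|a 73792324731880719612<|a 73794576256749389052<|a 73794576531560187132<|a 73792325006691517692<|a 20457447904017927162108<|a 39642061740126239246588<|a 20457450155543064267004<|a 25179816638962331076860<|a 29902183121831976290556<|b)))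

theorem ok9 : ClsOK (wd C1.w9) T9 := clsB_spec (c := c9) (by decide +kernel)

/-- the class 10 -/
def c10 : Cs := (beta% delta% lq2665b73bd8 fun a b c d _ _ _ _ _ _ k _ _ _ _ _ _ _ _ _ _ =>
 (d k 4 0 64 (a 51854<|a 76262<|a 1922<|a 180377<|a 358677<|a 547435<|a 1127321<|a 2112271<|b) (a 0<|a 0<|a 0<|a 0<|a 0<|a 0<|a 0<|a 0<|a 0<|a 0<|a 4<|a 0<|a 0<|a 0<|a 0<|a 1<|a 2<|a 9<|a 18<|a 32<|a 66<|a 128<|b) (a 0<|a 0<|a 0<|a 0<|a 0<|a 0<|a 0<|a 14957<|a 14447<|a 14965<|a 4672<|a 13069<|a 0<|a 6973<|a 23389<|a 21399<|a 978<|a 6210<|a 2114<|a 10602<|a 6933<|a 23249<|b)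
 (a (c 1 (a 51854<|a 76262<|a 1922<|a 180377<|a 358677<|a 547435<|a 1127321<|a 2112271<|b) (a 0<|a 0<|a 0<|a 0<|a 0<|a 0<|a 0<|a 0<|a 0<|a 0<|a 4<|a 0<|a 0<|a 0<|a 0<|a 1<|a 2<|a 9<|a 18<|a 32<|a 66<|a 128<|b) (a 0<|a 0<|a 0<|a 0<|a 0<|a 0<|a 0<|a 14957<|a 14447<|a 14965<|a 4672<|a 13069<|a 0<|a 6973<|a 23389<|a 21399<|a 978<|a 6210<|a 2114<|a 10602<|a 6933<|a 23249<|b) 1 0 0 0 3)<|
 a (c 2 (a 80<|a 33066<|a 130<|a 4408<|a 1792<|a 524535<|a 3044<|a 8449<|a 16530<|a 66387<|a 163851<|a 266289<|a 1573078<|a 2621687<|b) (a 0<|a 0<|a 0<|a 0<|a 0<|a 0<|a 1<|a 4<|a 0<|a 0<|a 16<|a 69<|a 8<|a 128<|a 260<|a 2<|a 513<|a 1026<|a 2056<|a 37<|a 4128<|a 8224<|b) (a 0<|a 0<|a 0<|a 0<|a 0<|a 0<|a 0<|a 0<|a 0<|a 0<|a 0<|a 300<|a 0<|a 811<|a 21<|a 0<|a 263<|a 522<|a 820<|a 0<|a 49<|a 39<|b) 3 1 0 2 7)<|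
 a (c 4 (a 2048<|a 1<|a 4096<|a 2<|a 8192<|a 4<|a 16384<|a 8<|a 32768<|a 16<|a 65536<|a 32<|a 131072<|a 64<|a 262144<|a 128<|a 524288<|a 256<|a 1048576<|a 512<|a 2097152<|a 1024<|b) (a 2<|a 8<|a 32<|a 128<|a 512<|a 2048<|a 8192<|a 32768<|a 131072<|a 524288<|a 2097152<|a 1<|a 4<|a 16<|a 64<|a 256<|a 1024<|a 4096<|a 16384<|a 65536<|a 262144<|a 1048576<|b) (a 0<|a 0<|a 0<|a 0<|a 0<|a 0<|a 0<|a 0<|a 0<|a 0<|a 0<|a 0<|a 0<|a 0<|a 0<|a 0<|a 0<|a 0<|a 0<|a 0<|a 0<|a 0<|b) 11 1 0 2 23)<|b)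
 (a 73792324869286085756<|a 73792324731813512316<|a 73792325006758528124<|a 73793450631720453372<|a 73791198969379210492<|a 73793451044137911548<|a 2471867928414148348156<|a 73791199106851783932<|a 73795702156589122812<|a 1272831815560313751804<|a 20457447904293006395644<|a 39642057236801422674172<|a 5995202802579476367612<|a 10717569285449121581308<|b)))

theorem ok10 : ClsOK (wd C1.w10) T10 := clsB_spec (c := c10) (by decide +kernel)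

/-- the class 11 -/
def c11 : Cs := (beta% delta% lq2665b73bd8 fun a b c d _ _ _ _ _ _ _ l _ _ _ _ _ _ _ _ _ =>
 (d l 4 0 64 (a 2<|a 168413<|a 4010<|a 262698<|a 8728<|a 527365<|a 16821<|a 77737<|a 1573052<|a 2654580<|b) (a 0<|a 1<|a 0<|a 0<|a 0<|a 0<|a 0<|a 0<|a 0<|a 0<|a 0<|a 5<|a 0<|a 16<|a 64<|a 0<|a 149<|a 2<|a 9<|a 37<|a 293<|a 549<|b) (a 0<|a 0<|a 0<|a 0<|a 0<|a 0<|a 32881<|a 0<|a 0<|a 0<|a 37824<|a 33569<|a 0<|a 33081<|a 4885<|a 92<|a 38152<|a 38904<|a 38601<|a 801<|a 5220<|a 32824<|b)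
 (a (c 1 (a 2<|a 168413<|a 4010<|a 262698<|a 8728<|a 527365<|a 16821<|a 77737<|a 1573052<|a 2654580<|b) (a 0<|a 1<|a 0<|a 0<|a 0<|a 0<|a 0<|a 0<|a 0<|a 0<|a 0<|a 5<|a 0<|a 16<|a 64<|a 0<|a 149<|a 2<|a 9<|a 37<|a 293<|a 549<|b) (a 0<|a 0<|a 0<|a 0<|a 0<|a 0<|a 32881<|a 0<|a 0<|a 0<|a 37824<|a 33569<|a 0<|a 33081<|a 4885<|a 92<|a 38152<|a 38904<|a 38601<|a 801<|a 5220<|a 32824<|b) 3 0 0 0 3)<|
 a (c 2 (a 2<|a 4129<|a 128<|a 262428<|a 820<|a 8620<|a 1104<|a 2938<|a 16821<|a 73859<|a 172900<|a 532993<|a 1057469<|a 2138997<|b) (a 0<|a 1<|a 0<|a 0<|a 0<|a 0<|a 0<|a 4<|a 0<|a 16<|a 64<|a 145<|a 2<|a 36<|a 260<|a 0<|a 545<|a 1076<|a 8<|a 2100<|a 4144<|a 8244<|b) (a 0<|a 0<|a 0<|a 0<|a 0<|a 0<|a 0<|a 0<|a 0<|a 0<|a 16<|a 328<|a 0<|a 0<|a 5<|a 0<|a 316<|a 33124<|a 0<|a 9<|a 40<|a 33125<|b) 3 1 0 2 7)<|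
 a (c 4 (a 2048<|a 1<|a 4096<|a 2<|a 8192<|a 4<|a 16384<|a 8<|a 32768<|a 16<|a 65536<|a 32<|a 131072<|a 64<|a 262144<|a 128<|a 524288<|a 256<|a 1048576<|a 512<|a 2097152<|a 1024<|b) (a 2<|a 8<|a 32<|a 128<|a 512<|a 2048<|a 8192<|a 32768<|a 131072<|a 524288<|a 2097152<|a 1<|a 4<|a 16<|a 64<|a 256<|a 1024<|a 4096<|a 16384<|a 65536<|a 262144<|a 1048576<|b) (a 0<|a 0<|a 0<|a 0<|a 0<|a 0<|a 0<|a 0<|a 0<|a 0<|a 0<|a 0<|a 0<|a 0<|a 0<|a 0<|a 0<|a 0<|a 0<|a 0<|a 0<|a 0<|b) 11 1 0 2 23)<|b)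
 (a 73797954918710297852<|a 73799080681211806972<|a 73799080956022605052<|a 73800206443578967292<|a 73800206993468998908<|a 20457454660242337483004<|a 39642063992750753761532<|a 20457454659967258249468<|a 39642068496075570333948<|a 20457450156367899314428<|a 39642063993575454591228<|a 20457463666341812160764<|a 39642077504374605138172<|a 25179830151135938267388<|a 29902196634005583481084<|b)))

theorem ok11 : ClsOK (wd C2.w11) T11 := clsB_spec (c := c11) (by decide +kernel)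

/-- the class 12 -/
def c12 : Cs := (beta% delta% lq2665b73bd8 fun a b c d _ _ _ _ _ _ _ _ m _ _ _ _ _ _ _ _ =>
 (d m 4 0 64 (a 9324<|a 23140<|a 40617<|a 70598<|a 134495<|a 525152<|a 1314049<|a 2359518<|b) (a 0<|a 0<|a 0<|a 0<|a 0<|a 0<|a 0<|a 0<|a 0<|a 0<|a 0<|a 0<|a 0<|a 1<|a 2<|a 4<|a 8<|a 16<|a 0<|a 32<|a 64<|a 128<|b) (a 0<|a 0<|a 0<|a 0<|a 0<|a 263226<|a 0<|a 0<|a 0<|a 948<|a 5418<|a 3734<|a 4865<|a 6340<|a 270074<|a 267917<|a 3979<|a 269807<|a 269916<|a 264243<|a 262585<|a 4831<|b)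
 (a (c 1 (a 9324<|a 23140<|a 40617<|a 70598<|a 134495<|a 525152<|a 1314049<|a 2359518<|b) (a 0<|a 0<|a 0<|a 0<|a 0<|a 0<|a 0<|a 0<|a 0<|a 0<|a 0<|a 0<|a 0<|a 1<|a 2<|a 4<|a 8<|a 16<|a 0<|a 32<|a 64<|a 128<|b) (a 0<|a 0<|a 0<|a 0<|a 0<|a 263226<|a 0<|a 0<|a 0<|a 948<|a 5418<|a 3734<|a 4865<|a 6340<|a 270074<|a 267917<|a 3979<|a 269807<|a 269916<|a 264243<|a 262585<|a 4831<|b) 0 0 0 0 7)<|
 a (c 2 (a 58<|a 4099<|a 128<|a 262249<|a 308<|a 8245<|a 601<|a 2439<|a 1536<|a 1050815<|a 23140<|a 47813<|a 79786<|a 134495<|a 534284<|a 3149279<|b) (a 0<|a 0<|a 0<|a 0<|a 0<|a 1<|a 0<|a 4<|a 17<|a 64<|a 320<|a 149<|a 2<|a 33<|a 1238<|a 2290<|a 4407<|a 8644<|a 9<|a 16688<|a 656<|a 33616<|b) (a 0<|a 0<|a 0<|a 0<|a 0<|a 0<|a 0<|a 0<|a 0<|a 0<|a 0<|a 0<|a 0<|a 0<|a 78<|a 90<|a 71<|a 24<|a 0<|a 18<|a 0<|a 26<|b) 5 1 0 2 (-9))<|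
 a (c 4 (a 2048<|a 1<|a 4096<|a 2<|a 8192<|a 4<|a 16384<|a 8<|a 32768<|a 16<|a 65536<|a 32<|a 131072<|a 64<|a 262144<|a 128<|a 524288<|a 256<|a 1048576<|a 512<|a 2097152<|a 1024<|b) (a 2<|a 8<|a 32<|a 128<|a 512<|a 2048<|a 8192<|a 32768<|a 131072<|a 524288<|a 2097152<|a 1<|a 4<|a 16<|a 64<|a 256<|a 1024<|a 4096<|a 16384<|a 65536<|a 262144<|a 1048576<|b) (a 0<|a 0<|a 0<|a 0<|a 0<|a 0<|a 0<|a 0<|a 0<|a 0<|a 0<|a 0<|a 0<|a 0<|a 0<|a 0<|a 0<|a 0<|a 0<|a 0<|a 0<|a 0<|b) 11 1 0 2 23)<|b)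
 (a 1272834067635072780540<|a 2471872432701138651388<|a 2471881438800613329148<|a 20457456912592040741116<|a 5995209558803753322748<|a 10717576041673398536444<|b)))

theorem ok12 : ClsOK (wd C2.w12) T12 := clsB_spec (c := c12) (by decide +kernel)

/-- the class 13 -/
def c13 : Cs := (beta% delta% lq2665b73bd8 fun a b c d _ _ _ _ _ _ _ _ _ n _ _ _ _ _ _ _ =>
 (d n 5 0 76 (a 603005<|a 3402662<|b) (a 0<|a 0<|a 0<|a 0<|a 0<|a 0<|a 0<|a 0<|a 0<|a 0<|a 0<|a 0<|a 0<|a 0<|a 0<|a 0<|a 0<|a 0<|a 0<|a 1<|a 0<|a 2<|b) (a 0<|a 0<|a 1433573<|a 13169<|a 1109245<|a 1106558<|a 162204<|a 1118696<|a 1467926<|a 1432113<|a 1222561<|a 1401208<|a 1213080<|a 423238<|a 1155109<|a 266872<|a 249640<|a 1148035<|a 256965<|a 1081033<|a 1538526<|a 102937<|b)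
 (a (c 1 (a 603005<|a 3402662<|b) (a 0<|a 0<|a 0<|a 0<|a 0<|a 0<|a 0<|a 0<|a 0<|a 0<|a 0<|a 0<|a 0<|a 0<|a 0<|a 0<|a 0<|a 0<|a 0<|a 1<|a 0<|a 2<|b) (a 0<|a 0<|a 1433573<|a 13169<|a 1109245<|a 1106558<|a 162204<|a 1118696<|a 1467926<|a 1432113<|a 1222561<|a 1401208<|a 1213080<|a 423238<|a 1155109<|a 266872<|a 249640<|a 1148035<|a 256965<|a 1081033<|a 1538526<|a 102937<|b) 1 0 0 0 (-2))<|
 a (c 2 (a 603005<|a 3402662<|b) (a 0<|a 0<|a 0<|a 0<|a 0<|a 0<|a 0<|a 0<|a 0<|a 0<|a 0<|a 0<|a 0<|a 0<|a 0<|a 0<|a 0<|a 0<|a 0<|a 1<|a 0<|a 2<|b) (a 0<|a 0<|a 148199<|a 1297198<|a 198071<|a 1272100<|a 1090564<|a 1305347<|a 257248<|a 1103932<|a 1340019<|a 1354280<|a 224555<|a 286579<|a 1305683<|a 202<|a 1418703<|a 1249991<|a 1173118<|a 1272264<|a 1054448<|a 1071733<|b) 1 1 0 2 (-2))<|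
 a (c 4 (a 603005<|a 3402662<|b) (a 0<|a 0<|a 0<|a 0<|a 0<|a 0<|a 0<|a 0<|a 0<|a 0<|a 0<|a 0<|a 0<|a 0<|a 0<|a 0<|a 0<|a 0<|a 0<|a 1<|a 0<|a 2<|b) (a 0<|a 0<|a 1433570<|a 13176<|a 1109228<|a 1106525<|a 162269<|a 1118568<|a 1468180<|a 1431600<|a 1221536<|a 1403258<|a 1217177<|a 415045<|a 1171495<|a 299642<|a 184107<|a 1279105<|a 519108<|a 1134007<|a 489949<|a 1210815<|b) 1 1 0 2 (-2))<|
 a (c 5 (a 2048<|a 1<|a 4096<|a 2<|a 8192<|a 4<|a 16384<|a 8<|a 32768<|a 16<|a 65536<|a 32<|a 131072<|a 64<|a 262144<|a 128<|a 524288<|a 256<|a 1048576<|a 512<|a 2097152<|a 1024<|b) (a 2<|a 8<|a 32<|a 128<|a 512<|a 2048<|a 8192<|a 32768<|a 131072<|a 524288<|a 2097152<|a 1<|a 4<|a 16<|a 64<|a 256<|a 1024<|a 4096<|a 16384<|a 65536<|a 262144<|a 1048576<|b) (a 0<|a 0<|a 0<|a 0<|a 0<|a 0<|a 0<|a 0<|a 0<|a 0<|a 0<|a 0<|a 0<|a 0<|a 0<|a 0<|a 0<|a 0<|a 0<|a 0<|a 0<|a 0<|b)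 11 2 2 5 23)<|b)
 (a 1424719078415840482391229516<|a 2991335824908948064163596540<|a 3300745276866567218564958460<|b)))

theorem ok13 : ClsOK (wd C2.w13) T13 := clsB_spec (c := c13) (by decide +kernel)

/-- the class 14 -/
def c14 : Cs := (beta% delta% lq2665b73bd8 fun a b c d _ _ _ _ _ _ _ _ _ _ o _ _ _ _ _ _ =>
 (d o 5 0 76 (a 46827<|a 292594<|a 90592<|a 561381<|a 1261068<|a 2790814<|b) (a 0<|a 0<|a 0<|a 0<|a 0<|a 0<|a 0<|a 0<|a 0<|a 0<|a 0<|a 0<|a 0<|a 0<|a 0<|a 1<|a 4<|a 0<|a 2<|a 9<|a 20<|a 40<|b) (a 0<|a 0<|a 0<|a 0<|a 0<|a 163532<|a 0<|a 141219<|a 135192<|a 156563<|a 134470<|a 11056<|a 131852<|a 144842<|a 163629<|a 157517<|a 8785<|a 21541<|a 1860<|a 138445<|a 147985<|a 19504<|b)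
 (a (c 1 (a 46827<|a 292594<|a 90592<|a 561381<|a 1261068<|a 2790814<|b) (a 0<|a 0<|a 0<|a 0<|a 0<|a 0<|a 0<|a 0<|a 0<|a 0<|a 0<|a 0<|a 0<|a 0<|a 0<|a 1<|a 4<|a 0<|a 2<|a 9<|a 20<|a 40<|b) (a 0<|a 0<|a 0<|a 0<|a 0<|a 163532<|a 0<|a 141219<|a 135192<|a 156563<|a 134470<|a 11056<|a 131852<|a 144842<|a 163629<|a 157517<|a 8785<|a 21541<|a 1860<|a 138445<|a 147985<|a 19504<|b) 3 0 0 0 3)<|
 a (c 2 (a 46827<|a 292594<|a 90592<|a 561381<|a 1261068<|a 2790814<|b) (a 0<|a 0<|a 0<|a 0<|a 0<|a 0<|a 0<|a 0<|a 0<|a 0<|a 0<|a 0<|a 0<|a 0<|a 0<|a 1<|a 4<|a 0<|a 2<|a 9<|a 20<|a 40<|b) (a 0<|a 0<|a 0<|a 0<|a 0<|a 163244<|a 0<|a 162328<|a 149517<|a 143835<|a 155166<|a 12156<|a 141114<|a 138590<|a 133292<|a 14415<|a 26634<|a 12792<|a 31977<|a 3084<|a 142392<|a 14375<|b) 3 1 0 2 3)<|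
 a (c 4 (a 46827<|a 292594<|a 90592<|a 561381<|a 1261068<|a 2790814<|b) (a 0<|a 0<|a 0<|a 0<|a 0<|a 0<|a 0<|a 0<|a 0<|a 0<|a 0<|a 0<|a 0<|a 0<|a 0<|a 1<|a 4<|a 0<|a 2<|a 9<|a 20<|a 40<|b) (a 0<|a 0<|a 0<|a 0<|a 0<|a 163574<|a 0<|a 141104<|a 135429<|a 156050<|a 133383<|a 9057<|a 136019<|a 136662<|a 147296<|a 152052<|a 17384<|a 152700<|a 29102<|a 146073<|a 7650<|a 149781<|b) 3 1 0 2 3)<|
 a (c 5 (a 2048<|a 1<|a 4096<|a 2<|a 8192<|a 4<|a 16384<|a 8<|a 32768<|a 16<|a 65536<|a 32<|a 131072<|a 64<|a 262144<|a 128<|a 524288<|a 256<|a 1048576<|a 512<|a 2097152<|a 1024<|b) (a 2<|a 8<|a 32<|a 128<|a 512<|a 2048<|a 8192<|a 32768<|a 131072<|a 524288<|a 2097152<|a 1<|a 4<|a 16<|a 64<|a 256<|a 1024<|a 4096<|a 16384<|a 65536<|a 262144<|a 1048576<|b) (a 0<|a 0<|a 0<|a 0<|a 0<|a 0<|a 0<|a 0<|a 0<|a 0<|a 0<|a 0<|a 0<|a 0<|a 0<|a 0<|a 0<|a 0<|a 0<|a 0<|a 0<|a 0<|b)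 11 2 2 5 23)<|b)
 (a 1341000973479667206635693308<|a 2598586057333222118231417996<|a 2598586055027660652713911372<|a 1341000975784665584760824956<|a 1341000975785791759545574268<|a 2598586066555467980301444172<|a 1650561550389236401323419900<|a 1960122118074307384371620092<|b)))

theorem ok14 : ClsOK (wd C2.w14) T14 := clsB_spec (c := c14) (by decide +kernel)

/-- the class 15 -/
def c15 : Cs := (beta% delta% lq2665b73bd8 fun a b c d _ _ _ _ _ _ _ _ _ _ _ p _ _ _ _ _ =>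
 (d p 6 0 88 (a 948<|a 1123401<|a 7492<|a 16941<|a 148810<|a 302159<|a 809798<|a 3273060<|b) (a 0<|a 0<|a 0<|a 0<|a 0<|a 0<|a 0<|a 0<|a 0<|a 1<|a 0<|a 0<|a 4<|a 0<|a 9<|a 0<|a 0<|a 25<|a 36<|a 104<|a 2<|a 143<|b) (a 0<|a 0<|a 0<|a 0<|a 0<|a 75930<|a 0<|a 0<|a 100416<|a 67066<|a 98598<|a 68942<|a 42120<|a 0<|a 74197<|a 432<|a 98368<|a 74889<|a 77<|a 1511<|a 1394<|a 74754<|b)
 (a (c 1 (a 948<|a 1123401<|a 7492<|a 16941<|a 148810<|a 302159<|a 809798<|a 3273060<|b) (a 0<|a 0<|a 0<|a 0<|a 0<|a 0<|a 0<|a 0<|a 0<|a 1<|a 0<|a 0<|a 4<|a 0<|a 9<|a 0<|a 0<|a 25<|a 36<|a 104<|a 2<|a 143<|b) (a 0<|a 0<|a 0<|a 0<|a 0<|a 75930<|a 0<|a 0<|a 100416<|a 67066<|a 98598<|a 68942<|a 42120<|a 0<|a 74197<|a 432<|a 98368<|a 74889<|a 77<|a 1511<|a 1394<|a 74754<|b) 3 0 0 0 (-3))<|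
 a (c 2 (a 3<|a 2132464<|a 951<|a 1089869<|a 7495<|a 16793<|a 105463<|a 574654<|a 253629<|a 302159<|b) (a 0<|a 1<|a 0<|a 0<|a 0<|a 0<|a 0<|a 0<|a 0<|a 5<|a 0<|a 0<|a 17<|a 0<|a 32<|a 0<|a 85<|a 353<|a 528<|a 161<|a 8<|a 2<|b) (a 0<|a 0<|a 0<|a 0<|a 0<|a 0<|a 0<|a 0<|a 432<|a 4<|a 1025<|a 0<|a 35156<|a 0<|a 313<|a 33021<|a 32832<|a 485<|a 32776<|a 33244<|a 9328<|a 357<|b) 5 1 0 2 5)<|
 a (c 3 (a 41<|a 2061<|a 94<|a 4156<|a 168<|a 22562<|a 468<|a 135352<|a 948<|a 86173<|a 1940<|a 41833<|a 289577<|a 536687<|a 1188675<|a 2322766<|b) (a 0<|a 0<|a 0<|a 0<|a 0<|a 1<|a 4<|a 17<|a 85<|a 325<|a 1281<|a 2<|a 9<|a 0<|a 42<|a 2325<|a 562<|a 153<|a 4409<|a 8204<|a 16781<|a 33497<|b) (a 0<|a 0<|a 0<|a 0<|a 0<|a 0<|a 0<|a 0<|a 0<|a 0<|a 9<|a 0<|a 0<|a 0<|a 0<|a 20<|a 0<|a 0<|a 5<|a 6<|a 26<|a 8211<|b) 5 2 1 3 (-9))<|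
 a (c 4 (a 3<|a 2132464<|a 951<|a 1089869<|a 7495<|a 16793<|a 105463<|a 574654<|a 253629<|a 302159<|b) (a 0<|a 1<|a 0<|a 0<|a 0<|a 0<|a 0<|a 0<|a 0<|a 5<|a 0<|a 0<|a 17<|a 0<|a 32<|a 0<|a 85<|a 353<|a 528<|a 161<|a 8<|a 2<|b) (a 0<|a 0<|a 0<|a 0<|a 0<|a 0<|a 0<|a 0<|a 4<|a 436<|a 1<|a 0<|a 35868<|a 0<|a 44<|a 8228<|a 9569<|a 1392<|a 8665<|a 9328<|a 42412<|a 34880<|b) 5 1 1 2 5)<|
 a (c 6 (a 2048<|a 1<|a 4096<|a 2<|a 8192<|a 4<|a 16384<|a 8<|a 32768<|a 16<|a 65536<|a 32<|a 131072<|a 64<|a 262144<|a 128<|a 524288<|a 256<|a 1048576<|a 512<|a 2097152<|a 1024<|b) (a 2<|a 8<|a 32<|a 128<|a 512<|a 2048<|a 8192<|a 32768<|a 131072<|a 524288<|a 2097152<|a 1<|a 4<|a 16<|a 64<|a 256<|a 1024<|a 4096<|a 16384<|a 65536<|a 262144<|a 1048576<|b) (a 0<|a 0<|a 0<|a 0<|a 0<|a 0<|a 0<|a 0<|a 0<|a 0<|a 0<|a 0<|a 0<|a 0<|a 0<|a 0<|a 0<|a 0<|a 0<|a 0<|a 0<|a 0<|b) 11 1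 1 2 23)<|b)
 (a 5096599222027366426100667421948<|a 5096599231470947314760482460924<|a 5096599231475557874878734570748<|a 87811110400264508320126511257852<|a 87811110390820927431466293565692<|a 170525621540718106664076650387708<|a 170525621512387366249897958480124<|a 5096599259810908849176886547708<|a 5096599259801687728938771715324<|a 87811110475813150925805941070076<|a 108172748241997527927816523520252<|a 128534386008163462689357318756604<|b)))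

theorem ok15 : ClsOK (wd C2.w15) T15 := clsB_spec (c := c15) (by decide +kernel)

/-- the class 16 -/
def c16 : Cs := (beta% delta% lq2665b73bd8 fun a b c d _ _ _ _ _ _ _ _ _ _ _ _ q _ _ _ _ =>
 (d q 6 1 100 (a 188979<|a 1105622<|a 99232<|a 395739<|a 696545<|a 3320025<|b) (a 0<|a 0<|a 0<|a 0<|a 0<|a 0<|a 0<|a 0<|a 0<|a 0<|a 0<|a 0<|a 0<|a 0<|a 0<|a 0<|a 4<|a 1<|a 9<|a 17<|a 2<|a 35<|b) (a 0<|a 0<|a 0<|a 0<|a 0<|a 53817<|a 0<|a 53978<|a 8751<|a 54014<|a 62843<|a 24366<|a 712<|a 38924<|a 6<|a 41096<|a 63969<|a 25112<|a 10998<|a 53388<|a 56203<|a 8580<|b)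
 (a (c 1 (a 188979<|a 1105622<|a 99232<|a 395739<|a 696545<|a 3320025<|b) (a 0<|a 0<|a 0<|a 0<|a 0<|a 0<|a 0<|a 0<|a 0<|a 0<|a 0<|a 0<|a 0<|a 0<|a 0<|a 0<|a 4<|a 1<|a 9<|a 17<|a 2<|a 35<|b) (a 0<|a 0<|a 0<|a 0<|a 0<|a 53817<|a 0<|a 53978<|a 8751<|a 54014<|a 62843<|a 24366<|a 712<|a 38924<|a 6<|a 41096<|a 63969<|a 25112<|a 10998<|a 53388<|a 56203<|a 8580<|b) 1 0 0 0 (-1))<|
 a (c 2 (a 3791<|a 9128<|a 20078<|a 35571<|a 67484<|a 274293<|a 191740<|a 566759<|a 1939850<|a 3003232<|b) (a 0<|a 0<|a 0<|a 0<|a 0<|a 0<|a 0<|a 0<|a 0<|a 0<|a 0<|a 1<|a 0<|a 2<|a 5<|a 9<|a 16<|a 79<|a 35<|a 139<|a 432<|a 692<|b) (a 0<|a 0<|a 0<|a 0<|a 0<|a 0<|a 0<|a 0<|a 0<|a 0<|a 512<|a 1675<|a 5368<|a 449<|a 1543<|a 1630<|a 258<|a 657<|a 888<|a 691<|a 1272<|a 4202<|b) 5 1 0 2 5)<|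
 a (c 3 (a 240<|a 1083497<|a 443<|a 1776<|a 6398<|a 8194<|a 18609<|a 98843<|a 166512<|a 295440<|a 526995<|a 3146411<|b) (a 0<|a 0<|a 0<|a 0<|a 0<|a 0<|a 0<|a 1<|a 5<|a 0<|a 9<|a 0<|a 17<|a 32<|a 65<|a 0<|a 128<|a 256<|a 512<|a 1025<|a 2<|a 2051<|b) (a 0<|a 0<|a 0<|a 0<|a 0<|a 0<|a 0<|a 0<|a 520<|a 0<|a 598<|a 0<|a 34895<|a 35379<|a 2628<|a 0<|a 35354<|a 565<|a 34816<|a 517<|a 0<|a 33320<|b) 1 2 1 3 (-1))<|
 a (c 4 (a 3791<|a 9128<|a 20078<|a 35571<|a 67484<|a 274293<|a 191740<|a 566759<|a 1939850<|a 3003232<|b) (a 0<|a 0<|a 0<|a 0<|a 0<|a 0<|a 0<|a 0<|a 0<|a 0<|a 0<|a 1<|a 0<|a 2<|a 5<|a 9<|a 16<|a 79<|a 35<|a 139<|a 432<|a 692<|b) (a 0<|a 0<|a 0<|a 0<|a 0<|a 0<|a 0<|a 0<|a 0<|a 0<|a 1026<|a 333<|a 1337<|a 24<|a 1683<|a 978<|a 1922<|a 1686<|a 839<|a 164<|a 4569<|a 539<|b) 5 1 1 2 5)<|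
 a (c 6 (a 2048<|a 1<|a 4096<|a 2<|a 8192<|a 4<|a 16384<|a 8<|a 32768<|a 16<|a 65536<|a 32<|a 131072<|a 64<|a 262144<|a 128<|a 524288<|a 256<|a 1048576<|a 512<|a 2097152<|a 1024<|b) (a 2<|a 8<|a 32<|a 128<|a 512<|a 2048<|a 8192<|a 32768<|a 131072<|a 524288<|a 2097152<|a 1<|a 4<|a 16<|a 64<|a 256<|a 1024<|a 4096<|a 16384<|a 65536<|a 262144<|a 1048576<|b) (a 0<|a 0<|a 0<|a 0<|a 0<|a 0<|a 0<|a 0<|a 0<|a 0<|a 0<|a 0<|a 0<|a 0<|a 0<|a 0<|a 0<|a 0<|a 0<|a 0<|a 0<|a 0<|b) 11 1 1 2 23)<|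
 a (c 8 (a 3791<|a 9128<|a 20078<|a 35571<|a 67484<|a 274293<|a 191740<|a 566759<|a 1939850<|a 3003232<|b) (a 0<|a 0<|a 0<|a 0<|a 0<|a 0<|a 0<|a 0<|a 0<|a 0<|a 0<|a 1<|a 0<|a 2<|a 5<|a 9<|a 16<|a 79<|a 35<|a 139<|a 432<|a 692<|b) (a 0<|a 0<|a 0<|a 0<|a 0<|a 0<|a 0<|a 0<|a 0<|a 0<|a 512<|a 1675<|a 5368<|a 449<|a 1543<|a 1630<|a 258<|a 657<|a 888<|a 691<|a 1272<|a 4202<|b) 5 1 1 2 5)<|b)
 (a 666729706802281462381550842570915881<|a 666729706802276741167989752410456105<|a 666729706802290904808673847525556265<|a 666729706802286183595112757365096489<|a 334017059663979458442402885729763369<|a 334017059663984184267651093829238825<|a 334017059663988905481211359355977769<|a 334017059663974737228842620203024425<|a 334017059741355432111300243071418409<|a 334017059741341268470616147956318249<|a 334017059741345994295866005323235369<|a 11175573465181263938974083711975276585<|a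 5754795262461314411370191985438605353<|a 5754795262461328575010876080553705513<|a 5754795262461323849185626223186788393<|a 1673629649243355128524538684430598185<|a 2997665348169736173799815248381722665<|b)))

theorem ok16 : ClsOK (wd C3.w16) T16 := clsB_spec (c := c16) (by decide +kernel)

/-- the class 17 -/
def c17 : Cs := (beta% delta% lq2665b73bd8 fun a b c d _ _ _ _ _ _ _ _ _ _ _ _ _ r _ _ _ =>
 (d r 6 0 88 (a 515178<|a 729189<|a 1874229<|a 2752048<|b) (a 0<|a 0<|a 0<|a 0<|a 0<|a 0<|a 0<|a 0<|a 0<|a 0<|a 0<|a 0<|a 0<|a 0<|a 0<|a 0<|a 0<|a 0<|a 1<|a 2<|a 7<|a 10<|b) (a 0<|a 99642<|a 0<|a 0<|a 95620<|a 0<|a 66509<|a 224328<|a 66639<|a 34671<|a 159575<|a 64016<|a 160747<|a 20818<|a 74864<|a 42544<|a 236648<|a 147550<|a 89704<|a 232803<|a 178065<|a 100477<|b)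
 (a (c 1 (a 515178<|a 729189<|a 1874229<|a 2752048<|b) (a 0<|a 0<|a 0<|a 0<|a 0<|a 0<|a 0<|a 0<|a 0<|a 0<|a 0<|a 0<|a 0<|a 0<|a 0<|a 0<|a 0<|a 0<|a 1<|a 2<|a 7<|a 10<|b) (a 0<|a 99642<|a 0<|a 0<|a 95620<|a 0<|a 66509<|a 224328<|a 66639<|a 34671<|a 159575<|a 64016<|a 160747<|a 20818<|a 74864<|a 42544<|a 236648<|a 147550<|a 89704<|a 232803<|a 178065<|a 100477<|b) 2 0 0 0 0)<|
 a (c 2 (a 515178<|a 729189<|a 1874229<|a 2752048<|b) (a 0<|a 0<|a 0<|a 0<|a 0<|a 0<|a 0<|a 0<|a 0<|a 0<|a 0<|a 0<|a 0<|a 0<|a 0<|a 0<|a 0<|a 0<|a 1<|a 2<|a 7<|a 10<|b) (a 0<|a 236626<|a 0<|a 0<|a 40433<|a 0<|a 6078<|a 145576<|a 149604<|a 102745<|a 36427<|a 62955<|a 226845<|a 247764<|a 35335<|a 223966<|a 170907<|a 259864<|a 164917<|a 22371<|a 13914<|a 111357<|b) 2 1 0 2 (-4))<|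
 a (c 3 (a 5<|a 6155<|a 48<|a 37021<|a 123<|a 10381<|a 488<|a 26804<|a 576<|a 147801<|a 1591<|a 125028<|a 289568<|a 551796<|a 1210982<|a 2112136<|b) (a 0<|a 0<|a 1<|a 0<|a 0<|a 4<|a 20<|a 0<|a 80<|a 276<|a 1297<|a 0<|a 2<|a 33<|a 164<|a 11<|a 2207<|a 736<|a 4549<|a 8656<|a 17250<|a 33079<|b) (a 0<|a 0<|a 0<|a 0<|a 0<|a 0<|a 0<|a 0<|a 0<|a 0<|a 9<|a 0<|a 0<|a 0<|a 0<|a 0<|a 17<|a 0<|a 129<|a 146<|a 10<|a 2056<|b) 5 2 1 3 (-9))<|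
 a (c 4 (a 515178<|a 729189<|a 1874229<|a 2752048<|b) (a 0<|a 0<|a 0<|a 0<|a 0<|a 0<|a 0<|a 0<|a 0<|a 0<|a 0<|a 0<|a 0<|a 0<|a 0<|a 0<|a 0<|a 0<|a 1<|a 2<|a 7<|a 10<|b) (a 0<|a 236625<|a 0<|a 0<|a 40416<|a 0<|a 6130<|a 145413<|a 149865<|a 103248<|a 35431<|a 64970<|a 222777<|a 255989<|a 51747<|a 256763<|a 236466<|a 128788<|a 88159<|a 227087<|a 21324<|a 224416<|b) 2 1 1 2 (-4))<|
 a (c 6 (a 2048<|a 1<|a 4096<|a 2<|a 8192<|a 4<|a 16384<|a 8<|a 32768<|a 16<|a 65536<|a 32<|a 131072<|a 64<|a 262144<|a 128<|a 524288<|a 256<|a 1048576<|a 512<|a 2097152<|a 1024<|b) (a 2<|a 8<|a 32<|a 128<|a 512<|a 2048<|a 8192<|a 32768<|a 131072<|a 524288<|a 2097152<|a 1<|a 4<|a 16<|a 64<|a 256<|a 1024<|a 4096<|a 16384<|a 65536<|a 262144<|a 1048576<|b) (a 0<|a 0<|a 0<|a 0<|a 0<|a 0<|a 0<|a 0<|a 0<|a 0<|a 0<|a 0<|a 0<|a 0<|a 0<|a 0<|a 0<|a 0<|a 0<|a 0<|a 0<|a 0<|b) 11 1 1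 2 23)<|b)
 (a 93223693628408663900700964575484<|a 175303760508174390459533954668796<|a 93223693628408663337750675609852<|a 175303760508174391022486659553532<|a 195665398274344936344141680367868<|a 216027036040510871105682475604220<|b)))

theorem ok17 : ClsOK (wd C3.w17) T17 := clsB_spec (c := c17) (by decide +kernel)

/-- the class 18 -/
def c18 : Cs := (beta% delta% lq2665b73bd8 fun a b c d _ _ _ _ _ _ _ _ _ _ _ _ _ _ s _ _ =>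
 (d s 6 0 88 (a 3174<|a 103531<|a 439915<|a 562733<|a 1111792<|a 2243324<|b) (a 0<|a 0<|a 0<|a 0<|a 0<|a 0<|a 0<|a 0<|a 0<|a 0<|a 0<|a 1<|a 0<|a 0<|a 0<|a 0<|a 2<|a 0<|a 4<|a 8<|a 16<|a 33<|b) (a 0<|a 0<|a 0<|a 0<|a 0<|a 0<|a 57941<|a 131093<|a 131673<|a 132193<|a 132713<|a 189670<|a 4616<|a 169698<|a 58560<|a 41422<|a 21320<|a 153583<|a 177470<|a 37085<|a 22501<|a 63448<|b)
 (a (c 1 (a 3174<|a 103531<|a 439915<|a 562733<|a 1111792<|a 2243324<|b) (a 0<|a 0<|a 0<|a 0<|a 0<|a 0<|a 0<|a 0<|a 0<|a 0<|a 0<|a 1<|a 0<|a 0<|a 0<|a 0<|a 2<|a 0<|a 4<|a 8<|a 16<|a 33<|b) (a 0<|a 0<|a 0<|a 0<|a 0<|a 0<|a 57941<|a 131093<|a 131673<|a 132193<|a 132713<|a 189670<|a 4616<|a 169698<|a 58560<|a 41422<|a 21320<|a 153583<|a 177470<|a 37085<|a 22501<|a 63448<|b) 1 0 0 0 1)<|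
 a (c 2 (a 434<|a 22248<|a 3540<|a 313131<|a 11637<|a 118501<|a 141224<|a 1112868<|a 917845<|a 3511697<|b) (a 0<|a 0<|a 0<|a 0<|a 0<|a 0<|a 0<|a 0<|a 1<|a 0<|a 0<|a 5<|a 0<|a 20<|a 2<|a 0<|a 39<|a 85<|a 11<|a 351<|a 146<|a 703<|b) (a 0<|a 0<|a 0<|a 0<|a 0<|a 0<|a 0<|a 0<|a 0<|a 1030<|a 1756<|a 680<|a 0<|a 38057<|a 123<|a 1742<|a 685<|a 5642<|a 4192<|a 1709<|a 36864<|a 32900<|b) 5 1 0 2 5)<|
 a (c 3 (a 158<|a 4178<|a 468<|a 12423<|a 713<|a 2349<|a 1736<|a 41123<|a 66073<|a 156066<|a 291234<|a 536646<|a 1069211<|a 2120542<|b) (a 0<|a 0<|a 0<|a 0<|a 0<|a 0<|a 0<|a 1<|a 5<|a 17<|a 80<|a 37<|a 2<|a 11<|a 0<|a 138<|a 273<|a 527<|a 1037<|a 2057<|a 4099<|a 8243<|b) (a 0<|a 0<|a 0<|a 0<|a 0<|a 0<|a 0<|a 0<|a 0<|a 0<|a 4<|a 0<|a 0<|a 0<|a 0<|a 16489<|a 73<|a 16445<|a 16396<|a 16511<|a 107<|a 7<|b) 3 2 1 3 7)<|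
 a (c 4 (a 434<|a 22248<|a 3540<|a 313131<|a 11637<|a 118501<|a 141224<|a 1112868<|a 917845<|a 3511697<|b) (a 0<|a 0<|a 0<|a 0<|a 0<|a 0<|a 0<|a 0<|a 1<|a 0<|a 0<|a 5<|a 0<|a 20<|a 2<|a 0<|a 39<|a 85<|a 11<|a 351<|a 146<|a 703<|b) (a 0<|a 0<|a 0<|a 0<|a 0<|a 0<|a 0<|a 0<|a 0<|a 1540<|a 708<|a 1690<|a 0<|a 38075<|a 5707<|a 38509<|a 34554<|a 4120<|a 36902<|a 32993<|a 4163<|a 37087<|b) 5 1 1 2 5)<|
 a (c 6 (a 2048<|a 1<|a 4096<|a 2<|a 8192<|a 4<|a 16384<|a 8<|a 32768<|a 16<|a 65536<|a 32<|a 131072<|a 64<|a 262144<|a 128<|a 524288<|a 256<|a 1048576<|a 512<|a 2097152<|a 1024<|b) (a 2<|a 8<|a 32<|a 128<|a 512<|a 2048<|a 8192<|a 32768<|a 131072<|a 524288<|a 2097152<|a 1<|a 4<|a 16<|a 64<|a 256<|a 1024<|a 4096<|a 16384<|a 65536<|a 262144<|a 1048576<|b) (a 0<|a 0<|a 0<|a 0<|a 0<|a 0<|a 0<|a 0<|a 0<|a 0<|a 0<|a 0<|a 0<|a 0<|a 0<|a 0<|a 0<|a 0<|a 0<|a 0<|a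 0<|a 0<|b) 11 1 1 2 23)<|b)
 (a 5096599165352049413236459738236<|a 5096599174797935581955602158716<|a 5096599174797935582505156646140<|a 5096599184241515345264595080444<|a 5096599184239208939305495074044<|a 5096599174795629176546056639740<|a 5096599184243821751223292433660<|a 5096599174800241988464659305724<|a 87811110334145611545052218300668<|a 87811110362476350833331338909948<|a 170525621484042788525862224566524<|a 108172748128646898406791542118652<|a 128534385894812833168332337355004<|b)))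

theorem ok18 : ClsOK (wd C3.w18) T18 := clsB_spec (c := c18) (by decide +kernel)

/-- the class 19 -/
def c19 : Cs := (beta% delta% lq2665b73bd8 fun a b c d _ _ _ _ _ _ _ _ _ _ _ _ _ _ _ t _ =>
 (d t 6 0 88 (a 91904<|a 289284<|a 176996<|a 574408<|a 1110920<|a 2226620<|b) (a 0<|a 0<|a 0<|a 0<|a 0<|a 0<|a 0<|a 0<|a 0<|a 0<|a 0<|a 0<|a 0<|a 0<|a 0<|a 0<|a 1<|a 4<|a 2<|a 8<|a 16<|a 33<|b) (a 0<|a 0<|a 0<|a 0<|a 0<|a 13090<|a 26678<|a 0<|a 3363<|a 36023<|a 33913<|a 41002<|a 62873<|a 36407<|a 56314<|a 57015<|a 63434<|a 20325<|a 40411<|a 47370<|a 52717<|a 33229<|b)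
 (a (c 1 (a 91904<|a 289284<|a 176996<|a 574408<|a 1110920<|a 2226620<|b) (a 0<|a 0<|a 0<|a 0<|a 0<|a 0<|a 0<|a 0<|a 0<|a 0<|a 0<|a 0<|a 0<|a 0<|a 0<|a 0<|a 1<|a 4<|a 2<|a 8<|a 16<|a 33<|b) (a 0<|a 0<|a 0<|a 0<|a 0<|a 13090<|a 26678<|a 0<|a 3363<|a 36023<|a 33913<|a 41002<|a 62873<|a 36407<|a 56314<|a 57015<|a 63434<|a 20325<|a 40411<|a 47370<|a 52717<|a 33229<|b) 1 0 0 0 3)<|
 a (c 2 (a 614<|a 21989<|a 12540<|a 49962<|a 107562<|a 185981<|a 371025<|a 664905<|a 1163629<|a 2499269<|b) (a 0<|a 0<|a 0<|a 0<|a 0<|a 0<|a 0<|a 0<|a 0<|a 1<|a 0<|a 0<|a 0<|a 4<|a 2<|a 11<|a 31<|a 40<|a 80<|a 172<|a 278<|a 637<|b) (a 0<|a 0<|a 0<|a 0<|a 0<|a 0<|a 1519<|a 0<|a 0<|a 0<|a 474<|a 6251<|a 0<|a 3350<|a 2388<|a 6225<|a 7611<|a 1153<|a 5411<|a 7467<|a 3338<|a 7569<|b) 5 1 0 2 5)<|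
 a (c 3 (a 33<|a 2142<|a 216<|a 16497<|a 402<|a 4129<|a 880<|a 53661<|a 1056<|a 121065<|a 10001<|a 169077<|a 282624<|a 574408<|a 1103001<|a 2219693<|b) (a 0<|a 0<|a 0<|a 0<|a 0<|a 1<|a 0<|a 4<|a 20<|a 85<|a 257<|a 2<|a 33<|a 1344<|a 9<|a 184<|a 663<|a 2457<|a 4136<|a 8436<|a 16789<|a 33620<|b) (a 0<|a 0<|a 0<|a 0<|a 0<|a 0<|a 0<|a 0<|a 0<|a 0<|a 0<|a 0<|a 0<|a 10<|a 0<|a 0<|a 0<|a 78<|a 80<|a 7<|a 18<|a 88<|b) 5 2 1 3 (-9))<|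
 a (c 4 (a 614<|a 21989<|a 12540<|a 49962<|a 107562<|a 185981<|a 371025<|a 664905<|a 1163629<|a 2499269<|b) (a 0<|a 0<|a 0<|a 0<|a 0<|a 0<|a 0<|a 0<|a 0<|a 1<|a 0<|a 0<|a 0<|a 4<|a 2<|a 11<|a 31<|a 40<|a 80<|a 172<|a 278<|a 637<|b) (a 0<|a 0<|a 0<|a 0<|a 0<|a 0<|a 1457<|a 0<|a 0<|a 0<|a 1371<|a 4172<|a 0<|a 3303<|a 7267<|a 3237<|a 3488<|a 474<|a 6468<|a 7519<|a 7181<|a 5476<|b) 5 1 1 2 5)<|
 a (c 6 (a 2048<|a 1<|a 4096<|a 2<|a 8192<|a 4<|a 16384<|a 8<|a 32768<|a 16<|a 65536<|a 32<|a 131072<|a 64<|a 262144<|a 128<|a 524288<|a 256<|a 1048576<|a 512<|a 2097152<|a 1024<|b) (a 2<|a 8<|a 32<|a 128<|a 512<|a 2048<|a 8192<|a 32768<|a 131072<|a 524288<|a 2097152<|a 1<|a 4<|a 16<|a 64<|a 256<|a 1024<|a 4096<|a 16384<|a 65536<|a 262144<|a 1048576<|b) (a 0<|a 0<|a 0<|a 0<|a 0<|a 0<|a 0<|a 0<|a 0<|a 0<|a 0<|a 0<|a 0<|a 0<|a 0<|a 0<|a 0<|a 0<|a 0<|a 0<|a 0<|a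 0<|b) 11 1 1 2 23)<|b)
 (a 5096599174799089066961059091708<|a 5096599174802548112949118145788<|a 5096599174801395472920561751292<|a 5096599174800241706990420792572<|a 170525621512376987704556347627772<|a 87811110362476350551857100396796<|a 87811110362486729941626057300220<|a 108251976291168081680785731655932<|a 128455157732305487767139438991612<|b)))

theorem ok19 : ClsOK (wd C3.w19) T19 := clsB_spec (c := c19) (by decide +kernel)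

/-- the class 20 -/
def c20 : Cs := (beta% delta% lq2665b73bd8 fun a b c d _ _ _ _ _ _ _ _ _ _ _ _ _ _ _ _ u =>
 (d u 6 0 88 (a 105112<|a 927786<|a 1635086<|a 2854338<|b) (a 0<|a 0<|a 0<|a 0<|a 0<|a 0<|a 0<|a 0<|a 0<|a 0<|a 0<|a 0<|a 0<|a 0<|a 0<|a 0<|a 1<|a 0<|a 0<|a 2<|a 6<|a 11<|b) (a 0<|a 0<|a 0<|a 0<|a 435347<|a 33042<|a 436277<|a 403768<|a 145456<|a 94<|a 436585<|a 439430<|a 322609<|a 325991<|a 268630<|a 17943<|a 6467<|a 413009<|a 263475<|a 9497<|a 62257<|a 137162<|b)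
 (a (c 1 (a 105112<|a 927786<|a 1635086<|a 2854338<|b) (a 0<|a 0<|a 0<|a 0<|a 0<|a 0<|a 0<|a 0<|a 0<|a 0<|a 0<|a 0<|a 0<|a 0<|a 0<|a 0<|a 1<|a 0<|a 0<|a 2<|a 6<|a 11<|b) (a 0<|a 0<|a 0<|a 0<|a 435347<|a 33042<|a 436277<|a 403768<|a 145456<|a 94<|a 436585<|a 439430<|a 322609<|a 325991<|a 268630<|a 17943<|a 6467<|a 413009<|a 263475<|a 9497<|a 62257<|a 137162<|b) 2 0 0 0 4)<|
 a (c 2 (a 105112<|a 927786<|a 1635086<|a 2854338<|b) (a 0<|a 0<|a 0<|a 0<|a 0<|a 0<|a 0<|a 0<|a 0<|a 0<|a 0<|a 0<|a 0<|a 0<|a 0<|a 0<|a 1<|a 0<|a 0<|a 2<|a 6<|a 11<|b) (a 0<|a 0<|a 0<|a 0<|a 21005<|a 29998<|a 452552<|a 38909<|a 182034<|a 3238<|a 23697<|a 45292<|a 178990<|a 191157<|a 321743<|a 442033<|a 19638<|a 284696<|a 37991<|a 445613<|a 414241<|a 405687<|b) 2 1 0 2 (-4))<|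
 a (c 3 (a 18<|a 4428<|a 208<|a 37209<|a 868<|a 8222<|a 1216<|a 2608<|a 16710<|a 74047<|a 402004<|a 533300<|a 1057631<|a 2274253<|b) (a 0<|a 0<|a 0<|a 0<|a 1<|a 0<|a 0<|a 5<|a 0<|a 16<|a 69<|a 145<|a 2<|a 33<|a 256<|a 11<|a 544<|a 0<|a 1072<|a 2096<|a 4144<|a 8253<|b) (a 0<|a 0<|a 0<|a 0<|a 0<|a 0<|a 0<|a 0<|a 0<|a 0<|a 66<|a 302<|a 0<|a 0<|a 295<|a 0<|a 102<|a 0<|a 131137<|a 324<|a 363<|a 32<|b) 3 2 1 3 7)<|
 a (c 4 (a 105112<|a 927786<|a 1635086<|a 2854338<|b) (a 0<|a 0<|a 0<|a 0<|a 0<|a 0<|a 0<|a 0<|a 0<|a 0<|a 0<|a 0<|a 0<|a 0<|a 0<|a 0<|a 1<|a 0<|a 0<|a 2<|a 6<|a 11<|b) (a 0<|a 0<|a 0<|a 0<|a 21016<|a 29955<|a 452483<|a 38769<|a 181777<|a 3758<|a 22678<|a 47340<|a 174893<|a 182973<|a 305345<|a 409275<|a 54818<|a 415775<|a 300138<|a 58504<|a 35079<|a 135104<|b) 2 1 1 2 (-4))<|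
 a (c 6 (a 2048<|a 1<|a 4096<|a 2<|a 8192<|a 4<|a 16384<|a 8<|a 32768<|a 16<|a 65536<|a 32<|a 131072<|a 64<|a 262144<|a 128<|a 524288<|a 256<|a 1048576<|a 512<|a 2097152<|a 1024<|b) (a 2<|a 8<|a 32<|a 128<|a 512<|a 2048<|a 8192<|a 32768<|a 131072<|a 524288<|a 2097152<|a 1<|a 4<|a 16<|a 64<|a 256<|a 1024<|a 4096<|a 16384<|a 65536<|a 262144<|a 1048576<|b) (a 0<|a 0<|a 0<|a 0<|a 0<|a 0<|a 0<|a 0<|a 0<|a 0<|a 0<|a 0<|a 0<|a 0<|a 0<|a 0<|a 0<|a 0<|a 0<|a 0<|a 0<|a 0<|b) 11 1 1 2 23)<|b)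
 (a 93223693628408663900699353962748<|a 175303760508174389896583263049980<|a 195744626436859201807637010209020<|a 215947807877996607893990717544700<|b)))

theorem ok20 : ClsOK (wd C3.w20) T20 := clsB_spec (c := c20) (by decide +kernel)

end Cfsg.Agent.TAB.B.C2
end
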