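import Cfsg.Agent.TAB.B.C2.R1_m3
import Cfsg.Agent.Lib.ListFast
import Cfsg.Agent.TAB.B.C2.Tab_m3
import Cfsg.Agent.TAB.B.C2.Q
import Cfsg.Agent.TAB.B.D.WD_m3
import Cfsg.Agent.TAB.B.C2.R4_m3
import Cfsg.Agent.TAB.B.Fin.Cols_m3
import Cfsg.Agent.TAB.B.Ch_m3
import Cfsg.Agent.H633.Ore.Co2Fix_m3
import Cfsg.Agent.TAB.Use.Defs_m3
import Cfsg.Agent.Prune
set_option linter.all false

-- part: TAB/B/D/WA
section
set_option linter.all false

/-!
# Words for the section of the class 5A (helper14, TAB)
-/

set_option autoImplicit false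
set_option maxRecDepth 100000
set_option Elab.async false

namespace Cfsg.Agent.TAB.B.D

open Cfsg.Agent.BabyM.Conc Cfsg.Agent.H819.U33 Cfsg.Agent.BMx.Fast Cfsg.Agent.TAB.B.Tr

/-- word -/
def w2A : List Ltr :=
  [.z, .Z9, .Z6, .Z2, .Z0, .y10, .y9, .y8, .y6, .y5, .y4, .y2, .y1]

theorem o2A : ordF w2A 2 = true := by decide +kernel

/-- word -/
def ws2A : List Ltr :=
  [.z, .Z9, .Z6, .Z2, .Z0, .y10, .y9, .y8, .y6, .y5, .y4, .y2, .y1]

/-- plane -/
def ps2A_0 : ℕ := 0xffffffffffffffffffffffffffffffffffffffffffffffffffffffffffffffffffffffffffffffffffffffffffffffffffffffffffffffffffffffffffffffff0000000000000000000000000000000000000000000000000000000000000000000000000000000000000000000000000000000000000000000000000000000000000000000000000000000000000000000000000000000000000000000000000000000000000000000000000000000000000000000000000000000000000000000000000000000000000000000000000000000000000000000000000000000000000000000000000000000000000000000000000000000000000000000000000000000000000000000000000000000000000000000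000000000000000000000000000000000000000000000000000000000000000000000000000000000000000000000000000000000000000000000000000000000000000000000000000000000000000000000000000000000000000000000000000000000000000000000ffffffffffffffffffffffffffffffffffffffffffffffffffffffffffffffffffffffffffffffffffffffffffffffffffffffffffffffffffffffffffffffff000000000000000000000000000000000000000000000000000000000000000000000000000000000000000000000000000000000000000000000000000000000000000000000000000000000000000000000000000000000000000000000000000000000000000000000000000000000000000000000000000000000000000000000000000000000000000000000000000000000000000000777d96000000000000000000000000ff000000aaaaff00ff00ccccaaaa0000ff00ff00ff000000ff00ff0000000000aaaaff00ccccff00ff000000ff00aaaaff00f0f0ff00aaaacccc0000ff0000000000aaaaccccff00ff00ff00ff0000000000ff00ff00ccccccccff000000ff00f0f0f0f0f0f0f0f0f0f0f0f0ff000000f0f0ccccff00ff00cccccccc0000ff00aaaa0000ff00ff00ff00ff000000f0f0f0f0aaaaccccff00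

theorem cs2A_0 : trF ws2A 1 [ps2A_0] U (-493) = true := by decide +kernel

theorem ch_s2A : chB (g ws2A) = ((-493 : ℤ) : ℚ) := chB_of (dg_of_trF cs2A_0) (by decide) (by decide)

/-- word -/
def c2A : List Ltr :=
  []

theorem k2A : eqF (cj c2A w2A) ws2A = true := by decide +kernel

theorem tr2A : tr (g w2A) = ((-493 : ℤ) : ℚ) := chB_of_cj k2A ch_s2A

theorem pw2A : Pw (g w2A) [] :=
  trivial

theorem ty2A : TyB 1 (g w2A) := ty_mk (orderOf_of_ordF o2A) tr2A pw2A (by decide +kernel)

/-- word -/
def w2C : List Ltr :=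
  [.z, .Z9, .Z6, .Z4, .Z2, .Z1, .X9, .X8, .X6, .X3, .X2, .X1, .y10, .y9, .y8, .y6, .y5, .y4, .y2, .X0, .y1]

theorem o2C : ordF w2C 2 = true := by decide +kernel

/-- word -/
def ws2C : List Ltr :=
  [.z, .Z9, .Z6, .Z4, .Z2, .Z1, .X9, .X8, .X6, .X3, .X2, .X1, .y10, .y9, .y8, .y6, .y5, .y4, .y2, .X0, .y1]

/-- plane -/
def ps2C_0 : ℕ := 0xffffffffffffffffffffffffffffffff00000000000000000000000000000000ffffffffffffffffffffffffffffffff00000000000000000000000000000000ffffffffffffffffffffffffffffffff00000000000000000000000000000000ffffffffffffffffffffffffffffffff00000000000000000000000000000000ffffffffffffffffffffffffffffffffffffffffffffffffffffffffffffffffffffffffffffffffffffffffffffffffffffffffffffffffffffffffffffffff00000000000000000000000000000000000000000000000000000000000000000000000000000000000000000000000000000000000000000000000000000000000000000000000000000000000000000000000000000000000000000000000000000000000000000000000000000000000000000000000000000000000000000000000000000000000000000000000000000000000000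0000000000000000000000000000000000000000000000000000000000000000000000000000000000ffffffffffffffffffffffffffffffffffffffffffffffffffffffffffffffffffffffffffffffffffffffffffffffffffffffffffffffffffffffffffffffff000000000000000000000000000000000000000000000000000000000000000000000000000000000000000000000000000000000000000000000000000000000000000000000000000000000000000000000000000000000000000000000000000000000000000000000000000000000000000000000000000000000000000000000000000000000000000000000000000000000000000000777d96000000000000000000000000ff000000aaaaff00ff00ccccaaaa0000ff00ff00ff000000ff00ff0000000000aaaaff00ccccff00ff000000ff00aaaaff00f0f0ff00aaaacccc0000ff0000000000aaaaccccff00ff00ff00ff0000000000ff00ff00ccccccccff000000ff00f0f0f0f0f0f0f0f0f0f0f0f0ff000000f0f0ccccff00ff00cccccccc0000ff00aaaa0000ff00ff00ff00ff000000f0f0f0f0aaaaccccff00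

theorem cs2C_0 : trF ws2C 1 [ps2C_0] U (-53) = true := by decide +kernel

theorem ch_s2C : chB (g ws2C) = ((-53 : ℤ) : ℚ) := chB_of (dg_of_trF cs2C_0) (by decide) (by decide)

/-- word -/
def c2C : List Ltr :=
  []

theorem k2C : eqF (cj c2C w2C) ws2C = true := by decide +kernel

theorem tr2C : tr (g w2C) = ((-53 : ℤ) : ℚ) := chB_of_cj k2C ch_s2C

theorem pw2C : Pw (g w2C) [] :=
  trivial

theorem ty2C : TyB 3 (g w2C) := ty_mk (orderOf_of_ordF o2C) tr2C pw2C (by decide +kernel)

/-- word -/
def w4I : List Ltr :=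
  [.Z8, .Z5, .Z4, .Z3, .Z2, .Z0, .X10, .X9, .X5, .X3, .X2, .X1, .y10, .y6, .y2, .y1, .p9, .hi, .p4, .hi, .p4, .hi,
  .p4, .hi, .p4, .hi, .p7, .tau, .p10]

theorem o4I : ordF w4I 4 = true := by decide +kernel

theorem p4I_2 : eqF (cj [] (pw w4I 2)) (pw w2C 1) = true := by decide +kernel

/-- word -/
def ws4I : List Ltr :=
  [.z, .Z9, .Z8, .Z6, .Z5, .Z4, .Z3, .Z0, .X10, .X3, .X2, .X0, .y10, .y6, .y4, .y3, .y2, .p9, .hi, .p4, .hi, .p4,
  .hi, .p4, .hi, .p4, .hi, .p6]

/-- plane -/
def ps4I_0 : ℕ := 0xffffffffffffffffffffffffffffffffffffffffffffffffffffffffffffffffffffffffffffffffffffffffffffffffffffffffffffffffffffffffffffffffffffffffffffffffffffffffffffffffffffffffffffffffffffffffffffffffffffffffffffffffffffffffffffffffffffffffffffffffffffffffffffffff000000000000000000000000000000000000000000000000000000000000000000000000000000000000000000000000000000000000000000000000000000000000000000000000000000000000000000000000000000000000000000000000000000000000000000000000000000000000000000000000000000000000000000000000000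00000000000000000000000000000000000000000000000000000000000000000000000000000000000000000000000000000000000000000000000000000000000000000000000000000000000000000000000000000000000000000000000000000000000000000000000000000000000000000000000000000dddddddddfdfdfdffdfdfdfdffffffffffffffffdfdfdfdffdfdfdfdddddddddcccccccccdcdcdcddcdcdcdcddddddddddddddddcdcdcdcddcdcdcdccccccccc444444444c4c4c4cc4c4c4c4cccccccccccccccc4c4c4c4cc4c4c4c4444444440000000004040404404040404444444444444444040404044040404000000000000000000000000000000000000000000000000000000000000000000000000000000000000000000000000000000000000000000000000000000000000000000000000000000000000000000000000000000000007b18e0007b5de0003a10e0000000000000ffffffffffffffffffffffffffffffffffffffffffffffff0000ffffffffffffffffffff0000cacaffffffffffffff00ffff0000ffffffffffffffff00000000ffffffff00000000ffff00000000ffffffff00000000ffff0000ffff00000000ffff0000f0f00000ffffffffffff00000000000000000000000000000000000000000000000000000ff00000000000000000000000000000acac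

theorem cs4I_0 : trF ws4I 1 [ps4I_0] U (-1) = true := by decide +kernel

theorem ch_s4I : chB (g ws4I) = ((-1 : ℤ) : ℚ) := chB_of (dg_of_trF cs4I_0) (by decide) (by decide)

/-- word -/
def c4I : List Ltr :=
  [.tau]

theorem k4I : eqF (cj c4I w4I) ws4I = true := by decide +kernel

theorem tr4I : tr (g w4I) = ((-1 : ℤ) : ℚ) := chB_of_cj k4I ch_s4I

theorem pw4I : Pw (g w4I) [(2, 3)] :=
  ty_cj ty2C [] 1 p4I_2 (by decide +kernel)

theorem ty4I : TyB 15 (g w4I) := ty_mk (orderOf_of_ordF o4I) tr4I pw4I (by decide +kernel)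

/-- word -/
def w3A : List Ltr :=
  [.Z10, .Z9, .Z7, .Z6, .Z4, .Z3, .Z2, .Z0, .X5, .X4, .X3, .y9, .y8, .y7, .y6, .y4, .y3, .y2, .y1, .p8, .hi, .p4,
  .hi, .p6, .hi, .p3, .hi, .p7, .hi, .p6, .xii, .p8, .xii, .p3, .xii]

theorem o3A : ordF w3A 3 = true := by decide +kernel

/-- word -/
def ws3A : List Ltr :=
  [.Z7, .Z6, .Z4, .X7, .X6, .X2, .X1, .y8, .y4, .y3, .y1, .p, .hi, .p5, .hi, .p8, .hi, .p9, .hi, .p5, .hi, .p5, .hi]

/-- plane -/
def ps3A_0 : ℕ := 0xc000c0003000300a0005000a000500c900c600360039010a3205320ac105c605f90af905f60afacc05cc0a3305330af005f00af005f0080ff40ff40ff80ffff01ff02ff02ff0100f500fa00f500fa0335033a0cc50ccafa06f509fa09f506c508ca0435043a080930063006c009c005000a0005000a0030003000c000c000000000000000000002c001c001300230050a0a05050a0a05c509ca0635063a09ca06c5093a09350604f508fa08f504fa0ccf0ccf033f033fff00ff00ff00ff0000ff00ff00ff00fff330f330fcc0fcc0af205f10af105f20605390a3905c60ac90a3605360ac905c50a0a05050a0a050034003800c800c400000000000000000000000000000000000000000000000000000000000000000000000000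00000000000000000000000000000000000000000000000000000000000000000000000000000000000000000000000000000000000000000000000000000000000000000000000000000000000000000000000000000000000000000000000000000000000000000000000030a03050c0a0c05010a0205020a0105c509ca0635063a09ca06c5093a093506053f0a3f05cf0acf08cf04cf043f083fff00ff00ff00ff0000ff00ff00ff00fff310f320fc20fc10fca0fc50f3a0f350605390a3905c60ac90a3605360ac905c5080a0405040a08050c0a0c05030a030000000000000000000000000000000000000000000000000000000000000000000000000000000000000000000000000000000000000000000000000000000000000000000000000000000000000000000000000000000000000000000089a04000102d400682204000000000000000000000000000000001b020000000000000000000000000000ffff0000ffff000000000000ffffffff00000000ffffffff0000ffffffff1414ffff00000000000000000000ffff0000ffff0000ffffffffffffffffffffffff0000ffffffff00000000000000000000ffff000000000000ffff228800000000ffff00f0000000000000ffff4488000000000000000000000000ffff00000000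

/-- plane -/
def ps3A_1 : ℕ := 0xfff3fff3fffcfffcff5fffafff5fffaff34ff38ffc1ffc2faf5c5faccf53cfa31fa02f504fa08f50530fa30f5c0fac0f500fa00f500fa00f0f000f000f000f00000c000c0005000a0f000f000f000f000c000c000300030000010002000400080000000000000000040008000100020000000000000000000000000000000000fffffffffffffffffc3ffc3ffacff5cffaf5f5fafaf5f5fa3af435f8caf1c5f235f83af4c5f2caf1f00af005f00af005f030f030f0c0f0c000f000f000f000f0f000f000f000f00000c000c000300030005000a000c000c0800040002000100040008000100020000000000000000000000000000000000000000000000000000000000000000000000000000000000000000000000000000000000000000000000000000000000000000000000000000000000000000000000000000000000000000000000000000000000000000000000000000000000000000000000000000000000000000000000000000000000000000000000000000000000000000000fffffffffffffffffcf5fcfaf3f5f3fafaf5f5fafcf5fcfa3af435f8caf1c5f235f83af4c5f2caf1f0c0f0c0f030f030f030f030f0c0f0c000f000f000f000f0f000f000f000f00000c000c0005000a0005000a0005000a0800040002000100040008000100020000000000000000000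00000000000000000000000000000000000000000000000000000000000000000000000000000000000000000000000000000000000000000000000000000000000000000000000000000000000000000000000000000000000000000000000000000000007064000078fc0000004400000000000000ffffffffffffffffffffe480ffffffffffffffffffffffffffff0000ffff0000ffffffffffff00000000ffffffff00000000ffff00000000c0600000ffff0000ffff0000ffff0000ffff0000ffff00000000000000000000000000000000000000000000000000000000000000000000000000009c0000000000000096000000000000000000a900000000000000000000000000000000000000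

theorem cs3A_0 : trF ws3A 1 [ps3A_0, ps3A_1] U (78) = true := by decide +kernel

theorem ch_s3A : chB (g ws3A) = ((78 : ℤ) : ℚ) := chB_of (dg_of_trF cs3A_0) (by decide) (by decide)

/-- word -/
def c3A : List Ltr :=
  [.Z8, .Z7, .Z5, .Z4, .Z3, .Z2, .Z1, .y10, .y8, .y7, .y6, .y4, .y2, .hi, .p9, .hi, .p5, .hi, .p8, .hi, .p9, .hi,
  .p8, .hi, .p8, .hi, .p6, .xii, .y2]

theorem k3A : eqF (cj c3A w3A) ws3A = true := by decide +kernel

theorem tr3A : tr (g w3A) = ((78 : ℤ) : ℚ) := chB_of_cj k3A ch_s3A

theorem pw3A : Pw (g w3A) [] :=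
  trivial

theorem ty3A : TyB 5 (g w3A) := ty_mk (orderOf_of_ordF o3A) tr3A pw3A (by decide +kernel)

/-- word -/
def w5A : List Ltr :=
  [.z, .Z8, .Z7, .Z6, .Z3, .Z2, .X9, .X6, .X4, .X3, .X2, .X1, .X0, .y9, .y5, .y4, .y2, .y1, .p9, .hi, .p4, .hi, .p4,
  .hi, .p4, .hi, .p, .hi, .hi, .p5]

theorem o5A : ordF w5A 5 = true := by decide +kernel

/-- word -/
def ws5A : List Ltr :=
  [.z, .Z8, .Z7, .Z6, .Z3, .Z2, .X9, .X6, .X4, .X3, .X2, .X1, .X0, .y9, .y5, .y4, .y2, .y1, .p9, .hi, .p4, .hi, .p4,
  .hi, .p4, .hi, .p, .hi, .hi, .p5]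

/-- plane -/
def ps5A_0 : ℕ := 0x32a55a5aa577005aa5120000f7a55a5aa50080de00a55a8800a55a5aa500dcb75afa00a5ff5fada1fa7ab5fd5f5f85af5a5fa5e57b5af5a55a5aa5f55a7aa521ffa55a5abfffa57aa77ba1a5ffb75afaaf4aa5ed58e5dea54aa5fa5af55aa500000000000000000000000000000000000000000000000000000000000000005aa50080de00a55a8200a55a5aa500d60092a55a5aa5d7005aa5120000f7a55aff085aafa57f58f5ad5b48aff55a7bf5f55afaa5a55f5beda5fa5af5a55a5aa57ba54affff48a55eed4aad7afea558ffa15aaffa5bb77ba5faa55aa5a55ab55a0000000000000000000000000000000000000000000000000000000000000000000000000000000000000000000000000000000000000000000000000000000000000000000000000000000000000000000000000000000000000000000000000000000000000000000000000000000000000000000000000000000000000000000000000000000000000000000000000000000000000000000000000000000000050000005a2050004a040850255200a50000404a0100a5000000a5a5000010a5ff5a5aff5affa5db5affa5a5ff5afba5e75affff5aefa5ff5aa5a5a5ff5aff0aa5a55a5a21a5125a01a50a12a5a55a48a5845a5a04a54a5a84a5584aa5045ab5cc5a00a45aafbf801a6105faaf5a84a0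0a5001682b128501000a0005000a000000000000000000000000000000000000000000000000000000000000000000000000000000000000000000000000000000000000000000000000000000000000000000000000000000000000000000000000000002d9a0002395260004c8a0000000000000000000000000000000000000ffff000000000000ffff0000000000000000ffffffffffff000000000000ffffffffffffffffffff0000ffff0000ffffffff0000ffff0000ffff0000ffff0000ffffffff1ae000000000ffff0000ffffffffffff0000ffff0000000000000000ffffffff498c0000000000000000ffffffff0000000000000000ffffffffffff0000000000000000000000000000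

/-- plane -/
def ps5A_1 : ℕ := 0xffcd5aa5a55a88ffa55aedffff085aa5a55aff7f21ff5aa577ff5aa5a55aff2340a500a50000a0520400014002a000200000000008000000000000000000000084005aa0a54000008000000400004005000010000002100000100000000000000000000000000000000000000000000000000000000000000000000000000000a55aff7f21ff5aa57dff5aa5a55aff29ff6d5aa5a55a28ffa55aedffff085aa50052a5505a800200400012000000800a00000000000020000000000000000000805a1000001250a100100280015002000400000004000000000000000000000000000000000000000000000000000000000000000000000000000000000000000000000000000000000000000000000000000000000000000000000000000000000000000000000000000000000000000000000000000000000000000000000000000000000000000000000000000000000000000000000000000000000000000000000000000000000000000000000000000000000000000000000000000000ffdaffafff05dfaf8eb05be5afda0df50aa05aa5a57a5f00a55a000a00055aa55a00a50000a5005a00a5005a5a00a5005a00a50000a5005a00a5005a5a00a5000000000000000000000000000000000000000000000000000000000000000000000000a5010000000000000000000001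00000000000000000000000000000000000000000000000000000000000000000000000000000000000000000000000000000000000000000000000000000000000000000000000000000000000000000000000000000000000000000000000000000000005900000058608000480000000000000000ffffffff0000ffffffffffff0000ffffffffffff00000000ffff0000ffff000000000000ffffffffffff0000000000000000000000000000000000000000000000000000000000000000ffff00000000e000000000000000ffff00000000000000000000000000000000000000000000b00000000000000000000000000000000000000000000000000000000000000000000000000000000000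

theorem cs5A_0 : trF ws5A 1 [ps5A_0, ps5A_1] U (21) = true := by decide +kernel

theorem ch_s5A : chB (g ws5A) = ((21 : ℤ) : ℚ) := chB_of (dg_of_trF cs5A_0) (by decide) (by decide)

/-- word -/
def c5A : List Ltr :=
  []

theorem k5A : eqF (cj c5A w5A) ws5A = true := by decide +kernel

theorem tr5A : tr (g w5A) = ((21 : ℤ) : ℚ) := chB_of_cj k5A ch_s5A

theorem pw5A : Pw (g w5A) [] :=
  trivial

theorem ty5A : TyB 17 (g w5A) := ty_mk (orderOf_of_ordF o5A) tr5A pw5A (by decide +kernel)

/-- word -/
def wS : List Ltr :=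
  [.z, .Z10, .Z7, .Z6, .Z5, .Z3, .Z1, .Z0, .X9, .X8, .X6, .X3, .X2, .X1, .X0]

/-- word -/
def cS : List Ltr :=
  [.Z9, .Z8, .Z7, .Z3, .Z2, .Z0, .X8, .X6, .X4, .X3, .X1, .y10, .y9, .y8, .y7, .y5, .y2, .p7, .hi, .p3, .hi, .p7,
  .hi, .p7, .hi, .p10, .hi, .p9, .hi, .p3, .xii, .tau]

/-- word -/
def w6A : List Ltr :=
  [.z, .Z4, .Z3, .Z1, .X10, .X4, .X3, .X0, .y9, .y8, .y7, .y6, .y4, .y3, .y2, .y1, .p8, .hi, .p4, .hi, .p6, .hi, .p3,
  .hi, .p7, .hi, .p6, .xii, .p10, .X0, .p9, .xii, .p3, .xii]

private theorem all6A : eqF (cj [] (pw w6A 2)) (pw w3A 2) = true ∧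
    eqF (cj cS (pw w6A 3)) (pw w2A 1) = true := by
  decide +kernel

theorem p6A_2 : eqF (cj [] (pw w6A 2)) (pw w3A 2) = true := all6A.1

theorem p6A_3 : eqF (cj cS (pw w6A 3)) (pw w2A 1) = true := all6A.2

theorem ord6A : orderOf (g w6A) = 6 := ord_two p6A_2 (orderOf_of_ordF o3A) p6A_3 (orderOf_of_ordF o2A) (by decide +kernel)

/-- word -/
def ws6A : List Ltr :=
  [.Z10, .Z9, .Z8, .Z3, .Z2, .Z1, .X7, .X5, .X3, .X1, .X0, .y10, .y7, .y4, .y3, .p9, .hi, .p7, .hi, .p, .hi, .p7,
  .hi, .p8, .hi, .p5, .X0, .p5, .hi, .p4]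

/-- plane -/
def ps6A_0 : ℕ := 0xcc3333ccc821308812c4cc3020c0841012c4c83000c08410c02220480000000033cccc3333cccc33cc3333cccc3333cccc3333cccc3333cc33cccc3333cccc33cc3333cccc3333cc33cccc3333cccc3333cccc3333cccc33cc3333cccc3333cc33cccc3322c08432c033314840213080c032314840213000128088300000000033cccc3303444c21cc03128c8402010c4c03128c8402000c01480c1100000000cc3333cccc3333cc33cccc3333cccc3333cccc3333cccc33cc3333cccc3333cc33cccc3333cccc33cc3333cccc3333cccc3333cccc3333cc33cccc3333cccc33cc3333cc8413110c23480c330304082123480c13030008214403120400000000000000000000000000000000000000000000000000000000000000000000000000000000000000000000000000000000000000000000000000000000000000000000000000000000000000000000000000000000000000000000000000000000000000000000000000000000000000000000000000000000000000000000000000000c0100080021440311088401224444222180881022c00084001030800000cc3333cccc3333cc33cccc3333cccc3333cccc3333cccc33cc3333cccc3333cc33cccc3333cccc33cc3333cccc3333cccc3333cccc3333cc33cccc3333cccc33040012000000020c0248881103880422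2044c01111884012403000004800200000000000000000000000000000000000000000000000000000000000000000000000000000000000000000000000000000000000000000000000000000000000000000000000000000000000000000000000000000209c04002015840051180400000000000000000000000004e8000000000000ffff00000000ffff00000000ffff000000000000000000000000ffff0000ffffffffffffffffffffffffffffffffffff0000ffffffffffff00000000000000000000000000000690ffff00000000000000000000ffffffff28280000ffff0000ffff0000000000000000000000000f000000ffffffff000048480000ffff0000000000000000000000000000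

/-- plane -/
def ps6A_1 : ℕ := 0x33cccc3333cccc33cc3333cccc3333cccc3333cccc3333cc33cccc3333cccc33cc3333cccc3333cc33cccc3333cccc3333cccc3333cccc33cc3333cccc3333cc00000000000000000000000000000000000000000000000000000000000000000000000000000000000000000000000000000000000000000000000000000000cc3333cccc3333cc33cccc3333cccc3333cccc3333cccc33cc3333cccc3333cc33cccc3333cccc33cc3333cccc3333cccc3333cccc3333cc33cccc3333cccc33000000000000000000000000000000000000000000000000000000000000000000000000000000000000000000000000000000000000000000000000000000000000000000000000000000000000000000000000000000000000000000000000000000000000000000000000000000000000000000000000000000000000000000000000000000000000000000000000000000000000000000000000000000000000000000000000000000000000000000000000000000000000000000000000fefff3fefff7f7deb3fcecf37bfcdcb333dccc7373eccc33cc3333cccc3333cc33cccc3333cccc33cc3333cccc3333cccc3333cccc3333cc33cccc3333cccc330000000000000000000000000000000000000000000000000000000000000000c83321c8cc3131c0308440203040c010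10800000200080000000000000000000000000000000000000000000000000000000000000000000000000000000000000000000000000000000000000000000000000000000000000000000000000000000000000000000000000000000000000000000005b2000005baa4000022000000000000000ffffffffffffba00ffffffffffff0000ffffffff0000ffffffff0000ffffffffffffffffffffffff00000000000000000000000000000000000000000000000000000000000000000000fffffffffffffffffffff00000000000ffff0000ffff000000000000c09000000000ffff0000000000000000000000000000f000000000000000000090a0000000000000000000000000000000000000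

theorem cs6A_0 : trF ws6A 1 [ps6A_0, ps6A_1] U (-34) = true := by decide +kernel

theorem ch_s6A : chB (g ws6A) = ((-34 : ℤ) : ℚ) := chB_of (dg_of_trF cs6A_0) (by decide) (by decide)

/-- word -/
def c6A : List Ltr :=
  [.z, .Z3, .Z2, .Z1, .Z0, .X10, .X7, .X6, .X4, .X1, .y10, .y8, .y6, .y5, .y4, .y3, .y1, .p9, .hi, .p10, .hi, .p9,
  .hi, .p6, .hi, .p6, .hi, .p7, .hi, .X0, .p10, .xii, .y8]

theorem k6A : eqF (cj c6A w6A) ws6A = true := by decide +kernel

theorem tr6A : tr (g w6A) = ((-34 : ℤ) : ℚ) := chB_of_cj k6A ch_s6A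

theorem pw6A : Pw (g w6A) [(2, 5), (3, 1)] :=
  ⟨ty_cj ty3A [] 2 p6A_2 (by decide +kernel),
    ty_cj ty2A cS 1 p6A_3 (by decide +kernel)⟩

theorem ty6A : TyB 19 (g w6A) := ty_mk ord6A tr6A pw6A (by decide +kernel)

/-- word -/
def w6B : List Ltr :=
  [.z, .Z8, .Z6, .Z5, .Z4, .Z1, .Z0, .X9, .X8, .X7, .X6, .X4, .X2, .X0, .y9, .y8, .y6, .y5, .y4, .p4, .hi, .p6, .hi,
  .p4, .hi, .p6, .hi, .p9, .hi, .p6, .hi, .xii, .y1, .p8, .xii, .p3, .xii]

private theorem all6B : eqF (cj [] (pw w6B 2)) (pw w3A 2) = true ∧
    eqF (cj [] (pw w6B 3)) (pw w2A 1) = true := by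
  decide +kernel

theorem p6B_2 : eqF (cj [] (pw w6B 2)) (pw w3A 2) = true := all6B.1

theorem p6B_3 : eqF (cj [] (pw w6B 3)) (pw w2A 1) = true := all6B.2

theorem ord6B : orderOf (g w6B) = 6 := ord_two p6B_2 (orderOf_of_ordF o3A) p6B_3 (orderOf_of_ordF o2A) (by decide +kernel)

/-- word -/
def ws6B : List Ltr :=
  [.Z10, .Z9, .Z8, .Z5, .Z2, .Z1, .X9, .X7, .X6, .X2, .y10, .y6, .y1, .hi, .p5, .hi, .p9, .hi, .p7, .hi, .p10, .hi,
  .p4, .hi, .p2, .X0, .y1, .p]

/-- plane -/
def ps6B_0 : ℕ := 0xfffffffff7bffefdfdfdfbbfe5fbf2dff1ffdaf7e47f3afe35fedc7fc5f352ef3afda47fc8f3a1df13cfc4fb58b730fc30fca47b40f701ce52edc0f3083731dc4cbf31dc12e5c0f340f723df30fc847a48b530fc03cd8073c0b301da10ac047ac05302e5205c0431047220ac00d040a1805201e010100880084010200000000000040000000400021001080a0007004a02a5404b0415200620a9046ac086039a30570c9dc05803650397c0bc4c6e32a331138c9cc8fc137b33b3cccc8ccc3133ccc433233733cccccf4c7b323223c6c4d9c83513b630c70c4a0ca930ba03e6c0940c563065015980a2809001a5107808b0005800200250408000100080000000000000000000000000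0000000000000000000000000000000000000000000000000000000000000000000000000000000000000000000000000000000000000000000000000000000000000000000000000000000000000000000000000000000000000000000000000000000000000000000000000000000000000000000000fffffffffb7fdfefdfdffbbfbf5efd2fff1f7fadf74eefa3ef53f7cd3f5cfe25dfa3f74a3f8cfd1afc31bf4c7b85cf03cf03b74a7f04ec10de253f0c7380cd13fbc4cd135e213f0c7f04fd32cf03a7485b84cf03dc3037083b0cad10ca01a740350c5e20c50213402740ca020d001a0425080e1001010880048002010000000000000000000000000000000000000000000000000000000000000000000000000000000000000000000000000000000000000000000000000000000000000000000000000000000000000000000000000000000000018e04007d33d200008c2000000000000000000000000000000000000000000000ffff00000000ffffff000000000000000000ffff00000000ffffffffffff00000000ffffffff0000ff00ffff00000000ffff0000ffffffff0000ffff0000ffff0000ffff0ed00000ffff0000ffffffff0000ffff0000ffffffffffff00000000000004e40000ffff000000000000000000000000000011220000000000000000ffff0000000000000000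

/-- plane -/
def ps6B_1 : ℕ := 0xfffbfffdfffbfffdeffaf7f5fff8ffb5fd5abfb4fbcadff1df52fb853f78fc25cfa0f3423fa4fc12fc203f40b380cd50ce2073403700ec00cc0033007300ce003300cc00c800310030008400c80031000200c000480030003000040040000100200000008000020000004000000000000000000000000000000000000000000000000000000000000000000000000000000000000000000000000000000000000000000000000000000000000000000000000000000000000000000000000000000000000000000000000000000000000000000000000000000000000000000000000000000000000000000000000000000000000000000000000000000000000000000000000000000000000000000000000000000000000000000000000000000000000000000000000000000000000000000000000000000000000000000000000000000000000000000000000000000000000000000000000000000000000000000000000000000000000000000000000000000000000000000000000000000000000000000000000000000000000000000000000000000000000000000000000000000000000000000000000000000000000000000000000000000000000000000000000000000000000000000000000000007820200000002400000000000000000000ffffffffffffffffffffffffffffffff0000ffffffff00000000ffffffffffffffff0000ffffffff000000000000ffffffff00000000ffff00000000ffffffff0000000000000000ffff0000ffff0000ffff0000f00000000000000000000000000000000000000000000000000000000000e900000000000000000000000000000000000000a600000000000000000000000000000000000000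

theorem cs6B_0 : trF ws6B 1 [ps6B_0, ps6B_1] U (20) = true := by decide +kernel

theorem ch_s6B : chB (g ws6B) = ((20 : ℤ) : ℚ) := chB_of (dg_of_trF cs6B_0) (by decide) (by decide)

/-- word -/
def c6B : List Ltr :=
  [.Z7, .Z2, .Z0, .X9, .X7, .X6, .X4, .X3, .X2, .X0, .y7, .y6, .y5, .y4, .y1, .p3, .xii]

theorem k6B : eqF (cj c6B w6B) ws6B = true := by decide +kernel

theorem tr6B : tr (g w6B) = ((20 : ℤ) : ℚ) := chB_of_cj k6B ch_s6B

theorem pw6B : Pw (g w6B) [(2, 5), (3, 1)] :=
  ⟨ty_cj ty3A [] 2 p6B_2 (by decide +kernel),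
    ty_cj ty2A [] 1 p6B_3 (by decide +kernel)⟩

theorem ty6B : TyB 20 (g w6B) := ty_mk ord6B tr6B pw6B (by decide +kernel)

/-- word -/
def w6F : List Ltr :=
  [.z, .Z9, .Z8, .Z7, .Z5, .Z3, .Z0, .X9, .X8, .X6, .X5, .X4, .X2, .X1, .y9, .y8, .y6, .y5, .y4, .p4, .hi, .p6, .hi,
  .p4, .hi, .p6, .hi, .p9, .hi, .p6, .hi, .xii, .X0, .y1, .p8, .xii, .p3, .xii]

private theorem all6F : eqF (cj [] (pw w6F 2)) (pw w3A 2) = true ∧
    eqF (cj [] (pw w6F 3)) (pw w2C 1) = true := by
  decide +kernel

theorem p6F_2 : eqF (cj [] (pw w6F 2)) (pw w3A 2) = true := all6F.1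

theorem p6F_3 : eqF (cj [] (pw w6F 3)) (pw w2C 1) = true := all6F.2

theorem ord6F : orderOf (g w6F) = 6 := ord_two p6F_2 (orderOf_of_ordF o3A) p6F_3 (orderOf_of_ordF o2C) (by decide +kernel)

/-- word -/
def ws6F : List Ltr :=
  [.Z9, .Z8, .Z6, .X8, .X7, .X2, .X0, .y7, .y5, .y4, .y3, .y1, .p10, .hi, .p8, .hi, .p9, .hi, .p8, .hi, .p5, .hi,
  .p5, .hi, .p4, .hi, .X0, .y1, .p5, .hi, .p9]

/-- plane -/
def ps6F_0 : ℕ := 0xf03ff30ff30ff03f33ffff33ff3333ff03f00f300f3003f03033330333033033fffffffffffffffffff33fff3ffffff303f00f300f3003f0333ff333f333333f3ff00ff30ff33ff0f333333f333ff333f003300f300ff00333000033003333003ff00ff30ff33ff03300003300333300000000000000000000000000000000003cc33cc33cc33cc3c30cc03cc03cc30c0f0cc0f0c0f00f0cc330033c033cc330fcc33ccf3ccffcc33f0ff0f3f0f33f0f3fc33cf33cf33fc3c33cc33cc33cc33c3ff33ff33ff33ff3f33ff33ff33ff33fc03ff30cf30cc03f00033000300000030ff33ff03ff00ff3003333003300003300000000000000000000000000000000000000000000000000000000000000000000000000000000000000000000000000000000000000000000000000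0000000000000000000000000000000000000000000000000000000000000000000000000000000000000000000000000000000000000000000000000000000000000000000000000000000000000000000000ffffffff03f33f30ff3ff3ff33ffff33ffffffff303ff303fff33fff33ffff330f3333f003f00f30f33ff33ff33ff33ff033330f300ff0033ff33ff33ff33ff330033003300330033ff00ff30f3333f00330033003300330f30ff03ff033330f33000033000330003f3003f3000000003300003300300300f303303f0000000000000000000000000000000000000000000000000000000000000000000000000000000000000000000000000000000000000000000000000000000000000000000000000000000000000000000000000000000000086114002758ba0048214400000000000000000000000000000000ffff000000000000000000000000ffff00000000000000000000ffff0f40fffff66000000000ffffffff0000ffff00000000ffff0000ffff0000ffff000000000000ffffffffffffa57000000000ffff0000448800000000ffffffff0000ffff000000000000ffffffff4b70ffff00000000000000000000ffff0000ffff0000ffff00000000000000000000ffff0000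

/-- plane -/
def ps6F_1 : ℕ := 0x3000030003003000c0000c000c00c003000000300033000c000000c000cc000000000000000000000000000000000000000000000000000000000000000000000000000000000000000000000000000000000000000000000000000000000000000000000000000000000000000000000000000000000000000000000000000c33cc33cc33cc33c3cc33cc33cc33cc330c33c033c0330c3000cc000c000000c033cc330c330033c00c00c000c0000c000000000000000000000000000000000000000000000000000000000000000000000000000000000000000000000000000000000000000000000000000000000000000000000000000000000000000000000000000000000000000000000000000000000000000000000000000000000000000000000000000000000000000000000000000000000000000000000000000000000000000000000000000000000000000000000000000000000000000000000000000000000000000000000000000000000000000000000000000000000000000000000000000000000000000000000000000000000000000000000000000000000000000000000000000000000000000000000000000000000000000000000000000000000000000000000000000000000000000000000000000000000000000000000000000000000000000000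0000000000000000000000000000000000000000000000000000000000000000000000000000000000000000000000000000000000000000000000000000000000000000000000000000000000000000000000000000000000000000000000000000000006380400000800400000000000000000000ffffffffffffffffffff0000ffffffffffffffffffffffff0000ffffffffffffffffffff0000f08000000000ffffffff00000000ffff0000ffffffff00000000000000000000ffffffff000000000000000050000000000000000000a90000000000000000000000000000000000000000000000300000000000000000000000ffff000000000000000000000000000000000000000000000000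

theorem cs6F_0 : trF ws6F 1 [ps6F_0, ps6F_1] U (-8) = true := by decide +kernel

theorem ch_s6F : chB (g ws6F) = ((-8 : ℤ) : ℚ) := chB_of (dg_of_trF cs6F_0) (by decide) (by decide)

/-- word -/
def c6F : List Ltr :=
  [.z, .Z10, .Z7, .Z6, .Z4, .Z3, .Z2, .Z0, .X10, .X6, .X3, .X1, .X0, .y9, .y8, .y7, .y5, .y4, .p10, .hi, .p8, .hi,
  .p10, .hi, .p4, .hi, .p7, .hi, .p4, .hi, .p, .X0, .p6, .xii, .y2]

theorem k6F : eqF (cj c6F w6F) ws6F = true := by decide +kernel

theorem tr6F : tr (g w6F) = ((-8 : ℤ) : ℚ) := chB_of_cj k6F ch_s6F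

theorem pw6F : Pw (g w6F) [(2, 5), (3, 3)] :=
  ⟨ty_cj ty3A [] 2 p6F_2 (by decide +kernel),
    ty_cj ty2C [] 1 p6F_3 (by decide +kernel)⟩

theorem ty6F : TyB 24 (g w6F) := ty_mk ord6F tr6F pw6F (by decide +kernel)

/-- word -/
def w10A : List Ltr :=
  [.Z10, .Z7, .Z6, .Z5, .Z2, .Z1, .X9, .X6, .X4, .X3, .X2, .X1, .X0, .y10, .y6, .y5, .p9, .hi, .p4, .hi, .p4, .hi,
  .p4, .hi, .p, .hi, .p6, .y1, .p5, .hi, .p5]

private theorem all10A : eqF (cj [] (pw w10A 2)) (pw w5A 2) = true ∧
    eqF (cj [] (pw w10A 5)) (pw w2A 1) = true := by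
  decide +kernel

theorem p10A_2 : eqF (cj [] (pw w10A 2)) (pw w5A 2) = true := all10A.1

theorem p10A_5 : eqF (cj [] (pw w10A 5)) (pw w2A 1) = true := all10A.2

theorem ord10A : orderOf (g w10A) = 10 := ord_two p10A_2 (orderOf_of_ordF o5A) p10A_5 (orderOf_of_ordF o2A) (by decide +kernel)

/-- word -/
def ws10A : List Ltr :=
  [.Z10, .Z7, .Z6, .Z5, .Z2, .Z1, .X9, .X6, .X4, .X3, .X2, .X1, .X0, .y10, .y6, .y5, .p9, .hi, .p4, .hi, .p4, .hi,
  .p4, .hi, .p, .hi, .p6, .y1, .p5, .hi, .p5]

/-- plane -/
def ps10A_0 : ℕ := 0x2f5a855a42a45a405aa55a08f95aa00810a520a5a51d0000a5eb2100000001a5fffedea5a5de06ffa5ff92ffff975aa5ff5aff8696ff5aa5bfff5ab5b75aff145a85a54858a5a45a58a5855a5aa4a5505aa1a51002a5215a50a5a15a5a21a502a15a74fffabf4025fff542a5255002a05ff54881004000a0a4126000000000005aa50080de00a55a8200a55a5aa500d60092a55a5aa5d7005aa5120000f7a55aff085aafa57f58f5ad5b48aff55a7bf5f55afaa5a55f5beda5fa5af5a55a5aa57ba54affff48a55eed4aad7afea558ffa15aaffa5bb77ba5faa55aa5a55ab55a0000000000000000000000000000000000000000000000000000000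0000000000000000000000000000000000000000000000000000000000000000000000000000000000000000000000000000000000000000000000000000000000000000000000000000000000000000000000000000000000000000000000000000000000000000000000000000000000000000000000000000000000000000000000000dfa55a5a5a5aa5de5a5aa5dedea55a5aa5a5b55a5abfa5a55af7a5a5a5a5a55aa5fb5affff5a4da5fffae9a5a55f5aafafff5aada55a5aa5ad5a5fa5a55a5aa5ffa55a0dbc5aeddfff5aa5ff7fb55a85a5ffff5a5ba55aa55abf5aa5a55aa55a00000000000000000000000000000000000000000000000000000000000000000000000000000000000000000000000000000000000000000000000000000000000000000000000000000000000000000000000000000000000000000000000000000000000000000000000000000000000000000002d9a00060d8b60012d120000000000000000000000000000000000000ffff000000000000ffff0000000000000000ffffffffffff000000000000ffffffffffffffffffff0000ffff0000ffffffff0000ffff0000ffff0000ffff0000ffffffff1ae000000000ffff0000ffffffffffff0000ffff0000000000000000ffffffff498c0000000000000000ffffffff0000000000000000ffffffffffff0000000000000000000000000000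

/-- plane -/
def ps10A_1 : ℕ := 0xc00000a5ad000010a5000063000000a5405ac00000005a0000105a00005a00000001215a5a21a1005a0025000020a55a00a500584800a55a4000a54a48a5004a00000000000000000000000000000000000000000000000000000000000000000400000000001080000018000000000000000020000000000000000000000000a55aff7f21ff5aa57dff5aa5a55aff29ff6d5aa5a55a28ffa55aedffff085aa50052a5505a800200400012000000800a00000000000020000000000000000000805a1000001250a1001002800150020004000000040000000000000000000000000000000000000000000000000000000000000000000000000000000000000000000000000000000000000000000000000000000000000000000000000000000000000000000000000000000000000000000000000000000000000000000000000000000000000000000000000000000000000000000000000000000000000000000000000000000000000000000000000000000000000000000000000000002000a5a5a5a50020a5a500012100a5a55a5a020000005a5a00085a5a5a5a12000000210000211200000512000000000050000000000000000000000000000000004a00a00100100000000a0000400020000000000000000000000000000000000000000000000000000000000000000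00000000000000000000000000000000000000000000000000000000000000000000000000000000000000000000000000000000000000000000000000000000000000000000000000000000000000000000000000000000000000000000000000000000000590000001b000000090000000000000000ffffffff0000ffffffffffff0000ffffffffffff00000000ffff0000ffff000000000000ffffffffffff0000000000000000000000000000000000000000000000000000000000000000ffff00000000e000000000000000ffff00000000000000000000000000000000000000000000b00000000000000000000000000000000000000000000000000000000000000000000000000000000000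

theorem cs10A_0 : trF ws10A 1 [ps10A_0, ps10A_1] U (7) = true := by decide +kernel

theorem ch_s10A : chB (g ws10A) = ((7 : ℤ) : ℚ) := chB_of (dg_of_trF cs10A_0) (by decide) (by decide)

/-- word -/
def c10A : List Ltr :=
  []

theorem k10A : eqF (cj c10A w10A) ws10A = true := by decide +kernel

theorem tr10A : tr (g w10A) = ((7 : ℤ) : ℚ) := chB_of_cj k10A ch_s10A

theorem pw10A : Pw (g w10A) [(2, 17), (5, 1)] :=
  ⟨ty_cj ty5A [] 2 p10A_2 (by decide +kernel),
    ty_cj ty2A [] 1 p10A_5 (by decide +kernel)⟩

theorem ty10A : TyB 47 (g w10A) := ty_mk ord10A tr10A pw10A (by decide +kernel)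

/-- word -/
def w10C : List Ltr :=
  [.Z6, .Z2, .X8, .X7, .y10, .y6, .y5, .p9, .hi, .p4, .hi, .p4, .hi, .p4, .hi, .p, .hi, .p6, .X0, .y1, .p5, .hi, .p5]

private theorem all10C : eqF (cj [] (pw w10C 2)) (pw w5A 2) = true ∧
    eqF (cj [] (pw w10C 5)) (pw w2C 1) = true := by
  decide +kernel

theorem p10C_2 : eqF (cj [] (pw w10C 2)) (pw w5A 2) = true := all10C.1

theorem p10C_5 : eqF (cj [] (pw w10C 5)) (pw w2C 1) = true := all10C.2

theorem ord10C : orderOf (g w10C) = 10 := ord_two p10C_2 (orderOf_of_ordF o5A) p10C_5 (orderOf_of_ordF o2C) (by decide +kernel)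

/-- word -/
def ws10C : List Ltr :=
  [.Z6, .Z2, .X8, .X7, .y10, .y6, .y5, .p9, .hi, .p4, .hi, .p4, .hi, .p4, .hi, .p, .hi, .p6, .X0, .y1, .p5, .hi, .p5]

/-- plane -/
def ps10C_0 : ℕ := 0xb7a55a5aa50a005aa59300008ba55a5aa50047c600a55a5f00a55a5aa50084ff5aff2424ff7ae5a55f5aefeddafaa5f55a7ab5a55f5aafe57b5aa5a55a5aa521ffb75a5abf7ba55af7ff21a5deaffaffa55ab7a55aaf5aed5aa55e5aa55aa50000000000000000000000000000000000000000000000000000000000000000102400a5a501a400a5c4814208a012a50a5aa00a08255ab10a005a27505a0500bd5aff72b5ff5abd27ff5aa5ff5affbbff4c5aa5a5ffefffa57eacffffda7fa55a01a50a12a5215a0aa5a15a5a21a5125a84a54a4aa5045a48a5845a5a05a54adcde4800a55aff1781422ba05ef55a8501500aa04d715284000a0001000a00140000000000000000000000000000000000000000000000000000000000000000000000000000000000000000000000000000000000000000000000000000000000000000000000000000000000000000000000000000000000000000000000000000000000000000000000000000000000000000000000000000000000000000dfa55a5a5a5aa5de5a5aa5dedea55a5aa5a5b55a5abfa5a55af7a5a5a5a5a55aa5fb5a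ffff5a4da5fffae9a5a55f5aafafff5aada55a5aa5ad5a5fa5a55a5aa5ffa55a0dbc5aeddfff5aa5ff7fb55a85a5ffff5a5ba55aa55abf5aa5a55aa55a00000000000000000000000000000000000000000000000000000000000000000000000000000000000000000000000000000000000000000000000000000000000000000000000000000000000000000000000000000000000000000000000000000000000000000000000000000000000000000002d9a00060d8b60012d120000000000000000000000000000000000000ffff000000000000ffff0000000000000000ffffffffffff000000000000ffffffffffffffffffff0000ffff0000ffffffff0000ffff0000ffff0000ffff0000ffffffff1ae000000000ffff0000ffffffffffff0000ffff0000000000000000ffffffff498c0000000000000000ffffffff0000000000000000ffffffffffff0000000000000000000000000000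

/-- plane -/
def ps10C_1 : ℕ := 0xff485aa5a55af5ffa55a6cffff745aa5a55affb839ff5aa5a0ff5aa5a55aff7b00a50081810001000000a5001004000000008002000000000800000000000000840040a5a500000005080084000000000050000000000000000000000000000000000000000000000000000000000000000000000000000000000000000000004ada5f0000fe5a1a00037a08105f6000400000a5e500000ca5000000080000a542a500084a00a5425800a55a00a5004000a1a55a5a0000005a8101000025805a0000000000000000000000000000000000000000000000000000000000000000000012050000000004100000000000200000000000000800000000000000000000000000000000000000000000000000000000000000000000000000000000000000000000000000000000000000000000000000000000000000000000000000000000000000000000000000000000000000000000000000000000000000000000000000000000000000000000000000000000000000000000000000000000002000a5a5a5a50020a5a500012100a5a55a5a020000005a5a00085a5a5a5a12000000210000211200000512000000000050000000000000000000000000000000004a00a00100100000000a0000400020000000000000000000000000000000000000000000000000000000000000000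00000000000000000000000000000000000000000000000000000000000000000000000000000000000000000000000000000000000000000000000000000000000000000000000000000000000000000000000000000000000000000000000000000000000590000001b000000090000000000000000ffffffff0000ffffffffffff0000ffffffffffff00000000ffff0000ffff000000000000ffffffffffff0000000000000000000000000000000000000000000000000000000000000000ffff00000000e000000000000000ffff00000000000000000000000000000000000000000000b00000000000000000000000000000000000000000000000000000000000000000000000000000000000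

theorem cs10C_0 : trF ws10C 1 [ps10C_0, ps10C_1] U (-3) = true := by decide +kernel

theorem ch_s10C : chB (g ws10C) = ((-3 : ℤ) : ℚ) := chB_of (dg_of_trF cs10C_0) (by decide) (by decide)

/-- word -/
def c10C : List Ltr :=
  []

theorem k10C : eqF (cj c10C w10C) ws10C = true := by decide +kernel

theorem tr10C : tr (g w10C) = ((-3 : ℤ) : ℚ) := chB_of_cj k10C ch_s10C

theorem pw10C : Pw (g w10C) [(2, 17), (5, 3)] :=
  ⟨ty_cj ty5A [] 2 p10C_2 (by decide +kernel),
    ty_cj ty2C [] 1 p10C_5 (by decide +kernel)⟩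

theorem ty10C : TyB 49 (g w10C) := ty_mk ord10C tr10C pw10C (by decide +kernel)

/-- word -/
def w20H : List Ltr :=
  [.z, .Z10, .Z6, .Z4, .Z3, .X10, .X4, .X0, .y9, .y6, .y5, .y2, .p9, .hi, .p2, .tau, .X0, .y1, .p4]

private theorem all20H : eqF (cj [] (pw w20H 2)) (pw w10C 3) = true ∧
    eqF (cj [] (pw w20H 5)) (pw w4I 1) = true := by
  decide +kernel

theorem p20H_2 : eqF (cj [] (pw w20H 2)) (pw w10C 3) = true := all20H.1

theorem p20H_5 : eqF (cj [] (pw w20H 5)) (pw w4I 1) = true := all20H.2

theorem ord20H : orderOf (g w20H) = 20 := ord_two p20H_2 ord10C p20H_5 (orderOf_of_ordF o4I) (by decide +kernel)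

/-- word -/
def ws20H : List Ltr :=
  [.z, .Z6, .Z4, .X10, .X8, .X5, .X1, .X0, .y5, .y1, .p9, .hi, .p2, .X0, .p4]

/-- plane -/
def ps20H_0 : ℕ := 0xffffffffffffffffffffffffffffffffffffffffffffffffffffffffffffffffffffffffffffffffffffffffffffffffffffffffffffffffffffffffffffffffffffffffffffffffffffffffffffffffffffffffffffffffffffffffffffffffffffffffffffffffffffffffffffffffffffffffffffffffffffffffffffffff000000000000000000000000000000000000000000000000000000000000000000000000000000000000000000000000000000000000000000000000000000000000000000000000000000000000000000000000000000000000000000000000000000000000000000000000000000000000000000000000000000000000000000000000000000000000000000000000000000000000000000000000000000000000000000000000000000000000000000000000000000000000000000000000000000000000000000000000000000000000000000000000000000000000000000000000000000000000000000000000000000000000000000000000000000000030a0420a60410616a98a8a048aa4b8db151da5f510d54b7e62f27abaae07af9f8159a9b15cb18fa76a72feda0c8fa5717ab7270da7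5b7a18afaeaba5ebfaaaa5abf83a0aba0ba101af3afab0faabaf701807a1070b703aa2ba0baf23a830aa10b0038b03291000202a02aa02a920ba010210201020010202ab000000220000000000000000000000000000000000000000000000000000000000000000000000000000000000000000000000000000000000000000000000000000000000000000000000000000000000000000000000000000000376c8000254ce005752c0000000000000ffff0000ffff0000ffff0000ffff000000000000ffffffff00000000ffffffffffffffff00000000ffff0000ffffffffffff0000ffffffffffff0000ffffffff00000000ffffffffffff0000ffffffffffff0000ffffffff00000000ffff0000ffffffff00000000ffff0000000000000000000000000000ffff00000000ffff0000ffff00000000ffff00000000000000000000000000000000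

/-- plane -/
def ps20H_1 : ℕ := 0xffca179d458f3af9a9023575bb614b4220aaa25a02eb2ab0811d088440512810203ea20202a30a200015800020f1201a808008080208a080a21000000a0000000a0000802000000a0a0080000000000000a0000a00000080000000000002000000000000000200000000000000000000000000000000000000000000000000000000000000000000000000000000000000000000000000000000000000000000000000000000000000000000000000000000000000000000000000000000000000000000000000000000000000000000000000000014000000742100000000000000000000000000ffff00000000000000000000ffffffff0000000000000000ffff00000000000000000000ffff000000000000000000000000000000000000ffff000000000000ffff0000000000000000000000000000000000000000000000000000000000000000000000000000000000000000000000000000000000000000000000000000000000000000000000000000000000000000000000000000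

theorem cs20H_0 : trF ws20H 1 [ps20H_0, ps20H_1] U (-1) = true := by decide +kernel

theorem ch_s20H : chB (g ws20H) = ((-1 : ℤ) : ℚ) := chB_of (dg_of_trF cs20H_0) (by decide) (by decide)

/-- word -/
def c20H : List Ltr :=
  [.tau]

theorem k20H : eqF (cj c20H w20H) ws20H = true := by decide +kernel

theorem tr20H : tr (g w20H) = ((-1 : ℤ) : ℚ) := chB_of_cj k20H ch_s20H

theorem pw20H : Pw (g w20H) [(2, 49), (5, 15)] :=
  ⟨ty_cj ty10C [] 3 p20H_2 (by decide +kernel),
    ty_cj ty4I [] 1 p20H_5 (by decide +kernel)⟩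

theorem ty20H : TyB 103 (g w20H) := ty_mk ord20H tr20H pw20H (by decide +kernel)

/-- word -/
def w15A : List Ltr :=
  [.Z10, .Z9, .Z4, .Z3, .Z2, .X9, .X7, .X2, .X1, .X0, .y9, .y8, .y7, .y3, .y2, .hi, .p4, .hi, .p8, .hi, .p10, .hi,
  .p10, .hi, .p, .hi, .xii, .hi, .p8, .hi, .p7, .xii, .y7, .p6, .xii, .y2]

private theorem all15A : eqF (cj [] (pw w15A 3)) (pw w5A 3) = true ∧
    eqF (cj [] (pw w15A 5)) (pw w3A 2) = true := by
  decide +kernel

theorem p15A_3 : eqF (cj [] (pw w15A 3)) (pw w5A 3) = true := all15A.1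

theorem p15A_5 : eqF (cj [] (pw w15A 5)) (pw w3A 2) = true := all15A.2

theorem ord15A : orderOf (g w15A) = 15 := ord_two p15A_3 (orderOf_of_ordF o5A) p15A_5 (orderOf_of_ordF o3A) (by decide +kernel)

/-- word -/
def ws15A : List Ltr :=
  [.Z4, .Z1, .X10, .X6, .X0, .y9, .y7, .y6, .y1, .p9, .hi, .p9, .hi, .p3, .hi, .p9, .hi, .p6, .hi, .xii, .y2, .p10,
  .y1, .p2, .hi]

/-- plane -/
def ps15A_0 : ℕ := 0x5a0a500ab00764ac03c0ac354a5b5a5c03c004302087a0a9000000a52003800c3001c0040000a500b401e5050c3003c07a5aca5a0d30a3c5b007c589505a500a5a0a500ab00764ac03c0ac354a5b5a5c03c004302087a0a9000000a52003800c3001c0040000a500b40165050c3003c07a58ca5a0d30a3c5b007c589505a500a261891453f53fa7cd2a25e8bf55007aa41f18846bab0eb45112675883aa754bcb553c78a912244ab0757a87d2f2898440aaf55b0151e74da3af3cb5f4291a826261891453f53fa7cd2a25e8bf55007aa41f18846bab0eb45112675883aa754bcb553c78a912244ab0757a87d2f2898440aaf55b0151e74da3af3cb5f4291a826000000000000000000000000000000000000000000000000000000000000000000000000000000000000000000000000000000000000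00000000000000000000000000000000000000000000000000000000000000000000000000000000000000000000000000000000000000000000000000000000000000000000000000002000800800200404002900901a10026000074048250081b04020020500a018000e7a4850e429900285e10180f0db080b5212081a250304252d9006a0da06604a7801105aa9f026a5c50990870ba05072861e72420b70afa1b004a42d14f21b5a1f985370c52bb091af602f94d2571a085f90096af0adc6a50de583959a0e705800000000000000000000000000000000000000000000000000000000000000000000000000000000000000000000000000000000000000000000000000000000000000000000000000000000000000000000000000522d9a006f0100006d01260000000000002020ffff0241852394005578fffd0cefcc02ffffffff0028ffbf7f04fd5b20089446e33f42af0000000349b723ad30b1f3f3000087e34da8f47a322fdf7f38c3fbfbe141af7bf75bffff7fbf10004440affdc80f6000ffff9fd6f3cf00c0febfa3c4a084df8960b5fedf6d33efe61410c1f19881ffff2010926f04ba8f96508607afffff080f4aba0000beebd38a1225fffc7ffbd722b4744422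

/-- plane -/
def ps15A_1 : ℕ := 0x500a5000000101040000000000400200000000a000800101a005a04000000200081000052005a000052004000000000000100800800000000020200a000a5000500a5000000101042000001000400200000800a000800501a005a04000000200081000052005a000052004000000400000100801800000000020200a000a50df57675faaa78fdd752df1ae1aaaa8f0ba1e775935458eb0e5a9d5a7555aeb4a5aaa587d65adb5aea8a307d4d2576abb55520f45e1abd52fb555eef4bafefab9df57675faaa78fdd752df1ae1aaaa8f0ba1e775935458eb0e5a9d5a7555aeb4a5aaa587d65adb5aea8a307d4d2576abb55520f45e1abd52fb555eef4bafefab90000000000000000000000000000000000000000000000000000000000000000000000000000000000000000000000000000000000000000000000000000000000000000000000000000000000000000000000000000000000000000000000000000000000000000000000000000000000000000000000000000000000000000000000000000000000000000000000000000000000000000100000000000000000000000000000000000000000000000080002400000000000000000000000000008000000008000200000001000000000000808040000400000000000004000004008002004440400010000200840020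002020001002000000004204000000000000000000000000000000000000000000000000000000000000000000000000000000000000000000000000000000000000000000000000000000000000000000000000000000000000000000000000000000000169f2600000000000000000000000000000000000000000000480000000002100000000000000000000040000002a4000043381cc00010000000000400cc12c0000c0c00002818304300800dd00000c73c04040484400008a40000000020cc0000500233000600000000090c00ff3f01400029433800009f4a012092cc1019e0600e0e272e000094ac6d900b4070608f7800500000f7f0144455aa40102c55ccd8000380040014498abbdd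

/-- plane -/
def ps15A_2 : ℕ := 0xa000000000500000180048040020008021002400001000000000000000050000000000a0000000020000000021008101008400004200480a0000000005000000a000000000500000180048040020008021002400001000000000000000050000000000a000000002000800002100810100a400004200480a0000000005000000000000000000000000000000000000000000000000000000000000000000000000000000000000000000000000000000000000000000000000000000000000000000000000000000000000000000000000000000000000000000000000000000000000000000000000000000000000000000000000000000000000000000000000000000000000000000000000000000000000000000000000000000000000000000000000000000000000000000000000000000000000000000000000000000000000000000000000000000000000000000000000000000000000000000000000000000000000000000000000000000000000000000000000000000000000000000000000000000000000000000000000000000000000000000000000000000000000000000000000000000000000000000000000000000000000000000000000000000000000000000000000000000000000000000000000000000000000000000000000000000000000000000000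0000000000000000000000000000000000000000000000000000000000000000000000000000000000000000000000000000000000000000000000000000000000000000000000000000000000000000000000000000000000000000000000000000000000000000000000000000000000000000000000000000000000000000000000000000000000000000000000000000000000000000000000000000000000000000000000000000000000000000000000000000000000000000000000000000000000000000000000000000000000000000000000000000000000000000000000000000000000000000000000000000000000000000000000000000000000000000000000000000000000000000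

theorem cs15A_0 : trF ws15A 4 [ps15A_0, ps15A_1, ps15A_2] U (12) = true := by decide +kernel

theorem ch_s15A : chB (g ws15A) = ((3 : ℤ) : ℚ) := chB_of (dg_of_trF cs15A_0) (by decide) (by decide)

/-- word -/
def c15A : List Ltr :=
  [.Z10, .Z9, .Z8, .Z7, .Z6, .Z5, .X8, .X7, .X6, .X5, .X4, .X3, .X2, .X1, .X0, .p3, .xii]

theorem k15A : eqF (cj c15A w15A) ws15A = true := by decide +kernel

theorem tr15A : tr (g w15A) = ((3 : ℤ) : ℚ) := chB_of_cj k15A ch_s15A

theorem pw15A : Pw (g w15A) [(3, 17), (5, 5)] :=
  ⟨ty_cj ty5A [] 3 p15A_3 (by decide +kernel),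
    ty_cj ty3A [] 2 p15A_5 (by decide +kernel)⟩

theorem ty15A : TyB 80 (g w15A) := ty_mk ord15A tr15A pw15A (by decide +kernel)

/-- word -/
def w30A : List Ltr :=
  [.z, .Z10, .Z8, .Z7, .Z5, .Z3, .Z1, .X8, .X6, .X4, .X3, .X0, .y8, .y6, .y4, .y3, .y1, .hi, .p5, .hi, .p9, .hi, .p9,
  .hi, .p5, .hi, .p6, .hi, .xii, .p10, .xii, .y6, .p2, .xii, .y5, .X0, .p9, .xii, .y10, .p10, .xii, .y4]

private theorem all30A : eqF (cj [] (pw w30A 2)) (pw w15A 2) = true ∧
    eqF (cj [] (pw w30A 3)) (pw w10A 3) = true ∧
    eqF (cj [] (pw w30A 5)) (pw w6B 5) = true := by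
  decide +kernel

theorem p30A_2 : eqF (cj [] (pw w30A 2)) (pw w15A 2) = true := all30A.1

theorem p30A_3 : eqF (cj [] (pw w30A 3)) (pw w10A 3) = true := all30A.2.1

theorem p30A_5 : eqF (cj [] (pw w30A 5)) (pw w6B 5) = true := all30A.2.2

theorem ord30A : orderOf (g w30A) = 30 := ord_two p30A_2 ord15A p30A_3 ord10A (by decide +kernel)

/-- word -/
def ws30A : List Ltr :=
  [.Z10, .Z9, .Z5, .Z3, .Z1, .X6, .X0, .y10, .y7, .y5, .y2, .p, .hi, .p10, .hi, .p4, .hi, .p4, .hi, .p6, .hi, .xii,
  .y4, .hi, .p10]

/-- plane -/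
def ps30A_0 : ℕ := 0x3c3ce3c37c7cc7fb3efee3effd3ddfd3e3ef3efedfd3fd3dc03030c00cf443733dfcd3d33c3cc3c37f7cf7c7bcbfcbfbf7c77f7ccbfbbcbf14dc03f1c01030c0c3c33c3dcbcb7fbcdfd3fd3de3ef3efefd3ddfd33efee3ef030c0c038fc03b38dfe33e3ec3c73c3ccbfbbcbff7c77f7cbcbfcbfb7f7cf7c7ce822f30020c0c030000000000000000246e42279d3c1bc318c7813ecb243d42000000000000000000000000000000004e3c67c3188d819bc7183e8124cb423d00000000000000000000000000000000d981b118c3e63c72bc42d324817c18e300000000000000000000000000000000c3d83cb9e442762442bc24d37c81e31800000000000000000000000000000000000000000000000000000000000000000000000000000000000000000000000000000000000000000000000000000000000000000000000000000000000000000000000000000000000000000000000000000000000000000000000000000000000000000000000000000000000000000000000000000000ffbfffff7ff7effffd2db7de5cf799fbe57f76f7bbdbb8b9e76fbebfb7effe7ffffaffb7fdfef7f72dd0cf0bde9c5ae55ac3672e89abac7bf7e7fe7ed3d6fc39ffdf7f7fd9dbdfffab007e676542d73c9810804b6aa482601d3dc7c73c98e793ffe7ecfefbfbbdfee58584184a1124050000028180600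683bc3ec3c1bc3edac7000000000000000000000000000000000000000000000000000000000000000000000000000000000000000000000000000000000000000000000000000000000000000000000000000000000000000000000000005b7448003e5dae00265dae000000000000040200003bff3cd700c0ff001212ff7a02012112000001805a9e4660bfffffdb6960fffb969600ccb2fbccff68180020f00f8d2300000000ffef0c0f0ccce779c12401900989699700a0f1f1bcbc880900000000bcc38124000443c7088c1a8000000000000000480048ed0000000000b83400003a2343000600ad07000000000000020808090608c000018000001110cc33c000104002204000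

/-- plane -/
def ps30A_1 : ℕ := 0xc08110188103180400000000000000000000000000000000003800410c0001004201240c404230240000000000000000000000000000000004000300001400c2240c420230248042000000000000000000000000000000004300280000c000203018c081180c81030000000000000000000000000000000000c0003082001c00bddfdbfdef7efee7c3623c2491c3183cdb34bdc23866c1667ee7e77edbbdbddbfbbdbfdb7ef7e77f42c3643cc3813c983499c299e7387ec1e77e7ee7bddbdbbdfee7ef7edbfdbddf193c81c33c26c342837e1ce79943992cbddbdbbde77e7ee7e77f7ef7bfdbfbbd3c18c389243c46c36683661c43bd2cdbdbbdbddb7ee7e77e00000000000000000000000000000000000000000000000000000000000000000000000000000000000000000000000000000000000000000000000000000000000000000000000000000000000000000000000000000000000000000000000000000000000000000000000000000000000000000000000000000000000000000000000000000000000000000000000002000000000000000000000000100000000000000000000000000000000000000000000000000000000000000000000000000000000000000000000000000000000820000400000000000010000000000000000000000000000001000000080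21800182c0000004000000000000000000000000000000000000000000000000000000000000000000000000000000000000000000000000000000000000000000000000000000000000000000000000000000000000000000000000000000000000000000067017a0000000000000000000000000000000000000000000000000000c86100008040042100010000000000000000000094940000000000000000000013c6010806300048994248040000000000000000000000000020866050520a0a0000440612002400032024003000283077502545000010020000cc0048120057800000004182000000888cc021220218ddce3cbfcccc28c2806099011cee2e3f21314468314c2cee8a0e01108110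

/-- plane -/
def ps30A_2 : ℕ := 0x2000000028020000000000000000000000000000000000020000200200800808000082000000800000000000000000000000000000000000020800208008000001000010410400100000000000000000000000000000000000104104001041000040140000000400000000000000000000000000000000001001004014000040000000000000000000000000000000000000000000000000000000000000000000000000000000000000000000000000000000000000000000000000000000000000000000000000000000000000000000000000000000000000000000000000000000000000000000000000000000000000000000000000000000000000000000000000000000000000000000000000000000000000000000000000000000000000000000000000000000000000000000000000000000000000000000000000000000000000000000000000000000000000000000000000000000000000000000000000000000000000000000000000000000000000000000000000000000000000000000000000000000000000000000000000000000000000000000000000000000000000000000000000000000000000000000000000000000000000000000000000000000000000000000000000000000000000000000000000000000000000000000000000000000000000000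0000000000000000000000000000000000000000000000000000000000000000000000000000000000000000000000000000000000000000000000000000000000000000000000000000000000000000000000000000000000000000000000000000000000000000000000000000000000000000000000000000000000000000000000000000000000000000000000000000000000000000000000000000000000000000000000000000000000000000000000000000000000000000000000000000000000000000000000000000000000000000000000000000000000000000000000000000000000000000000000000000000000000000000000000000000000000000000000000000000000000000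

theorem cs30A_0 : trF ws30A 4 [ps30A_0, ps30A_1, ps30A_2] U (-20) = true := by decide +kernel

theorem ch_s30A : chB (g ws30A) = ((-5 : ℤ) : ℚ) := chB_of (dg_of_trF cs30A_0) (by decide) (by decide)

/-- word -/
def c30A : List Ltr :=
  [.Z6, .Z0, .X10, .X7, .X3, .X1, .y2, .hi, .p8, .X0, .p6, .xii, .p3, .hi]

theorem k30A : eqF (cj c30A w30A) ws30A = true := by decide +kernel

theorem tr30A : tr (g w30A) = ((-5 : ℤ) : ℚ) := chB_of_cj k30A ch_s30A

theorem pw30A : Pw (g w30A) [(2, 80), (3, 47), (5, 20)] :=
  ⟨ty_cj ty15A [] 2 p30A_2 (by decide +kernel),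
    ty_cj ty10A [] 3 p30A_3 (by decide +kernel),
    ty_cj ty6B [] 5 p30A_5 (by decide +kernel)⟩

theorem ty30A : TyB 133 (g w30A) := ty_mk ord30A tr30A pw30A (by decide +kernel)

/-- word -/
def cX : List Ltr :=
  [.z, .Z7, .Z6, .Z4, .Z2, .Z1, .X9, .X7, .X3, .X2, .y9, .y8, .y5, .y4, .y1, .p5, .hi, .p6, .hi, .p3, .hi, .p, .hi,
  .p4, .hi, .p4, .xii, .hi, .xii, .p8, .xii, .y1, .y3, .taui, .y1, .xii, .p10, .xii, .y5, .p10, .xii, .y8, .taui,
  .y1, .xii, .y1, .hi, .xii, .p10, .xii, .y8, .y9, .p10, .xii, .y5, .p10, .xii, .tau, .xii, .p4, .xii, .y5, .p6,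
  .xii, .y3, .taui, .xii, .p3, .xii, .y1]

/-- word -/
def w30B : List Ltr :=
  [.Z9, .Z7, .Z5, .Z3, .Z2, .Z0, .X10, .X5, .X4, .X3, .X2, .X0, .y9, .y8, .y7, .y3, .y2, .hi, .p4, .hi, .p8, .hi,
  .p10, .hi, .p10, .hi, .p, .hi, .xii, .hi, .p8, .hi, .p8, .X0, .p10, .xii, .y7, .p6, .xii, .y2]

private theorem all30B : eqF (cj [] (pw w30B 2)) (pw w15A 2) = true ∧
    eqF (cj cX (pw w30B 3)) (pw w10A 3) = true ∧
    eqF (cj [] (pw w30B 5)) (pw w6A 5) = true ∧
    eqF (pw w30B 15) wS = true := by
  decide +kernel

theorem p30B_2 : eqF (cj [] (pw w30B 2)) (pw w15A 2) = true := all30B.1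

theorem p30B_3 : eqF (cj cX (pw w30B 3)) (pw w10A 3) = true := all30B.2.1

theorem p30B_5 : eqF (cj [] (pw w30B 5)) (pw w6A 5) = true := all30B.2.2.1

theorem ord30B : orderOf (g w30B) = 30 := ord_two p30B_2 ord15A p30B_3 ord10A (by decide +kernel)

/-- word -/
def w30C : List Ltr :=
  [.z, .Z8, .Z7, .Z5, .Z3, .Z2, .Z1, .Z0, .X10, .X9, .X6, .X5, .X0, .y8, .y6, .y4, .y3, .y1, .hi, .p5, .hi, .p9, .hi,
  .p9, .hi, .p5, .hi, .p6, .hi, .xii, .p10, .xii, .y6, .p2, .xii, .y5, .p9, .xii, .y10, .p10, .xii, .y4]

private theorem all30C : eqF (cj [] (pw w30C 2)) (pw w15A 2) = true ∧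
    eqF (cj [] (pw w30C 3)) (pw w10C 3) = true ∧
    eqF (cj [] (pw w30C 5)) (pw w6F 5) = true := by
  decide +kernel

theorem p30C_2 : eqF (cj [] (pw w30C 2)) (pw w15A 2) = true := all30C.1

theorem p30C_3 : eqF (cj [] (pw w30C 3)) (pw w10C 3) = true := all30C.2.1

theorem p30C_5 : eqF (cj [] (pw w30C 5)) (pw w6F 5) = true := all30C.2.2

theorem ord30C : orderOf (g w30C) = 30 := ord_two p30C_2 ord15A p30C_3 ord10C (by decide +kernel)

/-- word -/
def wR2 : List Ltr :=
  [.z, .Z9, .Z8, .Z7, .Z6, .Z4, .Z3, .X10, .X3, .X2, .X0, .y9, .y8, .y6, .y5, .y4, .y3, .y1, .hi, .p7, .hi, .p, .hi,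
  .p4, .hi, .p4, .hi, .p7, .hi, .p, .tau, .y1, .xii, .y6, .p10, .xii, .y8, .p10, .xii, .tau, .xii, .p10, .hi, .p2,
  .hi, .p2, .xii, .p6, .xii, .y2, .tau, .xii, .p, .xii, .p7, .xii, .y7, .tau]

/-- word -/
def wR7 : List Ltr :=
  [.Z10, .Z9, .Z2, .Z0, .X9, .X6, .X4, .y8, .y7, .y6, .y5, .y4, .y3, .hi, .p8, .hi, .p5, .hi, .p4, .hi, .p6, .hi,
  .p4, .taui, .y1, .xii, .p10, .xii, .y4, .p10, .xii, .y3, .y5, .taui, .X0, .p9, .xii, .p10, .y9, .xii, .y8, .tau,
  .xii, .p2, .hi, .p8]

/-- word -/
def wR8 : List Ltr :=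
  [.Z8, .Z7, .Z4, .Z3, .Z1, .Z0, .X7, .X6, .X0, .y7, .y4, .y3, .hi, .p9, .hi, .p6, .hi, .p3, .hi, .p10, .hi, .p2,
  .xii, .p3, .hi, .xii, .taui, .y1, .xii, .p10, .xii, .y8, .p10, .xii, .y2, .X0, .p7, .xii, .y4, .p5, .xii, .y9,
  .tau, .xii, .p7, .xii, .p10, .y9, .tau]

theorem oR7 : ordF wR7 7 = true := by decide +kernel

theorem oR8 : ordF wR8 8 = true := by decide +kernel

theorem oR2 : powF wR2 3 = true := by decide +kernel

theorem nR2a : neF wR2 [] = true := by decide +kernel

theorem nR2b : neF wR2 w3A = true := by decide +kernel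

theorem nR2c : neF wR2 (w3A ++ w3A) = true := by decide +kernel

theorem m_R7_5A : eqF (wR7 ++ w5A) (w5A ++ wR7) = true := by decide +kernel

theorem m_R8_5A : eqF (wR8 ++ w5A) (w5A ++ wR8) = true := by decide +kernel

theorem m_R2_5A : eqF (wR2 ++ w5A) (w5A ++ wR2) = true := by decide +kernel

theorem m_R2_2C : eqF (wR2 ++ w2C) (w2C ++ wR2) = true := by decide +kernel

theorem m_3A_5A : eqF (w3A ++ w5A) (w5A ++ w3A) = true := by decide +kernel

theorem m_3A_2C : eqF (w3A ++ w2C) (w2C ++ w3A) = true := by decide +kernel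

theorem m_3A_R2 : eqF (w3A ++ wR2) (wR2 ++ w3A) = true := by decide +kernel

theorem m_4I_5A : eqF (w4I ++ w5A) (w5A ++ w4I) = true := by decide +kernel

theorem q_4I_2 : g w4I ^ 2 = g w2C :=
  pow_via (r := 1) 1 p4I_2 (orderOf_of_ordF o2C) (pow_one _) (by decide)

theorem q_10A_6 : g w10A ^ 6 = g w5A :=
  pow_via (r := 1) 3 p10A_2 (orderOf_of_ordF o5A) (pow_one _) (by decide)

theorem q_10C_6 : g w10C ^ 6 = g w5A :=
  pow_via (r := 1) 3 p10C_2 (orderOf_of_ordF o5A) (pow_one _) (by decide)

theorem q_10C_5 : g w10C ^ 5 = g w2C :=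
  pow_via (r := 1) 1 p10C_5 (orderOf_of_ordF o2C) (pow_one _) (by decide)

theorem q_20H_4 : g w20H ^ 4 = g w5A :=
  pow_via (r := 6) 2 p20H_2 ord10C (pow_via (r := 1) 3 p10C_2 (orderOf_of_ordF o5A) (pow_one _) (by decide)) (by decide)

theorem q_20H_10 : g w20H ^ 10 = g w2C :=
  pow_via (r := 5) 5 p20H_2 ord10C (pow_via (r := 1) 1 p10C_5 (orderOf_of_ordF o2C) (pow_one _) (by decide)) (by decide)

theorem q_15A_6 : g w15A ^ 6 = g w5A :=
  pow_via (r := 1) 2 p15A_3 (orderOf_of_ordF o5A) (pow_one _) (by decide)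

theorem q_30A_16 : g w30A ^ 16 = g w15A :=
  pow_via (r := 1) 8 p30A_2 ord15A (pow_one _) (by decide)

theorem q_30C_6 : g w30C ^ 6 = g w5A :=
  pow_via (r := 6) 3 p30C_2 ord15A (pow_via (r := 1) 2 p15A_3 (orderOf_of_ordF o5A) (pow_one _) (by decide)) (by decide)

theorem q_30C_15 : g w30C ^ 15 = g w2C :=
  pow_via (r := 5) 5 p30C_3 ord10C (pow_via (r := 1) 1 p10C_5 (orderOf_of_ordF o2C) (pow_one _) (by decide)) (by decide)

theorem q_30B_16 : g w30B ^ 16 = g w15A :=
  pow_via (r := 1) 8 p30B_2 ord15A (pow_one _) (by decide)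

theorem e_30B_15 : eqF (pw w30B 15) wS = true := all30B.2.2.2

/-- words -/
def T30 : List (List Ltr) :=
  [[], [.Z7, .Z5, .Z4, .Z3, .Z2, .X2, .X0, .y10, .y9, .y7, .y4, .y3, .y2, .p10, .hi, .p, .hi, .p8, .hi, .p6, .hi,
  .p10, .hi, .p6, .hi, .taui, .xii, .p, .xii, .y4, .hi, .xii, .y4, .y7, .tau, .xii, .y2, .p, .xii, .y1, .hi, .xii,
  .y6, .y10, .p9, .xii, .hi, .xii, .y8, .y9, .tau, .xii, .p10, .xii, .y1, .p8, .xii, .y8, .tau], [.z, .Z9, .Z6, .Z3,
  .Z2, .X8, .X4, .X3, .X1, .X0, .y10, .y9, .y8, .y6, .y5, .y3, .y2, .y1, .p9, .hi, .p10, .hi, .p, .hi, .p3, .hi,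
  .p10, .hi, .p4, .hi, .p7, .hi, .tau, .xii, .y2, .p, .xii, .y1, .hi, .xii, .y7, .y10, .y1, .p9, .xii, .p, .xii, .y7,
  .taui], [.Z9, .Z8, .Z7, .Z4, .Z3, .Z1, .X9, .X8, .X7, .X4, .X3, .X2, .y8, .y3, .y2, .y1, .p7, .hi, .p10, .hi, .p5,
  .hi, .p5, .hi, .p, .hi, .p5, .hi, .tau, .y1, .xii, .y2, .hi, .p10, .hi, .p7, .xii, .p2, .xii, .y3, .taui], [.z,
  .Z10, .Z7, .Z6, .Z3, .X10, .X9, .X7, .X5, .X3, .X2, .y7, .y5, .y4, .p9, .hi, .p10, .hi, .p, .hi, .p3, .hi, .p10,
  .hi, .p4, .hi, .p7, .hi, .taui, .xii, .y2, .p, .xii, .y1, .hi, .xii, .y7, .y10, .X0, .y1, .p9, .xii, .p, .xii, .y7,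
  .taui], [.Z8, .Z7, .Z5, .Z3, .Z1, .X10, .X9, .X8, .X4, .X3, .X1, .X0, .y7, .y6, .y3, .y2, .y1, .p7, .hi, .p10, .hi,
  .p5, .hi, .p5, .hi, .p, .hi, .p5, .hi, .taui, .y1, .xii, .y2, .hi, .p10, .hi, .p8, .X0, .p10, .xii, .p2, .xii, .y3,
  .taui], [.Z10, .Z9, .Z3, .Z2, .X10, .X8, .X7, .X2, .X1, .X0, .y8, .y6, .y5, .y3, .y2, .y1, .hi, .p8, .hi, .p8, .hi,
  .p9, .hi, .p7, .hi, .p3, .tau, .xii, .p, .xii, .y4, .hi, .xii, .y4, .y7, .tau, .y1, .xii, .p10, .xii, .y5, .p10,
  .xii, .y4, .X0, .p10, .xii, .p10, .xii, .y10, .taui, .xii, .p10, .xii, .y1, .p8, .xii, .y8, .tau], [.Z10, .Z9, .Z8,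
  .Z5, .Z4, .Z3, .Z2, .X10, .X9, .X7, .X5, .X3, .X2, .X0, .y10, .y9, .y7, .y6, .y4, .p10, .hi, .p2, .hi, .p, .hi,
  .p7, .hi, .p10, .hi, .p9, .hi, .xii, .p10, .xii, .y8, .p8, .xii, .y4, .tau, .xii, .p, .xii, .hi, .y8, .xii, .y1,
  .y4, .taui, .xii, .y2, .p, .hi, .xii, .y6, .p5, .hi, .p5, .X0, .p9, .xii, .y7, .p, .xii, .y6, .taui, .xii, .p6,
  .xii, .p6, .y3, .xii, .y1, .y8, .taui, .xii, .p10, .xii, .y8], [.z, .Z10, .Z8, .Z5, .Z4, .Z0, .X9, .X8, .X7, .X6,
  .X5, .X4, .X3, .X1, .y6, .y3, .y1, .hi, .p4, .hi, .p9, .hi, .p3, .hi, .p5, .hi, .p2, .hi, .xii, .p, .xii, .p7, .y4,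
  .taui, .xii, .y1, .p, .xii, .p, .xii, .y3, .y4, .taui, .xii, .p10, .xii, .y4, .p10, .xii, .y8, .tau, .xii, .p3,
  .xii, .y6, .hi, .xii, .y3, .y4, .taui, .xii, .p2, .xii, .y1], [.Z8, .Z1, .X9, .X8, .X7, .X5, .X4, .X3, .X1, .y10,
  .y9, .y8, .y6, .y5, .y4, .y2, .X0, .y1]]

theorem com30 : comA w15A T30 = true := by decide +kernel

theorem orb30 : orbA wS T30 [] = true := by decide +kernel

end Cfsg.Agent.TAB.B.D
end

-- part: TAB/B/C2/R2
section
set_option linter.all false

/-!
# Runs, part 2 (helper48)
-/

set_option autoImplicit false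

namespace Cfsg.Agent.TAB.B.C2

open Cfsg.Agent.H633.Ore.Co2

/-- the class 3 -/
def c3 : Cs := ⟨C0.w3, 2, 0, 52, [2, 4129, 128, 262428, 820, 8620, 1104, 2938, 16821, 73859, 172900, 532993, 1057469, 2138997], [0, 1, 0, 0, 0, 0, 0, 4, 0, 16, 64, 145, 2, 36, 260, 0, 545, 1076, 8, 2100, 4144, 8244], [0, 0, 0, 0, 0, 0, 0, 0, 0, 0, 16, 328, 0, 0, 5, 0, 316, 33124, 0, 9, 40, 33125],
   [⟨1, [2, 4129, 128, 262428, 820, 8620, 1104, 2938, 16821, 73859, 172900, 532993, 1057469, 2138997], [0, 1, 0, 0, 0, 0, 0, 4, 0, 16, 64, 145, 2, 36, 260, 0, 545, 1076, 8, 2100, 4144, 8244], [0, 0, 0, 0, 0, 0, 0, 0, 0, 0, 16, 328, 0, 0, 5, 0, 316, 33124, 0, 9, 40, 33125], 3, 0, 0, 0, 7⟩,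
    ⟨2, [2048, 1, 4096, 2, 8192, 4, 16384, 8, 32768, 16, 65536, 32, 131072, 64, 262144, 128, 524288, 256, 1048576, 512, 2097152, 1024], [2, 8, 32, 128, 512, 2048, 8192, 32768, 131072, 524288, 2097152, 1, 4, 16, 64, 256, 1024, 4096, 16384, 65536, 262144, 1048576], [0, 0, 0, 0, 0, 0, 0, 0, 0, 0, 0, 0, 0, 0, 0, 0, 0, 0, 0, 0, 0, 0], 11, 1, 0, 2, 23⟩],
   [18047866102908156, 18047316279968892, 18050064857662716, 18049515571725436, 18046216902591740, 18048415657346300, 18052814240859388, 310788988774697212, 603516367215511804, 18061609259877628, 382872972165695740, 454930566203623676]⟩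

theorem ok3 : ClsOK (wd C0.w3) T3 := clsB_spec (c := c3) (by decide +kernel)

/-- the class 2 -/
def c2 : Cs := ⟨C0.w2, 2, 0, 52, [323, 10913, 31, 6254, 26575, 41514, 66766, 143307, 263979, 535657, 1049988, 2099176], [0, 0, 0, 0, 4, 0, 0, 0, 1, 0, 0, 0, 8, 2, 19, 34, 64, 131, 257, 514, 1025, 2049], [0, 0, 0, 0, 1772, 0, 0, 0, 0, 0, 0, 0, 1229, 0, 579, 3658, 2571, 1666, 2213, 3151, 3308, 3717],
   [⟨1, [323, 10913, 31, 6254, 26575, 41514, 66766, 143307, 263979, 535657, 1049988, 2099176], [0, 0, 0, 0, 4, 0, 0, 0, 1, 0, 0, 0, 8, 2, 19, 34, 64, 131, 257, 514, 1025, 2049], [0, 0, 0, 0, 1772, 0, 0, 0, 0, 0, 0, 0, 1229, 0, 579, 3658, 2571, 1666, 2213, 3151, 3308, 3717], 1, 0, 0, 0, -1⟩,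
    ⟨2, [2048, 1, 4096, 2, 8192, 4, 16384, 8, 32768, 16, 65536, 32, 131072, 64, 262144, 128, 524288, 256, 1048576, 512, 2097152, 1024], [2, 8, 32, 128, 512, 2048, 8192, 32768, 131072, 524288, 2097152, 1, 4, 16, 64, 256, 1024, 4096, 16384, 65536, 262144, 1048576], [0, 0, 0, 0, 0, 0, 0, 0, 0, 0, 0, 0, 0, 0, 0, 0, 0, 0, 0, 0, 0, 0], 11, 1, 0, 2, 23⟩],
   [36036425317196940, 18021477018338428, 18022026841277564, 36036425250104460, 36036425384289420, 18022576664216828, 18023126218654972, 18023675907409148, 18022026975462652, 18023676175779068, 18022026707092732, 18024775418971388, 310763699336005884, 18029723288552700, 603492726708766972, 310758751466424572, 90087317863220476, 162144911901148412]⟩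

theorem ok2 : ClsOK (wd C0.w2) T2 := clsB_spec (c := c2) (by decide +kernel)

end Cfsg.Agent.TAB.B.C2
end

-- part: TAB/B/C2/Main
section
prune_inst 0x7f00000000000000000000000000000000000000000000000000000000000000000000000000000000000000000000000000000000000000000000000000000000000000000000000000000000000000003fffffffffffffffffffffffffffbeffbdffffffff
set_option linter.all false
open scoped Cfsg.Agent.FastGrp

/-!
# The types of the elements of `C = 2^(1+22).Co2` in the Baby Monster, and 77 boxes (helper48)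
-/

set_option autoImplicit false

namespace Cfsg.Agent.TAB.B.C2

open Cfsg Cfsg.Agent.TAB.B.Geo Cfsg.Agent.TAB.Eng
open Cfsg.Agent.H633.Ore.Co2 (wd)
open Cfsg.Agent.Monster.PauliBasic (Pauli)
open Cfsg.Agent.BabyM Cfsg.Agent.BabyM.Conc Cfsg.Agent.BabyM.KTab
open Finset

set_option maxHeartbeats 400000

theorem wd_nil : wd [] = 1 := rfl

attribute [local irreducible] wd

theorem okCls : ∀ j < 56, 0 < j → ClsOK (wd (dd j).w) (TT.getD j []) := by
  intro j hj h0
  interval_cases j
  exacts [ok1, ok2, ok3, ok4, ok5, ok6, ok7, ok8, ok9, ok10, ok11, ok12, ok13, ok14, ok15, ok16, ok17, ok18, ok19, ok20, ok21, ok22, ok23, ok24, ok25, ok26, ok27, ok28, ok29, ok30, ok31, ok32, ok33, ok34, ok35, ok36, ok37, ok38, ok39, ok40, ok41, ok42, ok43, ok44, ok45, ok46, ok47, ok48, ok49, ok50, ok51, ok52, ok53, ok54, ok55]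

theorem okLow (j : ℕ) (hj : j < 56) : Low0 (wd (dd j).w) (TT.getD j []) := by
  rcases Nat.eq_zero_or_pos j with rfl | h
  · exact wd_nil ▸ low0
  · exact (okCls j hj h).low0

theorem Has0.conj {g : C} {r : Row} (h : Has0 g r) (k : C) : Has0 (k * g * k⁻¹) r := by
  refine ⟨((MulAut.conj k).orderOf_eq g).trans h.1, fun h1 => by rw [conj_pow, h.2.1 h1, z_comm], fun q hq => ?_⟩
  unfold Tr3
  rw [conj_pow]
  exact ⟨(tU_conj hC k.2 _).trans (h.2.2 q hq).1, (tX_conj hC k.2 _).trans (h.2.2 q hq).2.1,
    (tq_conj hC k.2 _).trans (h.2.2 q hq).2.2⟩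

theorem Has0.inv {g : C} {r : Row} (h : Has0 g r) : Has0 g⁻¹ r := by
  refine ⟨(orderOf_inv g).trans h.1, fun h1 => ?_, fun q hq => ?_⟩
  · rw [inv_pow, h.2.1 h1, inv_eq_iff_mul_eq_one, ← map_mul, Monster.PauliBasic.Pauli.z_sq, map_one]
  · unfold Tr3
    rw [inv_pow]
    exact ⟨(tp_inv hC _ (g ^ q.1).2).trans (h.2.2 q hq).1, (tp_inv hC _ (g ^ q.1).2).trans (h.2.2 q hq).2.1,
      (tp_inv hC _ (g ^ q.1).2).trans (h.2.2 q hq).2.2⟩

/-- the number of the elements of `C` with a selected row -/
def cntS (sel : Row → Bool) : ℕ := ∑ j ∈ range 56, (dd j).q * tot sel (TT.getD j [])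

theorem cntS_le (sel : Row → Bool) : cntS sel ≤ Nat.card {g : C // ∃ r, sel r = true ∧ Has0 g r} :=
  dist (fun _ k h => h.imp fun _ h1 => ⟨h1.1, h1.2.conj k⟩) (fun _ h => h.imp fun _ h1 => ⟨h1.1, h1.2.inv⟩) _
    fun j hj => okLow j hj sel

/-! ### types -/

/-- the inclusion of `C` -/
noncomputable def toB : C →* BG := Subgroup.inclusion Instance.all.C_le_G

theorem toB_inj : Function.Injective toB := Subgroup.inclusion_injective _

theorem toB_comm (g : C) : toB g * zB = zB * toB g := comm_zB_iff.2 g.2

theorem exists_toB {x : BG} (h : x * zB = zB * x) : ∃ g, toB g = x := ⟨⟨x.1, comm_zB_iff.1 h⟩, rfl⟩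

theorem toB_z : toB (rq (Monster.PauliBasic.Pauli.z 11)) = zB := RB_z

theorem tr_toB (g : C) : tr (toB g) = tp Cd.isU g.1 + tp Cd.isX g.1 + tq g := trace_split Cd g.1

theorem card_toB (A : BG → Prop) : Nat.card {g : C // A (toB g)} = Nat.card {x : BG // Commute x zB ∧ A x} :=
  Nat.card_congr ⟨fun g => ⟨toB g, toB_comm g, g.2⟩, fun x => ⟨⟨x.1.1, comm_zB_iff.1 x.2.1⟩, x.2.2⟩, fun _ => rfl,
    fun _ => rfl⟩

/-- the row has the signature -/
def selS (s : ℕ × List (ℕ × ℤ)) (r : Row) : Bool :=
  Nat.beq r.1 s.1 && s.2.all fun p => r.2.2.1.any fun q => Nat.beq q.1 p.1 && decide (q.2.1 + q.2.2.1 + q.2.2.2 = p.2)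

/-- the row has the type `i` -/
def selT (i : ℕ) : Row → Bool := selS (Eng.sg dat val i)

theorem ty_of_has0 {g : C} {r : Row} {i : ℕ} (h : Has0 g r) (hs : selT i r = true) : TyB i (toB g) := by
  simp only [selT, selS, Bool.and_eq_true, Nat.beq_eq, List.all_eq_true, List.any_eq_true, decide_eq_true_eq] at hs
  refine (tyB_iff rfl _).2 ⟨(orderOf_injective toB toB_inj g).trans (h.1.trans hs.1), fun p hp => ?_⟩
  obtain ⟨q, hq, h1, h2⟩ := hs.2 p hp
  obtain ⟨h3, h4, h5⟩ := h.2.2 q hq
  rw [← map_pow, tr_toB, ← h1, h3, h4, h5, ← h2]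
  push_cast
  rfl

/-- all rows with their weights -/
noncomputable def fW : List (Row × ℕ) := (List.range 56).flatMap fun j => (TT.getD j []).map fun t => (t.1, (dd j).q * t.2)

theorem f_tot_append (sel : Row → Bool) (T T' : List (Row × ℕ)) : tot sel (T ++ T') = tot sel T + tot sel T' := by
  delta tot
  rw [List.map_append, List.sum_append]

theorem f_tot_map (sel : Row → Bool) (q : ℕ) : ∀ T : List (Row × ℕ), tot sel (T.map fun t => (t.1, q * t.2)) = q * tot sel T
  | [] => rfl
  | t :: T => by
    show (if sel t.1 = true then q * t.2 else 0) + tot sel (T.map fun t => (t.1, q * t.2)) =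
      q * ((if sel t.1 = true then t.2 else 0) + tot sel T)
    rw [f_tot_map sel q T, Nat.mul_add]
    cases sel t.1 <;> rfl

theorem f_cntS (sel : Row → Bool) : cntS sel = tot sel fW := by
  have h : ∀ n : ℕ, ∑ j ∈ range n, (dd j).q * tot sel (TT.getD j []) =
      tot sel ((List.range n).flatMap fun j => (TT.getD j []).map fun t => (t.1, (dd j).q * t.2)) := by
    intro n
    induction n with
    | zero => rfl
    | succ n ih => rw [sum_range_succ, ih, List.range_succ, List.flatMap_append, f_tot_append, List.flatMap_singleton, f_tot_map]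
  exact h 56

/-- the types, the weights and the flags of the rows -/
noncomputable def fH : List (ℕ × ℕ × Bool) :=
  [(1, 4600, false), (7, 953856, true), (4, 4098600, false), (8, 3238400, true), (2, 93150, false), (0, 1, false),
    (2, 1, true), (12, 220340736000, false), (10, 117515059200, false), (13, 117515059200, false),
    (8, 7344691200, false), (7, 7344691200, false), (4, 1967328000, false), (3, 1865318400, false),
    (10, 1865318400, true), (9, 1748736000, true), (2, 7286400, false), (4, 3643200, false), (1, 3643200, false),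
    (35, 60167710310400, true), (16, 42305421312000, false), (14, 42305421312000, false),
    (32, 30083855155200, true), (33, 30083855155200, true), (13, 10576355328000, false),
    (12, 10576355328000, false), (13, 3525451776000, false), (12, 3525451776000, false),
    (10, 3525451776000, false), (9, 3525451776000, false), (10, 117515059200, false), (4, 117515059200, false),
    (8, 58757529600, false), (13, 58757529600, true), (3, 58757529600, false), (8, 29378764800, false),
    (7, 29378764800, false), (13, 3525451776000, false), (14, 3525451776000, false), (10, 503635968000, false),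
    (11, 503635968000, false), (9, 220340736000, false), (12, 220340736000, false), (8, 55085184000, false),
    (4, 18361728000, false), (12, 14689382400, true), (7, 7869312000, false), (2, 262310400, false),
    (4, 262310400, false), (55, 475399192576000, true), (22, 237699596288000, false), (25, 23769959628800, true),
    (6, 23769959628800, false), (57, 534824091648000, true), (23, 481341682483200, false),
    (56, 481341682483200, true), (21, 300838551552000, false), (26, 300838551552000, false),
    (54, 89137348608000, true), (20, 89137348608000, false), (19, 2228433715200, false), (5, 1114216857600, false),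
    (21, 1114216857600, true), (35, 902515654656000, false), (33, 902515654656000, false),
    (36, 676886740992000, false), (31, 112814456832000, false), (34, 112814456832000, false),
    (14, 42305421312000, false), (12, 42305421312000, false), (16, 33844337049600, false),
    (10, 28203614208000, false), (13, 28203614208000, false), (11, 2820361420800, false),
    (12, 1410180710400, false), (7, 1410180710400, false), (39, 5415093927936000, false),
    (38, 676886740992000, true), (16, 676886740992000, false), (36, 225628913664000, true),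
    (14, 169221685248000, false), (14, 28203614208000, false), (9, 14101807104000, false),
    (12, 14101807104000, false), (43, 86641502846976000, false), (44, 86641502846976000, false),
    (39, 43320751423488000, false), (42, 43320751423488000, false), (15, 4332075142348800, false),
    (35, 4332075142348800, false), (42, 4332075142348800, true), (32, 2166037571174400, false),
    (33, 2166037571174400, false), (43, 21660375711744000, false), (38, 5415093927936000, false),
    (36, 5415093927936000, false), (39, 5415093927936000, false), (41, 3610062618624000, false),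
    (37, 3610062618624000, false), (35, 2707546963968000, false), (33, 1353773481984000, false),
    (32, 1353773481984000, false), (16, 1353773481984000, false), (14, 1353773481984000, false),
    (32, 902515654656000, false), (35, 902515654656000, false), (33, 902515654656000, false),
    (35, 902515654656000, false), (12, 225628913664000, false), (14, 225628913664000, false),
    (13, 225628913664000, false), (13, 112814456832000, false), (10, 112814456832000, false),
    (41, 21660375711744000, false), (43, 10830187855872000, false), (40, 10830187855872000, false),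
    (35, 2707546963968000, false), (38, 2707546963968000, false), (34, 2707546963968000, false),
    (39, 1805031309312000, true), (32, 1353773481984000, false), (33, 1353773481984000, false),
    (14, 676886740992000, false), (13, 676886740992000, false), (16, 225628913664000, false),
    (11, 112814456832000, false), (14, 112814456832000, false), (38, 1353773481984000, false),
    (32, 902515654656000, false), (35, 902515654656000, false), (36, 676886740992000, false),
    (34, 676886740992000, false), (13, 84610842624000, false), (16, 56407228416000, false),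
    (12, 42305421312000, false), (14, 42305421312000, false), (9, 28203614208000, false),
    (14, 28203614208000, false), (10, 9401204736000, false), (11, 4700602368000, false), (8, 2350301184000, false),
    (12, 2350301184000, false), (14, 56407228416000, false), (34, 56407228416000, true), (31, 895352832000, true),
    (11, 447676416000, false), (8, 223838208000, false), (9, 223838208000, false), (97, 88720898915303424, true),
    (50, 14786816485883904, true), (18, 14786816485883904, false), (48, 138626404555161600, false),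
    (99, 138626404555161600, true), (98, 110901123644129280, true), (51, 92417603036774400, false),
    (47, 92417603036774400, false), (96, 9241760303677440, true), (17, 4620880151838720, false),
    (48, 4620880151838720, true), (62, 28880500948992000, false), (65, 19253667299328000, false),
    (58, 19253667299328000, false), (26, 7220125237248000, false), (24, 6417889099776000, false),
    (61, 6417889099776000, true), (60, 4813416824832000, true), (54, 4813416824832000, false),
    (56, 4813416824832000, false), (21, 401118068736000, false), (26, 200559034368000, false),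
    (19, 200559034368000, false), (112, 154029338394624000, true), (110, 154029338394624000, true),
    (114, 154029338394624000, true), (113, 154029338394624000, true), (62, 115522003795968000, false),
    (65, 115522003795968000, false), (61, 115522003795968000, false), (60, 115522003795968000, false),
    (58, 19253667299328000, false), (61, 19253667299328000, false), (57, 19253667299328000, false),
    (65, 19253667299328000, true), (23, 19253667299328000, false), (26, 19253667299328000, false),
    (24, 19253667299328000, false), (56, 9626833649664000, false), (54, 9626833649664000, false),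
    (66, 25671556399104000, true), (29, 17114370932736000, false), (64, 17114370932736000, true),
    (25, 4278592733184000, false), (28, 2139296366592000, false), (22, 2139296366592000, false),
    (69, 115522003795968000, false), (63, 115522003795968000, false), (65, 115522003795968000, false),
    (61, 115522003795968000, false), (62, 28880500948992000, false), (60, 28880500948992000, false),
    (56, 28880500948992000, false), (57, 28880500948992000, false), (23, 9626833649664000, false),
    (26, 9626833649664000, false), (62, 9626833649664000, true), (21, 4813416824832000, false),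
    (26, 4813416824832000, false), (65, 19253667299328000, false), (56, 19253667299328000, false),
    (57, 19253667299328000, false), (61, 19253667299328000, false), (58, 1283577819955200, true),
    (24, 1283577819955200, false), (21, 1283577819955200, false), (20, 641788909977600, false),
    (23, 641788909977600, false), (68, 38507334598656000, true), (28, 19253667299328000, false),
    (27, 1925366729932800, false), (25, 1925366729932800, false), (76, 1584301766344704000, false),
    (78, 1584301766344704000, false), (130, 1584301766344704000, true), (128, 792150883172352000, true),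
    (79, 396075441586176000, false), (30, 198037720793088000, false), (78, 198037720793088000, true),
    (83, 173283005693952000, false), (86, 173283005693952000, false), (36, 21660375711744000, false),
    (41, 21660375711744000, false), (43, 21660375711744000, false), (33, 21660375711744000, false),
    (37, 7220125237248000, false), (40, 7220125237248000, false), (39, 7220125237248000, false),
    (36, 3610062618624000, false), (31, 3610062618624000, false), (44, 346566011387904000, false),
    (85, 173283005693952000, true), (43, 86641502846976000, false), (43, 43320751423488000, false),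
    (38, 21660375711744000, false), (36, 21660375711744000, false), (86, 173283005693952000, true),
    (43, 173283005693952000, false), (83, 28880500948992000, true), (41, 28880500948992000, false),
    (82, 28880500948992000, true), (35, 14440250474496000, false), (33, 14440250474496000, false),
    (87, 1386264045551616000, false), (88, 1386264045551616000, false), (84, 693132022775808000, false),
    (86, 693132022775808000, false), (42, 346566011387904000, false), (41, 346566011387904000, false),
    (44, 346566011387904000, false), (40, 173283005693952000, false), (43, 173283005693952000, false),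
    (85, 346566011387904000, false), (84, 346566011387904000, false), (82, 173283005693952000, false),
    (86, 173283005693952000, false), (38, 43320751423488000, false), (35, 43320751423488000, false),
    (43, 43320751423488000, false), (41, 43320751423488000, false), (36, 21660375711744000, false),
    (32, 21660375711744000, false), (39, 21660375711744000, false), (43, 21660375711744000, false),
    (40, 21660375711744000, false), (37, 21660375711744000, false), (41, 21660375711744000, false),
    (34, 10830187855872000, false), (36, 10830187855872000, false), (84, 519849017081856000, true),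
    (43, 86641502846976000, false), (40, 43320751423488000, false), (34, 21660375711744000, false),
    (38, 21660375711744000, false), (90, 3285959219085312000, false), (147, 1642979609542656000, true),
    (46, 821489804771328000, false), (91, 821489804771328000, true), (154, 2218022472882585600, true),
    (100, 1109011236441292800, false), (51, 1109011236441292800, false), (152, 1109011236441292800, true),
    (153, 1109011236441292800, true), (99, 554505618220646400, false), (101, 554505618220646400, true),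
    (49, 554505618220646400, false), (99, 277252809110323200, false), (96, 277252809110323200, false),
    (101, 1109011236441292800, false), (100, 1109011236441292800, false), (98, 1109011236441292800, false),
    (99, 1109011236441292800, false), (48, 369670412147097600, false), (49, 369670412147097600, false),
    (100, 369670412147097600, true), (47, 184835206073548800, false), (51, 184835206073548800, false),
    (104, 2218022472882585600, true), (52, 369670412147097600, false), (50, 369670412147097600, false),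
    (160, 8065536265027584000, true), (108, 8065536265027584000, false), (107, 8065536265027584000, false),
    (53, 4032768132513792000, false), (108, 4032768132513792000, true), (114, 462088015183872000, false),
    (113, 462088015183872000, false), (58, 77014669197312000, false), (61, 77014669197312000, false),
    (63, 77014669197312000, false), (62, 38507334598656000, false), (54, 38507334598656000, false),
    (115, 205372451192832000, true), (67, 102686225596416000, false), (66, 51343112798208000, false),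
    (55, 51343112798208000, false), (118, 1848352060735488000, false), (121, 1848352060735488000, false),
    (65, 462088015183872000, false), (69, 462088015183872000, false), (62, 462088015183872000, false),
    (114, 462088015183872000, false), (112, 462088015183872000, false), (110, 462088015183872000, false),
    (113, 462088015183872000, false), (65, 231044007591936000, false), (58, 231044007591936000, false),
    (123, 3696704121470976000, true), (71, 1848352060735488000, false), (72, 924176030367744000, false),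
    (67, 924176030367744000, false), (71, 462088015183872000, false), (66, 231044007591936000, false),
    (70, 231044007591936000, false), (64, 154029338394624000, false), (59, 77014669197312000, false),
    (68, 38507334598656000, false), (55, 38507334598656000, false), (116, 462088015183872000, true),
    (69, 462088015183872000, false), (111, 154029338394624000, true), (63, 77014669197312000, false),
    (57, 38507334598656000, false), (60, 38507334598656000, false), (111, 924176030367744000, false),
    (116, 924176030367744000, false), (110, 462088015183872000, false), (112, 462088015183872000, false),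
    (65, 231044007591936000, false), (63, 231044007591936000, false), (61, 231044007591936000, false),
    (56, 115522003795968000, false), (62, 115522003795968000, false), (120, 1848352060735488000, true),
    (72, 924176030367744000, false), (68, 462088015183872000, false), (66, 462088015183872000, false),
    (79, 1584301766344704000, false), (77, 1584301766344704000, false), (131, 1584301766344704000, true),
    (129, 792150883172352000, true), (78, 396075441586176000, false), (79, 198037720793088000, false),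
    (75, 198037720793088000, false), (131, 6337207065378816000, false), (130, 6337207065378816000, false),
    (132, 6337207065378816000, false), (78, 3168603532689408000, false), (79, 3168603532689408000, false),
    (136, 2957363297176780800, false), (134, 2957363297176780800, false), (168, 2957363297176780800, true),
    (80, 1478681648588390400, false), (137, 1478681648588390400, true), (81, 11829453188707123200, false),
    (139, 11829453188707123200, true), (142, 5545056182206464000, true), (88, 2772528091103232000, false),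
    (86, 1386264045551616000, false), (83, 1386264045551616000, false), (141, 5545056182206464000, true),
    (87, 2772528091103232000, false), (84, 1386264045551616000, false), (85, 1386264045551616000, false),
    (148, 4928938828627968000, true), (94, 4928938828627968000, false), (91, 4928938828627968000, false),
    (90, 2464469414313984000, false), (92, 2464469414313984000, false), (103, 4436044945765171200, false),
    (154, 4436044945765171200, false), (155, 4436044945765171200, true), (152, 2218022472882585600, false),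
    (153, 2218022472882585600, false), (105, 8872089891530342400, false), (102, 4436044945765171200, false),
    (104, 2218022472882585600, false), (97, 2218022472882585600, false), (109, 15429721550487552000, false),
    (161, 15429721550487552000, true), (164, 3696704121470976000, true), (121, 3696704121470976000, false),
    (163, 3696704121470976000, true), (112, 1848352060735488000, false), (114, 1848352060735488000, false),
    (117, 3696704121470976000, false), (119, 3696704121470976000, false), (123, 3696704121470976000, false),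
    (120, 1848352060735488000, false), (115, 1848352060735488000, false), (167, 6337207065378816000, true),
    (132, 3168603532689408000, false), (128, 1584301766344704000, false), (129, 1584301766344704000, false),
    (169, 2957363297176780800, true), (137, 2957363297176780800, false), (135, 2957363297176780800, false),
    (136, 1478681648588390400, false), (133, 1478681648588390400, false), (139, 11829453188707123200, false),
    (138, 11829453188707123200, false)]

/-- the hints are right -/
noncomputable def fOk (H : List (ℕ × ℕ × Bool)) : List (Row × ℕ) → Bool :=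
  List.rec (fun _ => true) (fun e _ ih T => List.rec false (fun t T' _ => Prod.rec (fun a x =>
    (selT a t.1 && Nat.beq t.2 x.1 && (t.1.2.1 == x.2)) && ih T') e) T) H

/-- the sum of the weights of type `i` -/
noncomputable def fSum (i : ℕ) (p : Bool → Bool) (H : List (ℕ × ℕ × Bool)) : ℕ :=
  List.rec 0 (fun e _ r => Prod.rec (fun a x => Bool.rec r (Bool.rec r (Nat.add x.1 r) (p x.2)) (Nat.beq a i)) e) H

theorem fSum_le (i : ℕ) (p : Bool → Bool) : ∀ (H : List (ℕ × ℕ × Bool)) (T : List (Row × ℕ)), fOk H T = true →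
    fSum i p H ≤ tot (fun r => selT i r && p r.2.1) T
  | [], _, _ => Nat.zero_le _
  | _ :: _, [], h => absurd h Bool.false_ne_true
  | (a, w, b) :: H, t :: T, h => by
    have h1 : ((selT a t.1 && Nat.beq t.2 w && (t.1.2.1 == b)) && fOk H T) = true := h
    rw [Bool.and_eq_true, Bool.and_eq_true, Bool.and_eq_true] at h1
    have ih := fSum_le i p H T h1.2
    show (Bool.rec (fSum i p H) (Bool.rec (fSum i p H) (w + fSum i p H) (p b)) (Nat.beq a i) : ℕ) ≤
      (if (selT i t.1 && p t.1.2.1) = true then t.2 else 0) + tot (fun r => selT i r && p r.2.1) T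
    cases h2 : Nat.beq a i
    · exact ih.trans (Nat.le_add_left _ _)
    · cases h3 : p b
      · exact ih.trans (Nat.le_add_left _ _)
      · obtain rfl := Nat.eq_of_beq_eq_true h2
        rw [h1.1.1.1, eq_of_beq h1.1.2, h3, Nat.eq_of_beq_eq_true h1.1.1.2]
        exact Nat.add_le_add_left ih w

private theorem _root_.Cfsg.Agent.KO71d13e8.e0.{ku, kv} {α : Type kv} {M : List α → Sort ku} (φ : ∀ l, M l) {z : M List.nil} {s : ∀ a l, M l → M (List.cons a l)} (h0 : φ List.nil = z) (hs : ∀ a l, φ (List.cons a l) = s a l (φ l)) (l : List α) : φ l = @List.rec α M z s l := List.rec h0 (fun a l ih => (hs a l).trans (congrArg (s a l) ih)) l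
private noncomputable def _root_.Cfsg.Agent.KO71d13e8.k1.{ku0} : type_of% @List.append.{ku0} := @(fun x0 x1 x2 => @List.rec.{(ku0+1), ku0} @x0 @(fun x3 => (@List.{ku0} @x0) → @List.{ku0} @x0) @(fun x3 => @x3) @(fun x3 x4 x5 x6 => @x3 :: (@x5 @x6)) @x1 @x2)
private theorem _root_.Cfsg.Agent.KO71d13e8.e1.{ku0} : @List.append.{ku0} = @_root_.Cfsg.Agent.KO71d13e8.k1.{ku0} := by delta _root_.Cfsg.Agent.KO71d13e8.k1; funext a0 a1 a2; refine (congrFun (_root_.Cfsg.Agent.KO71d13e8.e0 (fun a1 a2 => @List.append.{ku0} a0 a1 a2) ?_ (fun c0 c1 => ?_) a1) a2 :) <;> (rfl')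
private noncomputable def _root_.Cfsg.Agent.KO71d13e8.k2.{ku0} : type_of% @List.flatten.{ku0} := @(fun x0 x1 => @List.rec.{(ku0+1), ku0} (@List.{ku0} @x0) @(fun x2 => @List.{ku0} @x0) [] @(fun x2 x3 x4 => @Cfsg.Agent.KO71d13e8.k1.{ku0} _ @x2 @x4) @x1)
private theorem _root_.Cfsg.Agent.KO71d13e8.e2.{ku0} : @List.flatten.{ku0} = @_root_.Cfsg.Agent.KO71d13e8.k2.{ku0} := by delta _root_.Cfsg.Agent.KO71d13e8.k2; rewrite [← Cfsg.Agent.KO71d13e8.e1.{ku0}]; funext a0 a1; refine (_root_.Cfsg.Agent.KO71d13e8.e0 (fun a1 => @List.flatten.{ku0} a0 a1) ?_ (fun c0 c1 => ?_) a1 :) <;> (rfl')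
private noncomputable def _root_.Cfsg.Agent.KO71d13e8.k3.{ku0, ku1} : type_of% @List.map.{ku0, ku1} := @(fun x0 x1 x2 x3 => @List.rec.{(ku1+1), ku0} @x0 @(fun x4 => @List.{ku1} @x1) [] @(fun x4 x5 x6 => (@x2 @x4) :: @x6) @x3)
private theorem _root_.Cfsg.Agent.KO71d13e8.e3.{ku0, ku1} : @List.map.{ku0, ku1} = @_root_.Cfsg.Agent.KO71d13e8.k3.{ku0, ku1} := by delta _root_.Cfsg.Agent.KO71d13e8.k3; funext a0 a1 a2 a3; refine (_root_.Cfsg.Agent.KO71d13e8.e0 (fun a3 => @List.map.{ku0, ku1} a0 a1 a2 a3) ?_ (fun c0 c1 => ?_) a3 :) <;> (rfl')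
private noncomputable def _root_.Cfsg.Agent.KO71d13e8.k4.{ku0, ku1} : type_of% @List.flatMap.{ku0, ku1} := @(fun x0 x1 x2 x3 => @Cfsg.Agent.KO71d13e8.k2.{ku1} _ (@Cfsg.Agent.KO71d13e8.k3.{ku0, ku1} _ _ @x2 @x3))
private theorem _root_.Cfsg.Agent.KO71d13e8.e4.{ku0, ku1} : @List.flatMap.{ku0, ku1} = @_root_.Cfsg.Agent.KO71d13e8.k4.{ku0, ku1} := by delta _root_.Cfsg.Agent.KO71d13e8.k4; rewrite [← Cfsg.Agent.KO71d13e8.e3.{ku0, ku1}, ← Cfsg.Agent.KO71d13e8.e2.{ku1}]; rfl'
private noncomputable def _root_.Cfsg.Agent.KO71d13e8.k6.{ku0} : type_of% @List.get?Internal.{ku0} := @(fun x0 x1 x2 => @List.rec.{(ku0+1), ku0} @x0 @(fun x3 => ℕ → @Option.{ku0} @x0) @(fun x3 => @Option.none.{ku0} _) @(fun x3 x4 x5 x6 => @Nat.rec.{(ku0+1)} @(fun x7 => @Option.{ku0} @x0) (@Option.some.{ku0} _ @x3) @(fun x7 x8 => @x5 @x7) @x6) @x1 @x2)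
private theorem _root_.Cfsg.Agent.KO71d13e8.e6.{ku0} : @List.get?Internal.{ku0} = @_root_.Cfsg.Agent.KO71d13e8.k6.{ku0} := by delta _root_.Cfsg.Agent.KO71d13e8.k6; funext a0 a1 a2; refine (congrFun (_root_.Cfsg.Agent.KO71d13e8.e0 (fun a1 a2 => @List.get?Internal.{ku0} a0 a1 a2) ?_ (fun c0 c1 => ?_) a1) a2 :) <;> [(funext b0; (rfl')); (funext b0; (cases b0 with | @zero  => (rfl') | @succ b0_0 => (rfl')))]
private noncomputable def _root_.Cfsg.Agent.KO71d13e8.k7 : (by first | exact type_of% @Cfsg.Agent.TAB.B.C2.dd | exact Unit : Sort _) := by first | (refine @Subtype.val _ (fun g => @Cfsg.Agent.TAB.B.C2.dd = @g) (@Subtype.mk _ _ (@(fun x0 => @Option.rec.{1, 0} @Cfsg.Agent.H633.Ore.Co2.Dt @(fun x1 => @Cfsg.Agent.H633.Ore.Co2.Dt) (@Cfsg.Agent.H633.Ore.Co2.Dt.mk [] (nat_lit 0) ((nat_lit 0, (nat_lit 0, (nat_lit 0, (nat_lit 0, nat_lit 0)))))) @(fun x1 => @x1) (@Cfsg.Agent.KO71d13e8.k6.{0} _ @Cfsg.Agent.H633.Ore.Co2.data @x0))) ?_); rewrite [← Cfsg.Agent.KO71d13e8.e6.{0}]; (try delta Cfsg.Agent.TAB.B.C2.dd); (try generalize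 @Cfsg.Agent.H633.Ore.Co2.data = g0); rfl') | exact @Cfsg.Agent.TAB.B.C2.dd | exact ()
private theorem _root_.Cfsg.Agent.KO71d13e8.e7 : (by first | exact @Cfsg.Agent.TAB.B.C2.dd = @_root_.Cfsg.Agent.KO71d13e8.k7 | exact True : Prop) := by first | (delta _root_.Cfsg.Agent.KO71d13e8.k7; exact @Subtype.property _ (fun g => @Cfsg.Agent.TAB.B.C2.dd = @g) _) | rfl | trivial
private noncomputable def _root_.Cfsg.Agent.KO71d13e8.k8.{ku0} : type_of% @List.getD.{ku0} := @(fun x0 x1 x2 x3 => @Option.rec.{(ku0+1), ku0} @x0 @(fun x4 => @x0) @x3 @(fun x4 => @x4) (@Cfsg.Agent.KO71d13e8.k6.{ku0} _ @x1 @x2))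
private theorem _root_.Cfsg.Agent.KO71d13e8.e8.{ku0} : @List.getD.{ku0} = @_root_.Cfsg.Agent.KO71d13e8.k8.{ku0} := by delta _root_.Cfsg.Agent.KO71d13e8.k8; rewrite [← Cfsg.Agent.KO71d13e8.e6.{ku0}]; rfl'
private theorem _root_.Cfsg.Agent.KO71d13e8.e9.{ku} {M : Nat → Sort ku} (φ : ∀ n, M n) {z : M Nat.zero} {s : ∀ n, M n → M (Nat.succ n)} (h0 : φ Nat.zero = z) (hs : ∀ n, φ (Nat.succ n) = s n (φ n)) (n : Nat) : φ n = @Nat.rec M z s n := Nat.rec h0 (fun n ih => (hs n).trans (congrArg (s n) ih)) n
private noncomputable def _root_.Cfsg.Agent.KO71d13e8.k10 : type_of% @List.range.loop := @(fun x0 x1 => @Nat.rec.{1} @(fun x2 => (@List.{0} ℕ) → @List.{0} ℕ) @(fun x2 => @x2) @(fun x2 x3 x4 => @x3 (@x2 :: @x4)) @x0 @x1)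
private theorem _root_.Cfsg.Agent.KO71d13e8.e10 : @List.range.loop = @_root_.Cfsg.Agent.KO71d13e8.k10 := by delta _root_.Cfsg.Agent.KO71d13e8.k10; funext a0 a1; refine (congrFun (_root_.Cfsg.Agent.KO71d13e8.e9 (fun a0 a1 => @List.range.loop a0 a1) ?_ (fun c0 => ?_) a0) a1 :) <;> (rfl')
private noncomputable def _root_.Cfsg.Agent.KO71d13e8.k11 : type_of% @List.range := @(fun x0 => @Cfsg.Agent.KO71d13e8.k10 @x0 [])
private theorem _root_.Cfsg.Agent.KO71d13e8.e11 : @List.range = @_root_.Cfsg.Agent.KO71d13e8.k11 := by delta _root_.Cfsg.Agent.KO71d13e8.k11; rewrite [← Cfsg.Agent.KO71d13e8.e10]; rfl'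
private noncomputable def _root_.Cfsg.Agent.KO71d13e8.k12 : type_of% @Bool.decEq := @(fun x0 x1 => @Bool.rec.{1} @(fun x2 => @Decidable (@Eq.{1} _ @x2 @x1)) (@Bool.rec.{1} @(fun x2 => @Decidable (@Eq.{1} _ @Bool.false @x2)) (@Decidable.isTrue _ (@rfl.{1} _ _)) (@Decidable.isFalse _ @(fun x2 => @Bool.noConfusion.{0} _ _ _ @x2)) @x1) (@Bool.rec.{1} @(fun x2 => @Decidable (@Eq.{1} _ @Bool.true @x2)) (@Decidable.isFalse _ @(fun x2 => @Bool.noConfusion.{0} _ _ _ @x2)) (@Decidable.isTrue _ (@rfl.{1} _ _)) @x1) @x0)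
private theorem _root_.Cfsg.Agent.KO71d13e8.e12 : @Bool.decEq = @_root_.Cfsg.Agent.KO71d13e8.k12 := by delta _root_.Cfsg.Agent.KO71d13e8.k12; rfl'
private noncomputable def _root_.Cfsg.Agent.KO71d13e8.k13.{ku0} : type_of% @List.all.{ku0} := @(fun x0 x1 x2 => @List.rec.{(ku0+1), ku0} @x0 @(fun x3 => (@x0 → @Bool) → @Bool) @(fun x3 => @Bool.true) @(fun x3 x4 x5 x6 => @Bool.rec.{1} @(fun x7 => @Bool) @Bool.false (@x5 @x6) (@x6 @x3)) @x1 @x2)
private theorem _root_.Cfsg.Agent.KO71d13e8.e13.{ku0} : @List.all.{ku0} = @_root_.Cfsg.Agent.KO71d13e8.k13.{ku0} := by delta _root_.Cfsg.Agent.KO71d13e8.k13; funext a0 a1 a2; refine (congrFun (_root_.Cfsg.Agent.KO71d13e8.e0 (fun a1 a2 => @List.all.{ku0} a0 a1 a2) ?_ (fun c0 c1 => ?_) a1) a2 :) <;> (rfl')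
private noncomputable def _root_.Cfsg.Agent.KO71d13e8.k14.{ku0} : type_of% @List.any.{ku0} := @(fun x0 x1 x2 => @List.rec.{(ku0+1), ku0} @x0 @(fun x3 => (@x0 → @Bool) → @Bool) @(fun x3 => @Bool.false) @(fun x3 x4 x5 x6 => @Bool.rec.{1} @(fun x7 => @Bool) (@x5 @x6) @Bool.true (@x6 @x3)) @x1 @x2)
private theorem _root_.Cfsg.Agent.KO71d13e8.e14.{ku0} : @List.any.{ku0} = @_root_.Cfsg.Agent.KO71d13e8.k14.{ku0} := by delta _root_.Cfsg.Agent.KO71d13e8.k14; funext a0 a1 a2; refine (congrFun (_root_.Cfsg.Agent.KO71d13e8.e0 (fun a1 a2 => @List.any.{ku0} a0 a1 a2) ?_ (fun c0 c1 => ?_) a1) a2 :) <;> (rfl')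
private noncomputable def _root_.Cfsg.Agent.KO71d13e8.k15 : type_of% @Nat.decEq := @(fun x0 x1 => @Bool.rec.{1} @(fun x2 => (@Eq.{1} _ (@Nat.beq @x0 @x1) @x2) → @Decidable (@Eq.{1} _ @x0 @x1)) @(fun x2 => @Decidable.isFalse _ (@Nat.ne_of_beq_eq_false _ _ @x2)) @(fun x2 => @Decidable.isTrue _ (@Nat.eq_of_beq_eq_true _ _ @x2)) (@Nat.beq @x0 @x1) (@Eq.refl.{1} _ (@Nat.beq @x0 @x1)))
private theorem _root_.Cfsg.Agent.KO71d13e8.e15 : @Nat.decEq = @_root_.Cfsg.Agent.KO71d13e8.k15 := by delta _root_.Cfsg.Agent.KO71d13e8.k15; rfl'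
private noncomputable def _root_.Cfsg.Agent.KO71d13e8.k16 : type_of% @Int.decEq := @(fun x0 x1 => @Int.rec.{1} @(fun x2 => @Decidable (@Eq.{1} _ @x2 @x1)) @(fun x2 => @Int.rec.{1} @(fun x3 => @Decidable (@Eq.{1} _ (@Int.ofNat @x2) @x3)) @(fun x3 => @Decidable.rec.{1} _ @(fun x4 => @Decidable (@Eq.{1} _ (@Int.ofNat @x2) (@Int.ofNat @x3))) @(fun x4 => @Decidable.isFalse _ (@Int.decEq._proof_2 @x2 @x3 @x4)) @(fun x4 => @Decidable.isTrue _ (@Int.decEq._proof_1 @x2 @x3 @x4)) (@Cfsg.Agent.KO71d13e8.k15 @x2 @x3)) @(fun x3 => @Decidable.isFalse _ (@Int.decEq._proof_3 @x2 @x3)) @x1) @(fun x2 => @Int.rec.{1} @(fun x3 => @Decidable (@Eq.{1} _ (@Int.negSucc @x2) @x3)) @(fun x3 => @Decidable.isFalse _ (@Int.decEq._proof_4 @x2 @x3)) @(fun x3 => @Decidable.rec.{1} _ @(fun x4 => @Decidable (@Eq.{1} _ (@Int.negSucc @x2) (@Int.negSucc @x3))) @(fun x4 => @Decidable.isFalse _ (@Int.decEq._proof_6 @x2 @x3 @x4)) @(fun x4 => @Decidable.isTrue _ (@Int.decEq._proof_5 @x2 @x3 @x4)) (@Cfsg.Agent.KO71d13e8.k15 @x2 @x3)) @x1) @x0)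
private theorem _root_.Cfsg.Agent.KO71d13e8.e16 : @Int.decEq = @_root_.Cfsg.Agent.KO71d13e8.k16 := by delta _root_.Cfsg.Agent.KO71d13e8.k16; rewrite [← Cfsg.Agent.KO71d13e8.e15]; rfl'
private noncomputable def _root_.Cfsg.Agent.KO71d13e8.k18 : (by first | exact type_of% @Cfsg.Agent.TAB.B.C2.selS | exact Unit : Sort _) := by first | (refine @Subtype.val _ (fun g => @Cfsg.Agent.TAB.B.C2.selS = @g) (@Subtype.mk _ _ (@(fun x0 x1 => @Bool.rec.{1} @(fun x2 => @Bool) @Bool.false (@Cfsg.Agent.KO71d13e8.k13.{0} _ (@Prod.snd.{0, 0} _ _ @x0) @(fun x2 => @Cfsg.Agent.KO71d13e8.k14.{0} _ (@Prod.fst.{0, 0} _ _ (@Prod.snd.{0, 0} _ _ (@Prod.snd.{0, 0} _ _ @x1))) @(fun x3 => @Bool.rec.{1} @(fun x4 => @Bool) @Bool.false (@Decidable.rec.{1} _ @(fun x4 => @Bool) @(fun x4 => @Bool.false) @(fun x4 => @Bool.true) (@Cfsg.Agent.KO71d13e8.k16 (@Int.add (@Int.add (@Prod.fst.{0, 0} _ _ (@Prod.snd.{0, 0} _ _ @x3)) (@Prod.fst.{0, 0} _ _ (@Prod.snd.{0, 0} _ _ (@Prod.snd.{0, 0} _ _ @x3)))) (@Prod.snd.{0, 0} _ _ (@Prod.snd.{0, 0} _ _ (@Prod.snd.{0,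 0} _ _ @x3)))) (@Prod.snd.{0, 0} _ _ @x2))) (@Nat.beq (@Prod.fst.{0, 0} _ _ @x3) (@Prod.fst.{0, 0} _ _ @x2))))) (@Nat.beq (@Prod.fst.{0, 0} _ _ @x1) (@Prod.fst.{0, 0} _ _ @x0)))) ?_); rewrite [← Cfsg.Agent.KO71d13e8.e16, ← Cfsg.Agent.KO71d13e8.e14.{0}, ← Cfsg.Agent.KO71d13e8.e13.{0}]; rfl') | exact @Cfsg.Agent.TAB.B.C2.selS | exact ()
private theorem _root_.Cfsg.Agent.KO71d13e8.e18 : (by first | exact @Cfsg.Agent.TAB.B.C2.selS = @_root_.Cfsg.Agent.KO71d13e8.k18 | exact True : Prop) := by first | (delta _root_.Cfsg.Agent.KO71d13e8.k18; exact @Subtype.property _ (fun g => @Cfsg.Agent.TAB.B.C2.selS = @g) _) | rfl | trivial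
private noncomputable def _root_.Cfsg.Agent.KO71d13e8.k19.{ku0} : (by first | exact type_of% @Cfsg.Agent.TAB.Eng.sg.{ku0} | exact Unit : Sort _) := by first | (refine @Subtype.val _ (fun g => @Cfsg.Agent.TAB.Eng.sg.{ku0} = @g) (@Subtype.mk _ _ (@(fun x0 x1 x2 x3 => (@Option.rec.{1, 0} ℕ @(fun x4 => ℕ) (nat_lit 0) @(fun x4 => @x4) (@Cfsg.Agent.KO71d13e8.k6.{0} _ (@Cfsg.Agent.TAB.Eng.Dat.ordL @x1) @x3), @Cfsg.Agent.KO71d13e8.k3.{0, ku0} _ _ @(fun x4 => (@Prod.fst.{0, 0} _ _ @x4, @x2 (@Prod.snd.{0, 0} _ _ @x4))) (@Option.rec.{1, 0} (@List.{0} (ℕ × ℕ)) @(fun x4 => @List.{0} (ℕ × ℕ)) [] @(fun x4 => @x4) (@Cfsg.Agent.KO71d13e8.k6.{0} _ (@Cfsg.Agent.TAB.Eng.Dat.pwL @x1) @x3))))) ?_); rewrite [← Cfsg.Agent.KO71d13e8.e3.{0, ku0}, ← Cfsg.Agent.KO71d13e8.e6.{0}]; rfl') | exact @Cfsg.Agent.TAB.Eng.sg.{ku0} | exact ()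
private theorem _root_.Cfsg.Agent.KO71d13e8.e19.{ku0} : (by first | exact @Cfsg.Agent.TAB.Eng.sg.{ku0} = @_root_.Cfsg.Agent.KO71d13e8.k19.{ku0} | exact True : Prop) := by first | (delta _root_.Cfsg.Agent.KO71d13e8.k19; exact @Subtype.property _ (fun g => @Cfsg.Agent.TAB.Eng.sg.{ku0} = @g) _) | rfl | trivial
private noncomputable def _root_.Cfsg.Agent.KO71d13e8.k20 : (by first | exact type_of% @Cfsg.Agent.TAB.B.val | exact Unit : Sort _) := by first | (refine @Subtype.val _ (fun g => @Cfsg.Agent.TAB.B.val = @g) (@Subtype.mk _ _ (@(fun x0 => @Option.rec.{1, 0} ℤ @(fun x1 => ℤ) (@Int.ofNat (nat_lit 0)) @(fun x1 => @x1) (@Cfsg.Agent.KO71d13e8.k6.{0} _ @Cfsg.Agent.TAB.B.valL @x0))) ?_); rewrite [← Cfsg.Agent.KO71d13e8.e6.{0}]; (try delta Cfsg.Agent.TAB.B.val); (try generalize @Cfsg.Agent.TAB.B.valL = g0); rfl') | exact @Cfsg.Agent.TAB.B.val | exact ()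
private theorem _root_.Cfsg.Agent.KO71d13e8.e20 : (by first | exact @Cfsg.Agent.TAB.B.val = @_root_.Cfsg.Agent.KO71d13e8.k20 | exact True : Prop) := by first | (delta _root_.Cfsg.Agent.KO71d13e8.k20; exact @Subtype.property _ (fun g => @Cfsg.Agent.TAB.B.val = @g) _) | rfl | trivial
private noncomputable def _root_.Cfsg.Agent.KO71d13e8.k21 : (by first | exact type_of% @Cfsg.Agent.TAB.B.C2.fOk | exact Unit : Sort _) := by first | (refine @Subtype.val _ (fun g => @Cfsg.Agent.TAB.B.C2.fOk = @g) (@Subtype.mk _ _ (@(fun x0 => @List.rec.{1, 0} (ℕ × (ℕ × @Bool)) @(fun x1 => (@List.{0} (@Cfsg.Agent.TAB.B.C2.Row × ℕ)) → @Bool) @(fun x1 => @Bool.true) @(fun x1 x2 x3 x4 => @List.rec.{1, 0} (@Cfsg.Agent.TAB.B.C2.Row × ℕ) @(fun x5 => @Bool) @Bool.false @(fun x5 x6 x7 => @Prod.rec.{1, 0, 0} ℕ (ℕ × @Bool) @(fun x8 => @Bool) @(fun x8 x9 => @Bool.rec.{1} @(fun x10 => @Bool) @Bool.false (@x3 @x6) (@Bool.rec.{1} @(fun x10 => @Bool) @Bool.false (@Decidable.rec.{1} _ @(fun x10 => @Bool) @(fun x10 => @Bool.false) @(fun x10 => @Bool.true)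 (@Cfsg.Agent.KO71d13e8.k12 (@Prod.fst.{0, 0} _ _ (@Prod.snd.{0, 0} _ _ (@Prod.fst.{0, 0} _ _ @x5))) (@Prod.snd.{0, 0} _ _ @x9))) (@Bool.rec.{1} @(fun x10 => @Bool) @Bool.false (@Nat.beq (@Prod.snd.{0, 0} _ _ @x5) (@Prod.fst.{0, 0} _ _ @x9)) (@Cfsg.Agent.KO71d13e8.k18 (@Cfsg.Agent.KO71d13e8.k19.{0} _ @Cfsg.Agent.TAB.B.dat @Cfsg.Agent.KO71d13e8.k20 @x8) (@Prod.fst.{0, 0} _ _ @x5))))) @x1) @x4) @x0)) ?_); rewrite [← Cfsg.Agent.KO71d13e8.e20, ← Cfsg.Agent.KO71d13e8.e19.{0}, ← Cfsg.Agent.KO71d13e8.e18, ← Cfsg.Agent.KO71d13e8.e12]; (try delta Cfsg.Agent.TAB.B.C2.fOk Cfsg.Agent.TAB.B.C2.selT); (try generalize @Cfsg.Agent.TAB.B.C2.selS = g0); (try generalize @Cfsg.Agent.TAB.Eng.sg.{0} = g1); (try generalize @Cfsg.Agent.TAB.B.dat = g2); (try generalize @Cfsg.Agent.TAB.B.val = g3); rfl') | exact @Cfsg.Agent.TAB.B.C2.fOk | exact ()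
private theorem _root_.Cfsg.Agent.KO71d13e8.e21 : (by first | exact @Cfsg.Agent.TAB.B.C2.fOk = @_root_.Cfsg.Agent.KO71d13e8.k21 | exact True : Prop) := by first | (delta _root_.Cfsg.Agent.KO71d13e8.k21; exact @Subtype.property _ (fun g => @Cfsg.Agent.TAB.B.C2.fOk = @g) _) | rfl | trivial

theorem fOk_W : fOk fH fW = true := by (first | (delta Cfsg.Agent.TAB.B.C2.fW; rewrite [Cfsg.Agent.KO71d13e8.e21, Cfsg.Agent.KO71d13e8.e4.{0, 0}, Cfsg.Agent.KO71d13e8.e3.{0, 0}, Cfsg.Agent.KO71d13e8.e7, Cfsg.Agent.KO71d13e8.e8.{0}, Cfsg.Agent.KO71d13e8.e11]; decide +kernel) | decide +kernel)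

theorem nC_ok : ((List.range 173).all fun i => Nat.ble (Fin.nC i) (cntS (selT i))) = true := by
  have h : ((List.range 173).all fun i => Nat.ble (Fin.nC i) (fSum i (fun _ => true) fH)) = true := by decide +kernel
  refine List.all_eq_true.2 fun i hi => Nat.ble_eq_true_of_le ((Nat.le_of_ble_eq_true (List.all_eq_true.1 h i hi)).trans ?_)
  have h1 := fSum_le i (fun _ => true) fH fW fOk_W
  simp only [Bool.and_true] at h1
  rw [f_cntS]
  exact h1

theorem nC_le {i : ℕ} (hi : i < 173) : Fin.nC i ≤ Nat.card {g : C // TyB i (toB g)} :=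
  have := finite_C
  (Nat.le_of_ble_eq_true (List.all_eq_true.1 nC_ok i (List.mem_range.2 hi))).trans
    ((cntS_le _).trans (card_mono fun _ h => h.elim fun _ h1 => ty_of_has0 h1.2 h1.1))

theorem card_C : Nat.card C = 2 ^ 23 * 42305421312000 := by
  rw [← card_cent_zB]
  exact Nat.card_congr ⟨fun g => ⟨toB g, Subgroup.mem_centralizer_singleton_iff.2 (toB_comm g)⟩,
    fun x => ⟨x.1.1, comm_zB_iff.1 (Subgroup.mem_centralizer_singleton_iff.1 x.2)⟩, fun _ => rfl, fun _ => rfl⟩

private noncomputable def _root_.Cfsg.Agent.KO71d13e8.k22 : (by first | exact type_of% @Cfsg.Agent.TAB.B.Fin.nC | exact Unit : Sort _) := by first | (refine @Subtype.val _ (fun g => @Cfsg.Agent.TAB.B.Fin.nC = @g) (@Subtype.mk _ _ (@(fun x0 => @Option.rec.{1, 0} ℕ @(fun x1 => ℕ) (nat_lit 0) @(fun x1 => @x1) (@Cfsg.Agent.KO71d13e8.k6.{0} _ @Cfsg.Agent.TAB.B.Fin.nCL @x0))) ?_); rewrite [← Cfsg.Agent.KO71d13e8.e6.{0}]; (try delta Cfsg.Agent.TAB.B.Fin.nC); (try generalize @Cfsg.Agent.TAB.B.Fin.nCL = g0); rfl') | exact @Cfsg.Agent.TAB.B.Fin.nC |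 exact ()
private theorem _root_.Cfsg.Agent.KO71d13e8.e22 : (by first | exact @Cfsg.Agent.TAB.B.Fin.nC = @_root_.Cfsg.Agent.KO71d13e8.k22 | exact True : Prop) := by first | (delta _root_.Cfsg.Agent.KO71d13e8.k22; exact @Subtype.property _ (fun g => @Cfsg.Agent.TAB.B.Fin.nC = @g) _) | rfl | trivial
private noncomputable def _root_.Cfsg.Agent.KO71d13e8.k24 : type_of% @Decidable.decide := @(fun x0 x1 => @Decidable.rec.{1} _ @(fun x2 => @Bool) @(fun x2 => @Bool.false) @(fun x2 => @Bool.true) @x1)
private theorem _root_.Cfsg.Agent.KO71d13e8.e24 : @Decidable.decide = @_root_.Cfsg.Agent.KO71d13e8.k24 := by delta _root_.Cfsg.Agent.KO71d13e8.k24; rfl'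
private noncomputable def _root_.Cfsg.Agent.KO71d13e8.k25 : type_of% @instDecidableEqNat := @Cfsg.Agent.KO71d13e8.k15
private theorem _root_.Cfsg.Agent.KO71d13e8.e25 : @instDecidableEqNat = @_root_.Cfsg.Agent.KO71d13e8.k25 := by delta _root_.Cfsg.Agent.KO71d13e8.k25; rewrite [← Cfsg.Agent.KO71d13e8.e15]; rfl'
private noncomputable def _root_.Cfsg.Agent.KO71d13e8.k27.{ku0, ku1} : type_of% @Multiset.foldr.{ku0, ku1} := @(fun x0 x1 x2 x3 x4 x5 => @Quot.lift.{(ku1+1), (ku0+1)} _ _ _ @(fun x6 => @List.foldr.{ku1, ku0} _ _ @x2 @x4 @x6) @(fun x6 x7 x8 => @List.Perm.foldr_eq.{ku1, ku0} _ _ _ _ _ _ @x8 @x4) @x5)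
private theorem _root_.Cfsg.Agent.KO71d13e8.e27.{ku0, ku1} : @Multiset.foldr.{ku0, ku1} = @_root_.Cfsg.Agent.KO71d13e8.k27.{ku0, ku1} := by delta _root_.Cfsg.Agent.KO71d13e8.k27; rfl'
private noncomputable def _root_.Cfsg.Agent.KO71d13e8.k28.{ku0} : type_of% @Multiset.sum.{ku0} := @(fun x0 x1 => @Cfsg.Agent.KO71d13e8.k27.{ku0, ku0} _ _ @(fun x2 x3 => @Add.add.{ku0} _ (@AddSemigroup.toAdd.{ku0} _ (@AddMonoid.toAddSemigroup.{ku0} _ (@AddCommMonoid.toAddMonoid.{ku0} _ @x1))) @x2 @x3) (@Multiset.sum._proof_1.{ku0} _ _) (@Zero.zero.{ku0} _ (@AddMonoid.toZero.{ku0} _ (@AddCommMonoid.toAddMonoid.{ku0} _ @x1))))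
private theorem _root_.Cfsg.Agent.KO71d13e8.e28.{ku0} : @Multiset.sum.{ku0} = @_root_.Cfsg.Agent.KO71d13e8.k28.{ku0} := by delta _root_.Cfsg.Agent.KO71d13e8.k28; rewrite [← Cfsg.Agent.KO71d13e8.e27.{ku0, ku0}]; rfl'
private noncomputable def _root_.Cfsg.Agent.KO71d13e8.k29.{ku0, ku1} : type_of% @Finset.sum.{ku0, ku1} := @(fun x0 x1 x2 x3 x4 => @Cfsg.Agent.KO71d13e8.k28.{ku1} _ @x2 (@Quot.lift.{(ku0+1), (ku1+1)} _ _ _ @(fun x5 => @Quot.mk.{(ku1+1)} _ (@Setoid.r.{(ku1+1)} _ _) (@List.map.{ku0, ku1} _ _ @x4 @x5)) (@Multiset.map._proof_1.{ku0, ku1} _ _ @x4) (@Finset.val.{ku0} _ @x3)))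
private theorem _root_.Cfsg.Agent.KO71d13e8.e29.{ku0, ku1} : @Finset.sum.{ku0, ku1} = @_root_.Cfsg.Agent.KO71d13e8.k29.{ku0, ku1} := by delta _root_.Cfsg.Agent.KO71d13e8.k29; rewrite [← Cfsg.Agent.KO71d13e8.e28.{ku1}]; rfl'
private noncomputable def _root_.Cfsg.Agent.KO71d13e8.k30 : type_of% @Finset.range := @(fun x0 => @Finset.mk.{0} _ (@Quot.mk.{1} _ (@Setoid.r.{1} _ _) (@List.range.loop @x0 [])) (@Multiset.nodup_range @x0))
private theorem _root_.Cfsg.Agent.KO71d13e8.e30 : @Finset.range = @_root_.Cfsg.Agent.KO71d13e8.k30 := by delta _root_.Cfsg.Agent.KO71d13e8.k30; rfl'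

theorem nC_sum : ∑ i ∈ range 173, Fin.nC i = 2 ^ 23 * 42305421312000 := by (first | (refine of_decide_eq_true ?_; rewrite [Cfsg.Agent.KO71d13e8.e24, Cfsg.Agent.KO71d13e8.e25, Cfsg.Agent.KO71d13e8.e29.{0, 0}, Cfsg.Agent.KO71d13e8.e30, Cfsg.Agent.KO71d13e8.e22]; decide +kernel) | decide +kernel)

theorem sum_ty_le : ∑ i ∈ range 173, Nat.card {g : C // TyB i (toB g)} ≤ Nat.card {g : C // ∃ i < 173, TyB i (toB g)} :=
  have := finite_C
  sum_card_le _ _ _ (fun _ hi _ hj _ h1 h2 => Ty.unique okSep (mem_range.1 hi) (mem_range.1 hj) h1 h2)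
    fun i hi _ h => ⟨i, mem_range.1 hi, h⟩

/-- **the numbers of the elements of each type in the centralizer of `zB`** -/
theorem cntC {i : ℕ} (hi : i < 173) : Nat.card {x : BG // Commute x zB ∧ TyB i x} = Fin.nC i := by
  have := finite_C
  have h1 := sum_le_sum (s := range 173) fun i hi => nC_le (mem_range.1 hi)
  have h2 := sum_ty_le.trans (Finite.card_subtype_le _)
  rw [card_C, ← nC_sum] at h2
  rw [← card_toB]
  exact ((sum_eq_sum_iff_of_le fun i hi => nC_le (mem_range.1 hi)).1 (le_antisymm h1 h2) i (mem_range.2 hi)).symm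

/-! ### double counting -/

theorem card_comm {A : BG → Prop} (hA : ∀ g h, A g → A (h * g * h⁻¹)) {y : BG} (hy : IsConj zB y) :
    Nat.card {x : BG // Commute x zB ∧ A x} ≤ Nat.card {x : BG // A x ∧ x * y = y * x} := by
  have : Finite BG := Nat.finite_of_card_ne_zero (by rw [card_B]; norm_num)
  obtain ⟨k, rfl⟩ := isConj_iff.1 hy
  refine Nat.card_le_card_of_injective (fun x => ⟨k * x * k⁻¹, hA _ _ x.2.2, by
    rw [conj_mul, conj_mul, x.2.1.eq]⟩) fun a b e => ?_
  exact Subtype.ext (mul_left_cancel (mul_right_cancel (congrArg Subtype.val e :)))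

theorem sum_piB_ge [Fintype BG] (A : BG → Prop) [DecidablePred A] (hA : ∀ g h, A g → A (h * g * h⁻¹)) :
    11707448673375 * Nat.card {x : BG // Commute x zB ∧ A x} ≤ ∑ g, if A g then piB g else 0 := by
  classical
  have h1 : ∀ g, (if A g then piB g else 0) = ∑ y ∈ univ.filter (IsConj zB), if A g ∧ g * y = y * g then 1 else 0 := by
    intro g
    rw [piB, Fin.card_eq_sum, sum_filter]
    split_ifs with h
    · exact sum_congr rfl fun y _ => by simp [h, ite_and]
    · exact (sum_eq_zero fun y _ => by simp [h]).symm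
  rw [sum_congr rfl fun g _ => h1 g, sum_comm, ← card_class_zB, Nat.card_eq_fintype_card, Fintype.card_subtype,
    ← smul_eq_mul]
  refine card_nsmul_le_sum _ _ _ fun y hy => ?_
  rw [← Fin.card_eq_sum]
  exact card_comm hA (mem_filter.1 hy).2

/-- **the field `low` of `RefHyp`** -/
theorem low [Fintype BG] {T : TD BG dat} (hT : ∀ g, ∀ i < 173, T.ty g = i ↔ TyB i g) :
    ∀ i < 173, 11707448673375 * Fin.nC i ≤ ∑ g, if T.ty g = i then piB g else 0 := by
  intro i hi
  have h := sum_piB_ge (fun g => T.ty g = i) fun g h h1 => (T.conj g h).trans h1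
  rwa [Nat.card_congr (Equiv.subtypeEquivRight fun x => and_congr_right fun _ => hT x i hi), cntC hi] at h

/-! ### the boxes -/

/-- the types whose involution has type 2B -/
def twoBL : List ℕ := [2, 7, 8, 9, 10, 12, 13, 21, 25, 31, 32, 33, 34, 35, 36, 38, 39, 42, 48, 50, 54, 55, 56, 57, 58, 60, 61, 62, 64, 65, 66, 68, 78, 82, 83, 84, 85, 86, 91, 96, 97, 98, 99, 100, 101, 104, 108, 110, 111, 112, 113, 114, 115, 116, 120, 123, 128, 129, 130, 131, 137, 139, 141, 142, 147, 148, 152, 153, 154, 155, 160, 161, 163, 164, 167, 168, 169]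

private noncomputable def _root_.Cfsg.Agent.KO71d13e8.k23 : (by first | exact type_of% @Cfsg.Agent.TAB.B.C2.fSum | exact Unit : Sort _) := by first | (refine @Subtype.val _ (fun g => @Cfsg.Agent.TAB.B.C2.fSum = @g) (@Subtype.mk _ _ (@(fun x0 x1 x2 => @List.rec.{1, 0} (ℕ × (ℕ × @Bool)) @(fun x3 => ℕ) (nat_lit 0) @(fun x3 x4 x5 => @Prod.rec.{1, 0, 0} ℕ (ℕ × @Bool) @(fun x6 => ℕ) @(fun x6 x7 => @Bool.rec.{1} @(fun x8 => ℕ) @x5 (@Bool.rec.{1} @(fun x8 => ℕ) @x5 (@Nat.add (@Prod.fst.{0, 0} _ _ @x7) @x5) (@x1 (@Prod.snd.{0, 0} _ _ @x7))) (@Nat.beq @x6 @x0)) @x3) @x2)) ?_); rfl') | exact @Cfsg.Agent.TAB.B.C2.fSum | exact ()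
private theorem _root_.Cfsg.Agent.KO71d13e8.e23 : (by first | exact @Cfsg.Agent.TAB.B.C2.fSum = @_root_.Cfsg.Agent.KO71d13e8.k23 | exact True : Prop) := by first | (delta _root_.Cfsg.Agent.KO71d13e8.k23; exact @Subtype.property _ (fun g => @Cfsg.Agent.TAB.B.C2.fSum = @g) _) | rfl | trivial
private noncomputable def _root_.Cfsg.Agent.KO71d13e8.k31 : (by first | exact type_of% @Cfsg.Agent.TAB.Eng.Dat.cnt | exact Unit : Sort _) := by first | (refine @Subtype.val _ (fun g => @Cfsg.Agent.TAB.Eng.Dat.cnt = @g) (@Subtype.mk _ _ (@(fun x0 x1 => @Option.rec.{1, 0} ℕ @(fun x2 => ℕ) (nat_lit 0) @(fun x2 => @x2) (@Cfsg.Agent.KO71d13e8.k6.{0} _ (@Cfsg.Agent.TAB.Eng.Dat.cntL @x0) @x1))) ?_); rewrite [← Cfsg.Agent.KO71d13e8.e6.{0}]; rfl') | exact @Cfsg.Agent.TAB.Eng.Dat.cnt | exact ()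
private theorem _root_.Cfsg.Agent.KO71d13e8.e31 : (by first | exact @Cfsg.Agent.TAB.Eng.Dat.cnt = @_root_.Cfsg.Agent.KO71d13e8.k31 | exact True : Prop) := by first | (delta _root_.Cfsg.Agent.KO71d13e8.k31; exact @Subtype.property _ (fun g => @Cfsg.Agent.TAB.Eng.Dat.cnt = @g) _) | rfl | trivial

theorem box_ok : (twoBL.all fun i => Nat.ble (dat.cnt i) (11707448673375 * cntS fun r => selT i r && r.2.1)) = true := by
  have h : (twoBL.all fun i => Nat.ble (dat.cnt i) (11707448673375 * fSum i (fun b => b) fH)) = true := by (first | (rewrite [Cfsg.Agent.KO71d13e8.e13.{0}, Cfsg.Agent.KO71d13e8.e31, Cfsg.Agent.KO71d13e8.e23]; decide +kernel) | decide +kernel)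
  refine List.all_eq_true.2 fun i hi => Nat.ble_eq_true_of_le ((Nat.le_of_ble_eq_true (List.all_eq_true.1 h i hi)).trans ?_)
  rw [f_cntS]
  exact Nat.mul_le_mul_left _ (fSum_le i (fun b => b) fH fW fOk_W)

theorem boxes_twoB : ∀ i ∈ twoBL, BoxB i := by
  intro i hi
  have : Finite BG := Nat.finite_of_card_ne_zero (by rw [card_B]; norm_num)
  have h := Nat.le_of_ble_eq_true (List.all_eq_true.1 box_ok i hi)
  refine Box.of_pow (k := dat.ord i / 2) (x := zB) card_cent_zB.le ((cntS_le _).trans ?_) (by rw [card_B]; exact h)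
  refine Nat.card_le_card_of_injective (fun g => ⟨toB g, ?_⟩) fun a b e => Subtype.ext (toB_inj (congrArg Subtype.val e :))
  obtain ⟨r, h1, h2⟩ := g.2
  rw [Bool.and_eq_true] at h1
  have h3 := ty_of_has0 h2 h1.1
  refine ⟨h3, ?_⟩
  rw [← map_pow, ← h3.1, orderOf_injective toB toB_inj, h2.1, h2.2.1 h1.2, toB_z]

end Cfsg.Agent.TAB.B.C2

private theorem dce_e3ab39b7da57 : _root_.True := by
  try have : _root_.True := by simp only [_root_.Cfsg.Agent.TAB.B.Geo.piB.eq_1]
  try have : _root_.True := by simp only [_root_.Cfsg.Agent.TAB.B.C2.selT.eq_1]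
  try have : _root_.True := by simp only [_root_.Cfsg.Agent.TAB.B.C2.selS.eq_1]
  exact _root_.True.intro
end

-- part: TAB/B/DG/Bd
section
prune_inst 0x7f00000000000000000000000000000000000000000000000000000000000000000000000000000000000000000000000000000000000000000000000000000000000000000000000000000000000000003fffffffffffffffffffffffffffbeffbdffffffff
set_option linter.all false
open scoped Cfsg.Agent.FastGrp

/-!
# Frames of `W = V ∩ Q` and the bound for the number of fixed points (helper62, TAB)
-/

set_option autoImplicit false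
set_option maxHeartbeats 400000
set_option linter.unusedSectionVars false

namespace Cfsg.Agent.TAB.B.DG

open Cfsg Cfsg.Agent.TAB.B.Geo
open Cfsg.Agent.Monster.PauliBasic Cfsg.Agent.Monster.PauliClif
open Cfsg.Agent.Monster.PauliBits (bit)
open Cfsg.Agent.H633.Ore (linL linL_nil linL_cons linL_zero linL_xor and_one_cases)
open Cfsg.Agent.TAB.B.C2 (P ze Sn ab_xor ab_zero eq_ze ab_ze aut_ze mul_ze ze_ze)
open Cfsg.Agent.H502.IFB.Key (O₁ O₂ mem_O₁' mem_O₂ s1O s2O q1O q2O z1O z2O)
open Cfsg.Agent.H861.PiS.BabyOrb (al al_P al_mul al_one trans_a trans_b smul_cl cl_eq xa xb xc ab_abc PP_of_ab comm_al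
  comm_iff')

/-! ### traces -/

theorem two_lanes {x y : Pauli 11} (hx : ab x ∈ O₁) (hy : ab y ∈ O₁) (hc : x * y = y * x) (hne : ab x ≠ ab y) :
    ab (x * y) ∈ O₂ := by
  obtain ⟨x', hx', e1⟩ := mem_O₁'.1 hx
  obtain ⟨y', hy', e2⟩ := mem_O₁'.1 hy
  obtain ⟨c, h1⟩ := trans_a (PP_of_ab e1 hx')
  rw [smul_cl, cl_eq] at h1
  have h2 : al c (al c⁻¹ y) = y := by rw [← al_mul, mul_inv_cancel, al_one]
  obtain ⟨d, h3, h4⟩ := trans_b (al_P c⁻¹ (PP_of_ab e2 hy'))
    ((comm_al (c := c)).1 (by rw [h2]; exact (comm_iff' rfl h1).2 hc.symm))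
    fun e => hne (by rw [← h1, ← h2]; exact (C2.ab_aut _ e).symm)
  rw [smul_cl, cl_eq] at h3 h4
  refine mem_O₂.2 ⟨c * d, ?_⟩
  rw [← C2.ab_aut _ ab_abc, map_mul, ab_mul, al_mul, al_mul, C2.ab_aut _ h3, C2.ab_aut _ h4, h1, h2, ab_mul]

theorem sq_of_q {x : Pauli 11} (h : H502.IFB.Moment.qf (ab x) = 0) : RB x * RB x = 1 := by
  rw [← map_mul, Pauli.sq_eq, ← map_one RB]
  exact congrArg RB (Pauli.ext h rfl rfl)

theorem tr_one' {x : Pauli 11} (h : ab x ∈ O₁) : tr (RB x) = -493 := by
  rw [tr_RB fun e => z1O (e ▸ h), s1O _ h]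
  norm_num

theorem tr_two {x : Pauli 11} (h : ab x ∈ O₂) : tr (RB x) = 275 := by
  rw [tr_RB fun e => z2O (e ▸ h), s2O _ h]
  norm_num

theorem inQ_RB (x : Pauli 11) : InQ (RB x) := inQ_iff.2 ⟨x, rfl⟩

theorem RB_ze_one : RB (ze 1) = zB := RB_z

theorem RB_ze_zero : RB (ze 0) = 1 := map_one RB

/-! ### the form on the span of a frame -/

/-- the parity -/
def pr : ℕ → ℕ → ZMod 2
  | 0, _ => 0
  | n + 1, t => bit t 0 + pr n (t >>> 1)

/-- the quadratic form -/
def q0 : ℕ → ℕ → ZMod 2
  | 0, _ => 0
  | n + 1, t => bit t 0 * (1 + pr n (t >>> 1)) + q0 n (t >>> 1)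

theorem q0_nondeg : ∀ d < 64, d ≠ 0 → ∃ t < 64, q0 6 (d ^^^ t) ≠ q0 6 t := by decide +kernel

theorem bit_cases (t : ℕ) : (t &&& 1 = 0 ∧ bit t 0 = 0) ∨ (t &&& 1 = 1 ∧ bit t 0 = 1) := by
  unfold bit
  rw [Nat.testBit_zero, Nat.and_one_is_mod]
  rcases Nat.mod_two_eq_zero_or_one t with h | h <;> rw [h] <;> simp

section

variable {u : BG} {V : Subgroup BG} (H : G8 u V)
include H

theorem q_z {w : BG} (hw : w ∈ V) (hq : InQ w) : qv u (zB * w) = qv u w := by
  rw [q_mul (qv u), H.q_z, zero_add, show pol (qv u) zB w = 0 from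
    (H.bv_comm H.z_mem hw).trans ((H.inQ w hw).1 hq), add_zero]

theorem mem_ze {x : Pauli 11} (hx : RB x ∈ V) (s : ZMod 2) : RB (ze s * x) ∈ V ∧ qv u (RB (ze s * x)) = qv u (RB x) := by
  rw [map_mul]
  rcases z2 s with rfl | rfl
  · rw [RB_ze_zero, one_mul]
    exact ⟨hx, rfl⟩
  · rw [RB_ze_one]
    exact ⟨V.mul_mem H.z_mem hx, q_z H hx (inQ_RB x)⟩

theorem mem_ab {x y : Pauli 11} (hx : RB x ∈ V) (e : ab y = ab x) : RB y ∈ V ∧ qv u (RB y) = qv u (RB x) := by
  rw [eq_ze e]
  exact mem_ze H hx _

theorem b_ab {w x y : Pauli 11} (hw : RB w ∈ V) (hx : RB x ∈ V) (e : ab y = ab x) :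
    bv u (RB w) (RB y) = bv u (RB w) (RB x) := by
  rw [bv_def, bv_def, ← map_mul, ← map_mul, (mem_ab H hx e).2,
    (mem_ab H (x := w * x) (y := w * y) (by rw [map_mul]; exact V.mul_mem hw hx) (by rw [ab_mul, ab_mul, e])).2]

theorem mem_zero : RB (P 0) ∈ V ∧ qv u (RB (P 0)) = 0 := by
  have h := mem_ab H (x := 1) (by rw [map_one]; exact V.one_mem) ab_zero
  rwa [map_one, H.qg.q_one] at h

theorem mem_xor {a b : ℕ} (ha : RB (P a) ∈ V) (hb : RB (P b) ∈ V) : RB (P (a ^^^ b)) ∈ V ∧
    qv u (RB (P (a ^^^ b))) = qv u (RB (P a)) + qv u (RB (P b)) + bv u (RB (P a)) (RB (P b)) := by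
  have h := mem_ab H (x := P a * P b) (by rw [map_mul]; exact V.mul_mem ha hb) (ab_xor a b)
  rwa [map_mul, q_mul (qv u)] at h

theorem lin_mem : ∀ (X : List ℕ), (∀ x ∈ X, RB (P x) ∈ V) → ∀ t, RB (P (linL X t)) ∈ V
  | [], _, _ => (mem_zero H).1
  | x :: X, h, t => by
    have h1 := lin_mem X (fun y hy => h y (List.mem_cons_of_mem _ hy)) (t >>> 1)
    rw [linL_cons]
    rcases and_one_cases t with e | e <;> rw [e]
    · rwa [Nat.zero_mul, Nat.zero_xor]
    · rw [Nat.one_mul]
      exact (mem_xor H (h x List.mem_cons_self) h1).1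

theorem lin_b {w : Pauli 11} (hw : RB w ∈ V) : ∀ (X : List ℕ), (∀ x ∈ X, RB (P x) ∈ V) →
    (∀ x ∈ X, bv u (RB w) (RB (P x)) = 1) → ∀ t, bv u (RB w) (RB (P (linL X t))) = pr X.length t
  | [], _, _, _ => by
    rw [linL_nil, b_ab H hw (x := 1) (by rw [map_one]; exact V.one_mem) ab_zero, map_one, H.bv_comm hw V.one_mem]
    exact H.qg.pol_one hw
  | x :: X, h, hb, t => by
    have h0 : ∀ y ∈ X, RB (P y) ∈ V := fun y hy => h y (List.mem_cons_of_mem _ hy)
    have h1 := lin_b hw X h0 (fun y hy => hb y (List.mem_cons_of_mem _ hy)) (t >>> 1)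
    have h2 := lin_mem H X h0 (t >>> 1)
    have h3 := h x List.mem_cons_self
    rw [linL_cons, List.length_cons, pr]
    rcases bit_cases t with ⟨e, e'⟩ | ⟨e, e'⟩ <;> rw [e, e']
    · rwa [Nat.zero_mul, Nat.zero_xor, zero_add]
    · rw [Nat.one_mul, b_ab H hw (x := P x * P (linL X (t >>> 1))) (by rw [map_mul]; exact V.mul_mem h3 h2) (ab_xor _ _),
        map_mul, H.bv_mul' hw h3 h2, h1, hb x List.mem_cons_self]

theorem lin_q : ∀ (X : List ℕ), (∀ x ∈ X, RB (P x) ∈ V) → (∀ x ∈ X, qv u (RB (P x)) = 1) →
    X.Pairwise (fun x y => bv u (RB (P x)) (RB (P y)) = 1) → ∀ t, qv u (RB (P (linL X t))) = q0 X.length t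
  | [], _, _, _, _ => (mem_zero H).2
  | x :: X, h, hq, hb, t => by
    have h0 : ∀ y ∈ X, RB (P y) ∈ V := fun y hy => h y (List.mem_cons_of_mem _ hy)
    rw [List.pairwise_cons] at hb
    have h1 := lin_q X h0 (fun y hy => hq y (List.mem_cons_of_mem _ hy)) hb.2 (t >>> 1)
    have h3 := h x List.mem_cons_self
    rw [linL_cons, List.length_cons, q0]
    rcases bit_cases t with ⟨e, e'⟩ | ⟨e, e'⟩ <;> rw [e, e']
    · rwa [Nat.zero_mul, Nat.zero_xor, zero_mul, zero_add]
    · rw [Nat.one_mul, (mem_xor H h3 (lin_mem H X h0 _)).2, h1, hq x List.mem_cons_self, lin_b H h3 X h0 hb.1]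
      ring

end

/-- a frame -/
structure Fr (u : BG) (V : Subgroup BG) (X : List ℕ) : Prop where
  len : X.length = 6
  mem : ∀ x ∈ X, RB (P x) ∈ V
  q : ∀ x ∈ X, qv u (RB (P x)) = 1
  b : X.Pairwise fun x y => bv u (RB (P x)) (RB (P y)) = 1

section

variable {u : BG} {V : Subgroup BG} (H : G8 u V) {X : List ℕ} (hX : Fr u V X)
include H hX

theorem Fr.lq (t : ℕ) : qv u (RB (P (linL X t))) = q0 6 t := by rw [lin_q H X hX.mem hX.q hX.b, hX.len]

theorem Fr.inj {t t' : ℕ} (ht : t < 64) (ht' : t' < 64) (e : ab (P (linL X t)) = ab (P (linL X t'))) : t = t' := by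
  by_contra hne
  obtain ⟨a, -, h⟩ := q0_nondeg (t ^^^ t') (Nat.xor_lt_two_pow (n := 6) ht ht') fun e => hne (Nat.xor_eq_zero_iff.1 e)
  refine h ?_
  rw [← hX.lq H, ← hX.lq H]
  refine (mem_ab H (lin_mem H X hX.mem a) ?_).2
  rw [linL_xor, linL_xor, ab_xor, ab_mul, ab_xor, ab_mul, e]
  exact (congrArg (· + _) (Prod.ext (add_self _) (add_self _))).trans (zero_add _)

theorem Fr.surj {w : BG} (hw : w ∈ V) (hq : InQ w) : ∃ t < 64, ∃ s, RB (ze s * P (linL X t)) = w := by
  have h1 : Function.Injective fun p : ZMod 2 × Fin 64 => (⟨RB (ze p.1 * P (linL X p.2)),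
      (mem_ze H (lin_mem H X hX.mem _) _).1, inQ_RB _⟩ : {x : BG // x ∈ V ∧ InQ x}) := fun p p' e => by
    have h2 := RB_inj (congrArg Subtype.val e)
    have h3 : p.2 = p'.2 := Fin.ext (hX.inj H p.2.2 p'.2.2 (by
      have h4 := congrArg ab h2
      rwa [ab_ze, ab_ze] at h4))
    rw [h3] at h2
    exact Prod.ext (congrArg Pauli.s (mul_right_cancel h2)) h3
  obtain ⟨p, hp⟩ := (h1.bijective_of_nat_card_le (by
    rw [H.card_W, Nat.card_prod, Nat.card_zmod, Nat.card_eq_fintype_card, Fintype.card_fin])).2 ⟨w, hw, hq⟩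
  exact ⟨p.2, p.2.2, p.1, congrArg Subtype.val hp⟩

omit H hX in
theorem sn_zero_of {g : BG} {α : MulAut (Pauli 11)} (hα : ∀ x, g * RB x = RB (α x) * g) {s : ZMod 2} {x : Pauli 11}
    (h : g * RB (ze s * x) = RB (ze s * x) * g) : Sn α x 0 := by
  rw [hα, map_mul α, aut_ze] at h
  exact (mul_left_cancel (RB_inj (mul_right_cancel h))).trans (one_mul x).symm

open Classical in
/-- **The bound.** -/
theorem Fr.bound {g : BG} {α : MulAut (Pauli 11)} (hα : ∀ x, g * RB x = RB (α x) * g) (hgu : g * u = u * g)
    (F : Finset ℕ) (σ : ℕ → ZMod 2) (hF : ∀ t < 64, ab (α (P (linL X t))) = ab (P (linL X t)) → t ∈ F)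
    (hσ : ∀ t ∈ F, Sn α (P (linL X t)) (σ t)) :
    Nat.card {y : BG // XU u y ∧ g * y = y * g} + 1 ≤
      2 * (F.filter fun t => q0 6 t = 0 ∧ σ t = 0).card + if ∀ t ∈ F, σ t = 0 then F.card else 0 := by
  have hs : ∀ {s t}, t < 64 → g * RB (ze s * P (linL X t)) = RB (ze s * P (linL X t)) * g → t ∈ F ∧ σ t = 0 :=
    fun {s t} ht h => by
      have h1 := sn_zero_of hα h
      have h2 := hF t ht h1.fix
      exact ⟨h2, (hσ t h2).sv_eq.symm.trans h1.sv_eq⟩
  let A₁ : Set BG := {y | (XU u y ∧ g * y = y * g) ∧ InQ y}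
  let A₂ : Set BG := {y | (XU u y ∧ g * y = y * g) ∧ ¬ InQ y}
  have h0 : Nat.card {y : BG // XU u y ∧ g * y = y * g} ≤ A₁.ncard + A₂.ncard := by
    refine le_trans ?_ (Set.ncard_union_le A₁ A₂)
    rw [← Nat.card_coe_set_eq]
    refine (Nat.card_congr (Equiv.subtypeEquivRight fun y => ?_)).le
    simp only [A₁, A₂, Set.mem_union, Set.mem_ofPred_eq]
    tauto
  have h1 : A₁.ncard + 1 ≤ 2 * (F.filter fun t => q0 6 t = 0 ∧ σ t = 0).card := by
    have hc : ∀ S : Finset ℕ, 2 * S.card = ((Finset.univ ×ˢ S : Finset (ZMod 2 × ℕ)) : Set (ZMod 2 × ℕ)).ncard :=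
      fun S => by rw [Set.ncard_coe_finset, Finset.card_product, Finset.card_univ, ZMod.card]
    rw [← Set.ncard_insert_of_notMem (a := 1) (fun h => ((H.xu 1).1 h.1.1).2.1 rfl), hc]
    refine le_trans (Set.ncard_le_ncard (t := (fun p : ZMod 2 × ℕ => RB (ze p.1 * P (linL X p.2))) '' _) ?_)
      (Set.ncard_image_le (Finset.finite_toSet _))
    intro y hy
    have h2 : y ∈ V ∧ InQ y ∧ qv u y = 0 ∧ g * y = y * g := by
      rcases hy with rfl | hy
      · exact ⟨V.one_mem, QB.one_mem, H.qg.q_one, by rw [mul_one, one_mul]⟩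
      · have h3 := (H.xu y).1 hy.1.1
        exact ⟨h3.1, hy.2, h3.2.2, hy.1.2⟩
    obtain ⟨t, ht, s, rfl⟩ := hX.surj H h2.1 h2.2.1
    have h3 := hs ht h2.2.2.2
    refine ⟨(s, t), Finset.mem_coe.2 (Finset.mem_product.2 ⟨Finset.mem_univ _, Finset.mem_filter.2 ⟨h3.1, ?_, h3.2⟩⟩), rfl⟩
    rw [← hX.lq H, ← (mem_ze H (lin_mem H X hX.mem t) s).2]
    exact h2.2.2.1
  have h2 : A₂.ncard ≤ if ∀ t ∈ F, σ t = 0 then F.card else 0 := by
    rcases A₂.eq_empty_or_nonempty with e | ⟨y₀, hy₀⟩
    · rw [e, Set.ncard_empty]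
      exact Nat.zero_le _
    have m : ∀ y ∈ A₂, y ∈ V ∧ qv u y = 0 ∧ bv u y zB = 1 := fun y hy => by
      have h3 := (H.xu y).1 hy.1.1
      exact ⟨h3.1, h3.2.2, z2_ne.1 fun e => hy.2 ((H.inQ y h3.1).2 e)⟩
    rw [if_pos fun t ht => z2_ne'.1 fun e => ?_]
    · have h3 : ∀ y ∈ A₂, ∃ t ∈ F, ∃ s, RB (ze s * P (linL X t)) = y₀ * y := fun y hy => by
        have h4 := V.mul_mem (m y₀ hy₀).1 (m y hy).1
        obtain ⟨t, ht, s, e⟩ := hX.surj H h4 ((H.inQ _ h4).2 (by
          rw [H.bv_mul (m y₀ hy₀).1 (m y hy).1 H.z_mem, (m y₀ hy₀).2.2, (m y hy).2.2]; rfl))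
        refine ⟨t, (hs (s := s) ht ?_).1, s, e⟩
        rw [e, ← mul_assoc, hy₀.1.2, mul_assoc, hy.1.2, mul_assoc]
      choose! τ h4 s h5 using h3
      rw [← Set.ncard_coe_finset]
      refine Set.ncard_le_ncard_of_injOn τ (fun y hy => h4 y hy) fun y hy y' hy' e => ?_
      have h6 := h5 y hy
      have h7 := h5 y' hy'
      rw [e] at h6
      by_cases h8 : s y = s y'
      · rw [h8, h7] at h6
        exact (mul_left_cancel h6).symm
      · exfalso
        have h9 : s y = 1 + s y' := by
          revert h8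
          generalize s y = a
          generalize s y' = b
          revert a b
          decide
        rw [h9, ← ze_ze, mul_assoc, map_mul, h7, RB_ze_one, ← mul_assoc, H.comm H.z_mem (m y₀ hy₀).1, mul_assoc] at h6
        have h10 := q_mul (qv u) zB y'
        rw [mul_left_cancel h6, (m y hy).2.1, (m y' hy').2.1, H.q_z, show pol (qv u) zB y' = 1 from
          (H.bv_comm H.z_mem (m y' hy').1).trans (m y' hy').2.2] at h10
        exact absurd h10 (by decide)
    · have h3 := hσ t ht
      rw [e] at h3
      have h4 := lin_mem H X hX.mem t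
      have h5 := bv_conj hgu y₀ (RB (P (linL X t)))
      rw [hy₀.1.2, mul_inv_cancel_right, hα, mul_inv_cancel_right, h3, map_mul, RB_ze_one,
        H.bv_mul' (m y₀ hy₀).1 H.z_mem h4, (m y₀ hy₀).2.2] at h5
      exact one_ne_zero (add_eq_right.1 h5)
  omega

end

/-! ### a frame from lanes -/

theorem fr_of {V : Subgroup BG} {y : Pauli 11} (H : G8 (RB y) V) (hu : RB y * RB y = 1) (h19 : tr (RB y) = 19) {ub : ℕ}
    (hy : ab y = ab (P ub)) (Y : List ℕ) (hl : Y.length = 6) (h1 : ∀ a ∈ Y, ab (P a) ∈ O₁)
    (h2 : Y.Pairwise fun a b => ab (P (ub ^^^ a ^^^ b)) ∈ O₁ ∧ Pauli.form (P (ub ^^^ a ^^^ b)) (P a) = 0 ∧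
      Pauli.form (P (ub ^^^ a ^^^ b)) (P b) = 0) : Fr (RB y) V (Y.map (ub ^^^ ·)) := by
  have a2 : ∀ x : C2.VV, x + x = 0 := fun x => Prod.ext (add_self _) (add_self _)
  have k : ∀ a b, ab (P a) ∈ O₁ → ab (P b) ∈ O₁ → ab (P (ub ^^^ a ^^^ b)) ∈ O₁ →
      Pauli.form (P (ub ^^^ a ^^^ b)) (P b) = 0 → RB (P (ub ^^^ a)) ∈ V ∧ qv (RB y) (RB (P (ub ^^^ a))) = 1 :=
    fun a b ha hb hab hf => by
      have e1 : ab (P (ub ^^^ a) * y) = ab (P a) := by
        rw [ab_mul, ab_xor, ab_mul, hy, add_right_comm, a2, zero_add]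
      have e2 : ab (P (ub ^^^ a)) ∈ O₂ := by
        have h3 := two_lanes hab hb ((Pauli.commute_iff _ _).2 hf) fun e => by
          rw [ab_xor, ab_mul, ab_xor, ab_mul, add_eq_right, ← hy] at e
          have h4 : ab y = ab (P a) := by rw [← zero_add (ab (P a)), ← e, add_assoc, a2, add_zero]
          rw [tr_one' (h4 ▸ ha)] at h19
          norm_num at h19
        rwa [ab_mul, ab_xor, ab_mul, add_assoc, a2, add_zero] at h3
      have s1 := sq_of_q (q2O _ e2)
      have s2 := sq_of_q (q1O _ (e1 ▸ ha))
      rw [map_mul] at s2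
      refine (H.mem_iff (inQ_RB y) hu (inQ_RB _)).2 ⟨s1, ?_, tr_two e2, by rw [← map_mul, tr_one' (e1 ▸ ha)]⟩
      calc RB (P (ub ^^^ a)) * RB y = (RB (P (ub ^^^ a)) * RB y)⁻¹ := eq_inv_of_mul_eq_one_left s2
        _ = _ := by rw [mul_inv_rev, inv_eq_of_mul_eq_one_left hu, inv_eq_of_mul_eq_one_left s1]
  have m : ∀ a ∈ Y, RB (P (ub ^^^ a)) ∈ V ∧ qv (RB y) (RB (P (ub ^^^ a))) = 1 := fun a ha => by
    obtain ⟨i, hi, rfl⟩ := List.getElem_of_mem ha
    rw [List.pairwise_iff_getElem] at h2
    rcases Nat.eq_zero_or_pos i with rfl | h0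
    · have h3 := h2 0 1 hi (by omega) Nat.one_pos
      exact k _ _ (h1 _ ha) (h1 _ (List.getElem_mem _)) h3.1 h3.2.2
    · have h3 := h2 0 i (by omega) hi h0
      rw [Nat.xor_right_comm] at h3
      exact k _ _ (h1 _ ha) (h1 _ (List.getElem_mem _)) h3.1 h3.2.1
  refine ⟨by rw [List.length_map, hl], fun x hx => ?_, fun x hx => ?_, List.pairwise_map.2 ?_⟩
  · obtain ⟨a, ha, rfl⟩ := List.mem_map.1 hx
    exact (m a ha).1
  · obtain ⟨a, ha, rfl⟩ := List.mem_map.1 hx
    exact (m a ha).2
  · refine h2.imp_of_mem fun {a b} ha hb h => ?_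
    rw [bv_def, (m a ha).2, (m b hb).2, (H.qv_eq_one (V.mul_mem (m a ha).1 (m b hb).1)).2 ?_]
    · rfl
    · rw [← map_mul, ← map_mul]
      refine tr_one' ?_
      have h3 := h.1
      rw [ab_xor, ab_mul, ab_xor, ab_mul] at h3
      rwa [ab_mul, ab_mul, ab_xor, ab_xor, ab_mul, ab_mul, hy, add_assoc, add_right_comm (ab (P ub)) (ab (P b)), a2, zero_add]

end Cfsg.Agent.TAB.B.DG

private theorem dce_0944c4ae710b : _root_.True := by
  try have : _root_.True := by simp only [_root_.Cfsg.Agent.TAB.B.DG.q0.eq_2]
  try have : _root_.True := by simp only [_root_.Cfsg.Agent.TAB.B.DG.q0.eq_1]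
  try have : _root_.True := by simp only [_root_.Cfsg.Agent.TAB.B.DG.pr.eq_2]
  try have : _root_.True := by simp only [_root_.Cfsg.Agent.TAB.B.DG.q0.eq_def]
  try have : _root_.True := by simp only [_root_.Cfsg.Agent.TAB.B.DG.pr.eq_1]
  try have : _root_.True := by simp only [_root_.Cfsg.Agent.TAB.B.DG.pr.eq_def]
  exact _root_.True.intro
end

-- part: TAB/B/DG/Chk
section
prune_inst 0x7f00000000000000000000000000000000000000000000000000000000000000000000000000000000000000000000000000000000000000000000000000000000000000000000000000000000000000003fffffffffffffffffffffffffffbeffbdffffffff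
set_option linter.all false
open scoped Cfsg.Agent.FastGrp

/-!
# The kernel check of the bounds (helper62, TAB)

`run` returns a table with 8 bits for every sign vector; `run_tag` : a nonzero entry bounds the number of fixed points.
-/

set_option autoImplicit false
set_option maxHeartbeats 400000
set_option linter.unusedSectionVars false

namespace Cfsg.Agent.TAB.B.DG

open Cfsg Cfsg.Agent.TAB.B.Geo
open Cfsg.Agent.Monster.PauliBasic Cfsg.Agent.Monster.PauliClif
open Cfsg.Agent.Monster.PauliBits (bit bit_xor bit_and bit_shiftRight bit_zero)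
open Cfsg.Agent.H633.Ore (linL linL_nil linL_cons linL_zero linL_xor linL_map linL_lt and_one_cases force force_eq mapF
  mapF_eq nth idL)
open Cfsg.Agent.H633.Ore.Co2 (wd ordT ordT_sound)
open Cfsg.Agent.TAB.B.C2
open Cfsg.Agent.BabyM Cfsg.Agent.BabyM.Conc Cfsg.Agent.BabyM.KTab Cfsg.Agent.BabyM.ThetaInst
open Cfsg.Agent.BabyM.QAct (form_mul_left form_comm form_congr exists_form_eq_one)
open Cfsg.Agent.H502.IFB.Key (O₁ mem_O₁)

/-! ### tools -/

/-- parity of 22 bits -/
noncomputable def p22 (x : ℕ) : ℕ := pa (Nat.xor x (Nat.shiftRight x 11))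

theorem bit_p22 (a b : ℕ) : bit (p22 (a &&& b)) 0 = dt a b := by
  unfold p22 dt
  rw [bit_pa, show 22 = 11 + 11 from rfl, Finset.sum_range_add, ← Finset.sum_add_distrib]
  refine Finset.sum_congr rfl fun k _ => ?_
  rw [← bit_and, ← bit_and, ← bit_shiftRight]
  exact bit_xor _ _ _

theorem dt_xor (a b r : ℕ) : dt (a ^^^ b) r = dt a r + dt b r := by
  unfold dt
  rw [← Finset.sum_add_distrib]
  exact Finset.sum_congr rfl fun k _ => by rw [bit_xor, add_mul]

/-- even parity -/
noncomputable def ev (e r : ℕ) : Bool := Nat.beq (force (Nat.land e r) p22) 0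

theorem ev_of {e r : ℕ} (h : dt e r = 0) : ev e r = true := by
  unfold ev
  rw [force_eq, Nat.beq_eq, val_of_bit (x := p22 _) (pa_lt _)]
  exact congrArg ZMod.val ((bit_p22 e r).trans h)

/-- eager filter and map -/
noncomputable def fmF {β : Type} (p : ℕ → Bool) (f : ℕ → ℕ) (T : List ℕ) : (List ℕ → β) → β :=
  List.rec (fun k => k []) (fun t _ ih k => Bool.rec (ih k) (force (f t) fun r => ih fun l => k (r :: l)) (p t)) T

theorem fmF_eq {β : Type} (p : ℕ → Bool) (f : ℕ → ℕ) : ∀ (T : List ℕ) (k : List ℕ → β),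
    fmF p f T k = k ((T.filter p).map f)
  | [], _ => rfl
  | t :: T, k => by
    show (Bool.rec (fmF p f T k) (force (f t) fun r => fmF p f T fun l => k (r :: l)) (p t) : β) = _
    rw [force_eq, fmF_eq, fmF_eq, List.filter_cons]
    cases p t <;> rfl

/-- count -/
noncomputable def cp (p : ℕ → Bool) (L : List ℕ) : ℕ := List.rec 0 (fun a _ ih => Bool.rec ih (Nat.succ ih) (p a)) L

theorem cp_eq (p : ℕ → Bool) : ∀ L : List ℕ, cp p L = L.countP p
  | [] => rfl
  | a :: L => by
    show (Bool.rec (cp p L) (Nat.succ (cp p L)) (p a) : ℕ) = _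
    rw [cp_eq p L, List.countP_cons]
    cases p a <;> rfl

/-- all -/
noncomputable def allL (p : ℕ → Bool) (L : List ℕ) : Bool := List.rec true (fun a _ ih => Bool.rec false ih (p a)) L

theorem allL_iff (p : ℕ → Bool) : ∀ L : List ℕ, allL p L = true ↔ ∀ a ∈ L, p a = true
  | [] => iff_of_true rfl fun _ h => absurd h List.not_mem_nil
  | a :: L => by
    show (Bool.rec false (allL p L) (p a) : Bool) = true ↔ _
    rw [List.forall_mem_cons, ← allL_iff p L]
    cases p a <;> simp

/-- the unit vectors -/
def ID : List ℕ := [1, 2, 4, 8, 16, 32, 64, 128, 256, 512, 1024, 2048, 4096, 8192, 16384, 32768, 65536, 131072, 262144,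
  524288, 1048576, 2097152]

theorem ID_eq : ID = idL 22 := by decide +kernel

/-- the orbit sums -/
noncomputable def orb (L : List ℕ) (n : ℕ) : List ℕ → List ℕ → (List ℕ → ℕ) → ℕ :=
  Nat.rec (fun _ N k => k N) (fun _ ih A N k => mapF (linL L) A fun A' =>
    mapF (fun x => x) (List.zipWith Nat.xor N A) fun N' => ih A' N' k) n

theorem orb_spec {α : MulAut (Pauli 11)} {L : List ℕ} (hL : Ind α L) (k : List ℕ → ℕ) : ∀ (n d : ℕ) (A N : List ℕ),
    Ind (α ^ d) A → IndN α d N → A.length = 22 → N.length = 22 →
      ∃ N', IndN α (d + n) N' ∧ N'.length = 22 ∧ orb L n A N k = k N'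
  | 0, _, _, N, _, hN, _, l => ⟨N, hN, l, rfl⟩
  | n + 1, d, A, N, hA, hN, lA, lN => by
    obtain ⟨N', h1, h2, h3⟩ := orb_spec hL k n (d + 1) _ _ (by rw [pow_succ']; exact hL.mul hA)
      (hN.succ hA (lN.trans lA.symm)) (by rw [List.length_map, lA]) (by rw [List.length_zipWith, lA, lN]; rfl)
    refine ⟨N', by rwa [show d + (n + 1) = d + 1 + n by omega], h2, ?_⟩
    show mapF (linL L) A (fun A' => mapF (fun x => x) (List.zipWith Nat.xor N A) fun N' => orb L n A' N' k) = _
    rw [mapF_eq, mapF_eq, List.map_id', h3]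

/-- fold over a coset of the span of `K` -/
noncomputable def fib (leaf : ℕ → ℕ) (K : List ℕ) : ℕ → ℕ :=
  List.rec leaf (fun κ _ ih e => force (Nat.xor e κ) fun e' => Nat.lor (ih e) (ih e')) K

theorem fib_inv {leaf : ℕ → ℕ} {G I : ℕ → Prop} (hI : ∀ a b, I a → I b → I (a ||| b)) (hl : ∀ e, G e → I (leaf e)) :
    ∀ K : List ℕ, (∀ κ ∈ K, ∀ e, G e → G (e ^^^ κ)) → ∀ e, G e → I (fib leaf K e)
  | [], _, e, h => hl e h
  | κ :: K, hK, e, h => by
    have h1 := fib_inv hI hl K fun a ha => hK a (List.mem_cons_of_mem _ ha)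
    show I (force (e ^^^ κ) fun e' => fib leaf K e ||| fib leaf K e')
    rw [force_eq]
    exact hI _ _ (h1 e h) (h1 _ (hK κ List.mem_cons_self e h))

/-- fold over the records -/
noncomputable def fo (f : ℕ → ℕ) (RS : List ℕ) : ℕ := List.rec 0 (fun R _ ih => Nat.lor ih (f R)) RS

theorem fo_inv {f : ℕ → ℕ} {I : ℕ → Prop} (hI : ∀ a b, I a → I b → I (a ||| b)) (h0 : I 0) (h : ∀ R, I (f R)) :
    ∀ RS : List ℕ, I (fo f RS)
  | [] => h0
  | R :: RS => hI _ _ (fo_inv hI h0 h RS) (h R)

/-- write a bound into the table -/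
noncomputable def leaf (bd : ℕ → ℕ) (e : ℕ) : ℕ :=
  force (bd e) fun b => Bool.rec 0 (Nat.shiftLeft b (Nat.mul 8 e)) (Nat.blt b 256)

theorem fld_or (A B e : ℕ) : fld (A ||| B) 8 255 e = fld A 8 255 e ||| fld B 8 255 e := by
  show ((A ||| B) >>> (8 * e)) &&& 255 = ((A >>> (8 * e)) &&& 255) ||| ((B >>> (8 * e)) &&& 255)
  rw [Nat.shiftRight_or_distrib, Nat.and_or_distrib_right]

theorem fld_shl {b : ℕ} (hb : b < 256) (e e' : ℕ) : fld (b <<< (8 * e')) 8 255 e = if e = e' then b else 0 := by
  show ((b <<< (8 * e')) >>> (8 * e)) &&& (2 ^ 8 - 1) = _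
  rw [Nat.and_two_pow_sub_one_eq_mod]
  split_ifs with h
  · rw [h, Nat.shiftLeft_shiftRight, Nat.mod_eq_of_lt hb]
  · apply Nat.eq_of_testBit_eq
    intro i
    rw [Nat.testBit_mod_two_pow, Nat.testBit_shiftRight, Nat.testBit_shiftLeft, Nat.zero_testBit]
    by_cases h1 : i < 8
    · by_cases h2 : 8 * e + i ≥ 8 * e'
      · rw [Nat.testBit_eq_false_of_lt (lt_of_lt_of_le hb
          (Nat.pow_le_pow_right (n := 2) (by norm_num) (show 8 ≤ 8 * e + i - 8 * e' by omega)))]
        simp
      · simp [h2]
    · simp [h1]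

theorem fld_zero (e : ℕ) : fld 0 8 255 e = 0 := by
  show (0 >>> _) &&& 255 = 0
  rw [Nat.zero_shiftRight, Nat.zero_and]

theorem or_inv {e m : ℕ} (a b : ℕ) (ha : fld a 8 255 e ≠ 0 → m ≤ fld a 8 255 e) (hb : fld b 8 255 e ≠ 0 → m ≤ fld b 8 255 e) :
    fld (a ||| b) 8 255 e ≠ 0 → m ≤ fld (a ||| b) 8 255 e := fun h => by
  rw [fld_or] at h ⊢
  by_cases h1 : fld a 8 255 e = 0
  · rw [h1, Nat.zero_or] at h ⊢
    exact hb h
  · exact (ha h1).trans Nat.left_le_or

theorem leaf_inv {bd : ℕ → ℕ} {e m : ℕ} (e' : ℕ) (h : e = e' → m ≤ bd e') :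
    fld (leaf bd e') 8 255 e ≠ 0 → m ≤ fld (leaf bd e') 8 255 e := by
  unfold leaf
  rw [force_eq]
  cases hb : Nat.blt (bd e') 256
  · exact fun h1 => absurd (fld_zero e) h1
  · show fld (bd e' <<< (8 * e')) 8 255 e ≠ 0 → m ≤ fld (bd e' <<< (8 * e')) 8 255 e
    rw [fld_shl (Nat.blt_eq.mp hb)]
    split_ifs with h1
    · exact fun _ => h h1
    · exact fun h2 => absurd rfl h2

/-! ### records -/

/-- a lane of a record -/
noncomputable def ln (R i : ℕ) : ℕ := fld R 12 4095 i

/-- check of a pair -/
noncomputable def pc (ub a b l : ℕ) : Bool :=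
  xB l && force (cd l) fun c => Nat.beq c (Nat.xor (Nat.xor ub a) b) && Nat.beq (fm c a) 0 && Nat.beq (fm c b) 0

/-- check of a row of pairs -/
noncomputable def rw1 (ub R a : ℕ) (Y : List ℕ) : ℕ → Bool :=
  List.rec (fun _ => true) (fun b _ ih i => force (ln R i) (pc ub a b) && ih (Nat.succ i)) Y

/-- check of all pairs -/
noncomputable def prs (ub R : ℕ) (Y : List ℕ) : ℕ → Bool :=
  List.rec (fun _ => true) (fun a Y ih i => rw1 ub R a Y i && force (Nat.add i Y.length) ih) Y

theorem xB_mem {l : ℕ} (h : xB l = true) : ab (P (cd l)) ∈ O₁ := by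
  obtain ⟨i, rfl, hi⟩ := xB_iff.1 h
  exact mem_O₁.2 ⟨i, hi, rfl⟩

theorem pc_spec {ub a b l : ℕ} (h : pc ub a b l = true) : ab (P (ub ^^^ a ^^^ b)) ∈ O₁ ∧
    Pauli.form (P (ub ^^^ a ^^^ b)) (P a) = 0 ∧ Pauli.form (P (ub ^^^ a ^^^ b)) (P b) = 0 := by
  unfold pc at h
  rw [force_eq] at h
  simp only [Bool.and_eq_true, Nat.beq_eq] at h
  obtain ⟨h1, ⟨h2, h3⟩, h4⟩ := h
  have h5 : ub ^^^ a ^^^ b = cd l := h2.symm
  rw [h5, ← bit_fm, ← bit_fm, h3, h4]
  exact ⟨xB_mem h1, bit_zero _, bit_zero _⟩

theorem rw1_spec {ub R a : ℕ} : ∀ (Y : List ℕ) (i : ℕ), rw1 ub R a Y i = true → ∀ b ∈ Y, ∃ l, pc ub a b l = true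
  | [], _, _, _, hb => absurd hb List.not_mem_nil
  | c :: Y, i, h, b, hb => by
    have h1 : (force (ln R i) (pc ub a c) && rw1 ub R a Y (i + 1)) = true := h
    rw [force_eq, Bool.and_eq_true] at h1
    rcases List.mem_cons.1 hb with rfl | hb
    · exact ⟨_, h1.1⟩
    · exact rw1_spec Y _ h1.2 b hb

theorem prs_spec {ub R : ℕ} : ∀ (Y : List ℕ) (i : ℕ), prs ub R Y i = true → Y.Pairwise fun a b => ∃ l, pc ub a b l = true
  | [], _, _ => List.Pairwise.nil
  | a :: Y, i, h => by
    have h1 : (rw1 ub R a Y i && force (i + Y.length) (prs ub R Y)) = true := h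
    rw [force_eq, Bool.and_eq_true] at h1
    exact List.Pairwise.cons (rw1_spec Y i h1.1) (prs_spec Y _ h1.2)

/-- the scalar products with the entries of a list -/
noncomputable def vB (UN : List ℕ) (e : ℕ) : ℕ := colf (fun r => force (Nat.land e r) p22) UN

theorem bit_vB {UN : List ℕ} (e : ℕ) {k : ℕ} (hk : k < UN.length) : bit (vB UN e) k = dt e (UN.getD k 0) := by
  unfold vB
  rw [bit_colf _ _ _ hk, force_eq]
  exact bit_p22 _ _

/-- the numbers below 64 -/
def T64 : List ℕ := [0, 1, 2, 3, 4, 5, 6, 7, 8, 9, 10, 11, 12, 13, 14, 15, 16, 17, 18, 19, 20, 21, 22, 23, 24, 25, 26, 27,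
  28, 29, 30, 31, 32, 33, 34, 35, 36, 37, 38, 39, 40, 41, 42, 43, 44, 45, 46, 47, 48, 49, 50, 51, 52, 53, 54, 55, 56, 57,
  58, 59, 60, 61, 62, 63]

theorem T64_eq : T64 = List.range 64 := by decide +kernel

/-- the singular vectors -/
noncomputable def sing (t : ℕ) : Bool := Nat.beq (Nat.land (Nat.shiftRight 0x177e7ee87ee8e881 t) 1) 1

theorem sing_of : ∀ t < 64, q0 6 t = 0 → sing t = true := by decide +kernel

/-- the bound -/
noncomputable def bd (FS FA : List ℕ) (n e : ℕ) : ℕ :=
  Nat.pred (Nat.add (Nat.mul 2 (cp (ev e) FS)) (Bool.rec 0 n (allL (ev e) FA)))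

/-- the fiber of a record -/
noncomputable def rec2 (L U K X : List ℕ) (e0 : ℕ) : ℕ :=
  mapF (fun x => Nat.xor (linL L x) x) X fun D => mapF (linL U) X fun RR =>
    fmF (fun t => Nat.beq (linL D t) 0) (fun t => t) T64 fun FT => mapF (linL RR) FT fun FA =>
      fmF sing (linL RR) FT fun FS => force FA.length fun n => fib (leaf (bd FS FA n)) K e0

/-- one record -/
noncomputable def rec1 (L U K UN : List ℕ) (c0 R : ℕ) : ℕ :=
  force (Nat.shiftRight R 252) fun e0 => mapF (fun i => cd (ln R i)) [0, 1, 2, 3, 4, 5] fun Y =>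
    force (Nat.xor (Nat.xor (cd (ln R 6)) (nth Y 0)) (nth Y 1)) fun ub =>
      Bool.rec 0 (mapF (Nat.xor ub) Y fun X => rec2 L U K X e0)
        (allL (fun i => xB (ln R i)) [0, 1, 2, 3, 4, 5] && prs ub R Y 6 &&
          Nat.beq (colf (fm ub) ID) (Nat.xor (vB UN e0) c0))

/-- the table of a class of order `n + 1` -/
noncomputable def run (w : List ℕ) (n : ℕ) (B U K' K RS : List ℕ) : ℕ :=
  wdL w ID fun L => Bool.rec 0
    (orb L n L ID fun N => mapF (linL U) N fun UN => force (colf (fun p => fm p (linL N p)) ID) fun c0 =>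
      Bool.rec 0 (fo (rec1 L U K UN c0) RS) (allL (fun κ => Nat.beq (vB UN κ) 0) K))
    (bsB L B U K' && ordT w (Nat.succ n) && allL (fun c => Nat.blt c 4194304) L)

/-! ### soundness -/

theorem linL_D (L : List ℕ) : ∀ (X : List ℕ) (t : ℕ),
    linL (X.map fun x => Nat.xor (linL L x) x) t = linL L (linL X t) ^^^ linL X t
  | [], _ => by rw [List.map_nil, linL_nil, linL_zero]; rfl
  | x :: X, t => by
    rw [List.map_cons, linL_cons, linL_cons, linL_D L X, linL_xor]
    rcases and_one_cases t with e | e <;> rw [e]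
    · simp only [Nat.zero_mul, linL_zero, Nat.zero_xor]
    · simp only [Nat.one_mul, Nat.xor_eq, Nat.xor_assoc, Nat.xor_left_comm]

theorem bd_spec {x : BG} {m : ℕ} {V : Subgroup BG} (H : G8 (x ^ m) V) {X : List ℕ} (hX : Fr (x ^ m) V X)
    (lX : ∀ c ∈ X, c < 2 ^ 22) {α : MulAut (Pauli 11)} (hα : ∀ y, x * RB y = RB (α y) * x) {L B U : List ℕ} (hL : Ind α L)
    (lL : ∀ c ∈ L, c < 2 ^ 22) (hb : Bs α B U) {e : ℕ} (he : Sg α B e) {FT : List ℕ}
    (hT : FT = T64.filter fun t => Nat.beq (linL (X.map fun x => Nat.xor (linL L x) x) t) 0) :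
    fx m x ≤ bd ((FT.filter sing).map (linL (X.map (linL U)))) (FT.map (linL (X.map (linL U))))
      (FT.map (linL (X.map (linL U)))).length e := by
  classical
  have m1 : ∀ t, t ∈ FT ↔ t < 64 ∧ linL L (linL X t) = linL X t := fun t => by
    rw [hT, List.mem_filter, T64_eq, List.mem_range, Nat.beq_eq, linL_D, Nat.xor_eq_zero_iff]
  have h1 := hX.bound H hα (pow_succ' x m ▸ pow_succ x m) FT.toFinset (fun t => dt e (linL (X.map (linL U)) t))
    (fun t ht h => List.mem_toFinset.2 ((m1 t).2 ⟨ht, ab_inj (linL_lt lL _) (linL_lt lX _) ((hL _).symm.trans h)⟩))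
    fun t ht => by
      rw [linL_map]
      exact hb.sn_fix he (by rw [hL, ((m1 t).1 (List.mem_toFinset.1 ht)).2])
  have h2 : (FT.toFinset.filter fun t => q0 6 t = 0 ∧ dt e (linL (X.map (linL U)) t) = 0).card ≤
      cp (ev e) ((FT.filter sing).map (linL (X.map (linL U)))) := by
    rw [cp_eq, List.countP_map, List.countP_eq_length_filter]
    refine le_trans (Finset.card_le_card fun t ht => List.mem_toFinset.2 ?_) (List.toFinset_card_le _)
    obtain ⟨h3, h4, h5⟩ := Finset.mem_filter.1 ht
    rw [List.mem_toFinset] at h3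
    exact List.mem_filter.2 ⟨List.mem_filter.2 ⟨h3, sing_of t ((m1 t).1 h3).1 h4⟩, ev_of h5⟩
  have h3 : (if ∀ t ∈ FT.toFinset, dt e (linL (X.map (linL U)) t) = 0 then FT.toFinset.card else 0) ≤
      (Bool.rec 0 (FT.map (linL (X.map (linL U)))).length (allL (ev e) (FT.map (linL (X.map (linL U))))) : ℕ) := by
    split_ifs with h
    · rw [(allL_iff _ _).2 fun a ha => by
        obtain ⟨t, ht, rfl⟩ := List.mem_map.1 ha
        exact ev_of (h t (List.mem_toFinset.2 ht)), List.length_map]
      exact List.toFinset_card_le _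
    · exact Nat.zero_le _
  exact Nat.le_pred_of_lt (lt_of_lt_of_le h1 (Nat.add_le_add (Nat.mul_le_mul_left 2 h2) h3))

theorem ab_of_form {y : Pauli 11} {ub : ℕ} (h : ∀ k < 22, Pauli.form y (P (2 ^ k)) = Pauli.form (P ub) (P (2 ^ k))) :
    ab y = ab (P ub) := by
  by_contra hne
  obtain ⟨x, hx⟩ := exists_form_eq_one (w := y * P ub) fun e => hne (by
    rw [ab_mul] at e
    rw [← add_zero (ab y), ← show ab (P ub) + ab (P ub) = 0 from Prod.ext (add_self _) (add_self _), ← add_assoc, e,
      zero_add])
  obtain ⟨c, -, hc⟩ := exists_code x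
  have h1 := closed_lin (F := fun c => Pauli.form (P c) (y * P ub) = 0)
    (by rw [form_ab ab_zero rfl, QAct.form_one_left])
    (fun a b ha hb => by rw [form_ab (ab_xor a b) rfl, form_mul_left, ha, hb, add_zero]) (idL 22) (fun b hb => by
      obtain ⟨k, hk, rfl⟩ := List.mem_map.1 hb
      rw [form_comm, form_mul_left, h k (List.mem_range.1 hk), z2_add]) c
  rw [form_ab ((ab_idL c).trans hc) rfl, hx] at h1
  exact one_ne_zero h1

/-- a nonzero entry of the table `T` bounds the number of fixed points -/
def Tag (w : List ℕ) (m : ℕ) (B : List ℕ) (T : ℕ) : Prop :=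
  ∀ (g : C) (α : MulAut (Pauli 11)) (e : ℕ) (x : BG), pr2 g = wd w → Au Cd u g.1 α → Sg α B e → x.1 = g.1 →
    x ^ m * x ^ m = 1 → tr (x ^ m) = 19 → fld T 8 255 e ≠ 0 → InQ (x ^ m) ∧ fx m x ≤ fld T 8 255 e

theorem run_tag (w : List ℕ) (n : ℕ) (B U K' K RS : List ℕ) : Tag w (n + 1) B (run w n B U K' K RS) := by
  intro g α e x hg hα he hx hu h19
  have z0 : ∀ p : Prop, fld 0 8 255 e ≠ 0 → p := fun p h => absurd (by
    show (0 >>> _) &&& 255 = 0
    rw [Nat.zero_shiftRight, Nat.zero_and]) h
  unfold run
  obtain ⟨L, hL, e1⟩ := wdL_spec w 1 ID _ (ID_eq ▸ IndC.one)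
  rw [e1]
  replace hL := hL g α (by rw [one_mul, hg]) hα
  cases hc : (bsB L B U K' && ordT w (Nat.succ n) && allL (fun c => Nat.blt c 4194304) L)
  · exact z0 _
  rw [Bool.and_eq_true, Bool.and_eq_true, allL_iff] at hc
  obtain ⟨⟨c1, c2⟩, c3⟩ := hc
  have hb := bsB_spec c1 hL
  have lL : L.length = 22 := by
    simp only [bsB, Bool.and_eq_true, Nat.beq_eq] at c1
    exact c1.1.1.1.1.1.2
  obtain ⟨y, hy⟩ := pr2_eq_one.1 (show pr2 (g ^ (n + 1)) = 1 by rw [map_pow, hg, ordT_sound c2])
  have hy1 : Cd.R y = g.1 ^ (n + 1) := congrArg Subtype.val hy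
  have hy2 : RB y = x ^ (n + 1) := Subtype.ext (hy1.trans (by rw [← hx]; rfl))
  have hp : α ^ (n + 1) = MulAut.conj y := (hα.pow (n + 1)).unique (hy1 ▸ au_R hC.good y)
  obtain ⟨V, H⟩ := geo hu (hy2 ▸ inQ_RB y) h19
  suffices hs : ∀ T, T = orb L n L ID (fun N => mapF (linL U) N fun UN =>
      force (colf (fun p => fm p (linL N p)) ID) fun c0 =>
        Bool.rec 0 (fo (rec1 L U K UN c0) RS) (allL (fun κ => Nat.beq (vB UN κ) 0) K)) →
      fld T 8 255 e ≠ 0 → fx (n + 1) x ≤ fld T 8 255 e from fun h => ⟨hy2 ▸ inQ_RB y, hs _ rfl h⟩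
  rintro _ rfl
  obtain ⟨N, hN, lN, e2⟩ := orb_spec hL _ n 1 L ID (by rwa [pow_one]) (ID_eq ▸ IndN.one) lL rfl
  rw [e2, mapF_eq, force_eq]
  rw [add_comm] at hN
  have lU : (N.map (linL U)).length = 22 := by rw [List.length_map, lN]
  have gU : ∀ k < 22, (N.map (linL U)).getD k 0 = linL U (linL N (2 ^ k)) := fun k _ => by
    rw [← linL_two_pow, linL_map]
  generalize N.map (linL U) = UN at lU gU
  cases hK : allL (fun κ => Nat.beq (vB UN κ) 0) K
  · exact z0 _
  rw [allL_iff] at hK
  refine fo_inv (I := fun T => fld T 8 255 e ≠ 0 → fx (n + 1) x ≤ fld T 8 255 e) or_inv (z0 _) (fun R => ?_) RS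
  unfold rec1
  rw [force_eq, mapF_eq, force_eq]
  have lY : ∀ a ∈ List.map (fun i => cd (ln R i)) [0, 1, 2, 3, 4, 5], a < 2 ^ 22 := fun a ha => by
    obtain ⟨i, -, rfl⟩ := List.mem_map.1 ha
    exact cd_lt _
  have lu : Nat.xor (Nat.xor (cd (ln R 6)) (nth (List.map (fun i => cd (ln R i)) [0, 1, 2, 3, 4, 5]) 0))
      (nth (List.map (fun i => cd (ln R i)) [0, 1, 2, 3, 4, 5]) 1) < 2 ^ 22 :=
    Nat.xor_lt_two_pow (Nat.xor_lt_two_pow (cd_lt _) (cd_lt _)) (cd_lt _)
  generalize Nat.xor (Nat.xor (cd (ln R 6)) (nth (List.map (fun i => cd (ln R i)) [0, 1, 2, 3, 4, 5]) 0))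
      (nth (List.map (fun i => cd (ln R i)) [0, 1, 2, 3, 4, 5]) 1) = ub at lu
  generalize Nat.shiftRight R 252 = e0
  cases hR : (allL (fun i => xB (ln R i)) [0, 1, 2, 3, 4, 5] &&
      prs ub R (List.map (fun i => cd (ln R i)) [0, 1, 2, 3, 4, 5]) 6 &&
      Nat.beq (colf (fm ub) ID) (Nat.xor (vB UN e0) (colf (fun p => fm p (linL N p)) ID)))
  · exact z0 _
  rw [Bool.and_eq_true, Bool.and_eq_true, allL_iff, Nat.beq_eq] at hR
  obtain ⟨⟨r1, r2⟩, r3⟩ := hR
  have r4 : ∀ a ∈ List.map (fun i => cd (ln R i)) [0, 1, 2, 3, 4, 5], ab (P a) ∈ O₁ := fun a ha => by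
    obtain ⟨i, hi, rfl⟩ := List.mem_map.1 ha
    exact xB_mem (r1 i hi)
  have r5 := (prs_spec _ _ r2).imp fun h => h.elim fun _ => pc_spec
  have r6 : (List.map (fun i => cd (ln R i)) [0, 1, 2, 3, 4, 5]).length = 6 := rfl
  generalize List.map (fun i => cd (ln R i)) [0, 1, 2, 3, 4, 5] = Y at lY r4 r5 r6
  show fld (mapF (Nat.xor ub) Y fun X => rec2 L U K X e0) 8 255 e ≠ 0 →
    _ ≤ fld (mapF (Nat.xor ub) Y fun X => rec2 L U K X e0) 8 255 e
  rw [mapF_eq]
  unfold rec2
  rw [mapF_eq, mapF_eq, fmF_eq, mapF_eq, fmF_eq, force_eq, List.map_id']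
  refine fib_inv (G := fun e' => ∀ k < 22, dt e' (UN.getD k 0) = dt e0 (UN.getD k 0))
    (I := fun T => fld T 8 255 e ≠ 0 → fx (n + 1) x ≤ fld T 8 255 e)
    or_inv (fun e' hG => leaf_inv e' ?_) K (fun κ hκ e' h k hk => ?_) e0 fun _ _ => rfl
  · rintro rfl
    have hab : ab y = ab (P ub) := ab_of_form fun k hk => by
      have h1 := hb.sn_pow he hN (c := 2 ^ k) (by rw [hp, ab_conj])
      have h2 : Sn (α ^ (n + 1)) (P (2 ^ k)) (Pauli.form y (P (2 ^ k))) := by
        unfold Sn
        rw [hp, MulAut.conj_apply, Pauli.conj_eq, ze_mul, add_comm]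
      have h3 := congrArg (bit · k) r3
      have h4 : k < ID.length := hk
      simp only [Nat.xor_eq, bit_xor] at h3
      rw [bit_colf _ _ _ h4, bit_colf _ _ _ h4, bit_vB _ (by rwa [lU]), ID_eq, idL_getD hk, bit_fm, ← hG k hk, gU k hk] at h3
      rw [h3, ← h2.sv_eq, h1.sv_eq]
    rw [← hy2] at H hu h19
    have hX := fr_of H hu h19 hab Y r6 r4 r5
    rw [hy2] at H hX
    refine bd_spec H hX (fun c hc => ?_) (fun a => Subtype.ext ?_) hL (fun c hc => Nat.blt_eq.mp (c3 c hc)) hb he rfl
    · obtain ⟨a, ha, rfl⟩ := List.mem_map.1 hc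
      exact Nat.xor_lt_two_pow lu (lY a ha)
    · show x.1 * Cd.R a = Cd.R (α a) * x.1
      rw [hx]
      exact hα.1 a
  · rw [dt_xor, h k hk, ← bit_vB κ (by rwa [lU]), Nat.eq_of_beq_eq_true (hK κ hκ), bit_zero, add_zero]

end Cfsg.Agent.TAB.B.DG
end

-- part: TAB/B/DG/Use
section
set_option linter.all false
open scoped Cfsg.Agent.FastGrp

/-!
# From the tables to the boxes (helper62, TAB)
-/

set_option autoImplicit false
set_option maxHeartbeats 400000
set_option linter.unusedSectionVars false

namespace Cfsg.Agent.TAB.B.DG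

open Cfsg Cfsg.Agent.TAB.B.Geo
open Cfsg.Agent.Monster.PauliBasic
open Cfsg.Agent.H633.Ore.Co2 (wd)
open Cfsg.Agent.TAB.B.C2
open Cfsg.Agent.BabyM Cfsg.Agent.BabyM.Conc Cfsg.Agent.BabyM.KTab Cfsg.Agent.BabyM.ThetaInst

/-- the inclusion of `C` -/
noncomputable def inc : C →* BG := Subgroup.inclusion Instance.all.C_le_G

theorem inc_comm (g : C) : inc g * zB = zB * inc g := comm_zB_iff.2 g.2

theorem ty_inv {i m : ℕ} {l : List (ℕ × ℤ)} (h : Eng.sg dat val i = (m + m, l)) (hl : (m, 19) ∈ l) {x : BG}
    (hx : TyB i x) : x ^ m * x ^ m = 1 ∧ tr (x ^ m) = 19 := by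
  obtain ⟨h1, h2⟩ := (tyB_iff h x).1 hx
  exact ⟨by rw [← pow_add, ← h1, pow_orderOf_eq_one], by exact_mod_cast h2 _ hl⟩

/-- the property which is counted in `C` -/
def Phi (i m w : ℕ) (g : C) : Prop := TyB i (inc g) ∧ InQ (inc g ^ m) ∧ fx m (inc g) ≤ w

theorem box_of' {i m w n : ℕ} (hw : 0 < w) (h : dat.cnt i * w ≤ 11707448673375 * n)
    (hn : n ≤ Nat.card {g : C // Phi i m w g}) : BoxB i :=
  box_of (m := m) hw h (hn.trans (Nat.card_le_card_of_injective (fun g => ⟨inc g.1, inc_comm g.1, g.2⟩)
    fun _ _ e => Subtype.ext (Subgroup.inclusion_injective _ (Subtype.mk.inj e))))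

end Cfsg.Agent.TAB.B.DG
end

-- part: DZ3/Glue
section
set_option linter.all false
open scoped Cfsg.Agent.FastGrp

/-!
# S4527: defect zero from a list of degrees (helper58)
-/

set_option autoImplicit false

open Cfsg

namespace Cfsg.Agent.DZ3

open Cfsg.Agent.H665.NoPQ Cfsg.Agent.TAB.Use

theorem mem_of_degList {K : Type*} [Group K] {L : List ℕ} (h : DegList K L) {d : ℕ} (hd : d ∈ L) :
    d ∈ charDegrees K := by
  obtain ⟨χ, hχ⟩ := h
  obtain ⟨j, hj, rfl⟩ := List.getElem_of_mem hd
  refine Spor.mem_of_one (hχ.irr j hj) ?_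
  rw [hχ.deg j hj, List.getD_eq_getElem _ _ hj]

/-- defect zero from a list of degrees -/
theorem of_degList {K : Type*} [Group K] {L : List ℕ} (h : DegList K L) {p a d n : ℕ} (hp : p.Prime) (hd : d ∈ L)
    (hn : Nat.card K = n) (h0 : n ≠ 0) (h1 : p ^ a ∣ d) (h2 : ¬ p ^ (a + 1) ∣ n) : HasDZ p K :=
  Spor.of_deg (MulEquiv.refl K) hp (mem_of_degList h hd) hn h0 h1 h2

/-- the Baby Monster -/
theorem b5_of {L : List ℕ} (h : DegList Spor.BabyMonster L) (hd : 9958526703125 ∈ L) : HasDZ 5 Spor.BabyMonster :=
  of_degList h (a := 6) (by norm_num) hd (NotCT.Orders.b ⟨MulEquiv.refl _⟩) (by norm_num) (by norm_num) (by norm_num)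

end Cfsg.Agent.DZ3
end
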